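import Cfsg.Prelude.Def_Classification2
import Cfsg.Prelude.Def_LieTypeChar
import Mathlib.Algebra.CharP.Basic
import Mathlib.Algebra.Field.ZMod
import Cfsg.Agent.Prune
set_option linter.all false
prune_inst 0x7f00000000000000000000000000000000000000000000000000000000000000000000000000000000000000000000000000000000000000000000000000000000000000000000000000000000000000003fffffffffffffffffffffffffffbeffbdffffffff

/-!
# A known simple group is alternating, of Lie type in some characteristic, the Tits group or sporadic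
-/

set_option autoImplicit false

universe u

namespace Cfsg.Agent.H912.Known

open Cfsg

theorem exists_char (F : Type) [Field F] [Fintype F] : ∃ p : ℕ, p.Prime ∧ CharP F p := by
  obtain ⟨p, hp⟩ := CharP.exists F
  have := CharP.char_is_prime F p
  exact ⟨p, this, hp⟩

theorem known_split {T : Type u} [Group T] (h : IsKnownSimple' T) (hc : ¬ IsPrimeCyclic T) :
    IsAlternating T ∨ (∃ r, r.Prime ∧ IsLieTypeChar r T) ∨ Lie.IsoTits T ∨ IsSporadicGroup T := by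
  rcases h with h | h | h | h | h | h | h | h | h | h
  · exact absurd h hc
  · exact Or.inl h
  · obtain ⟨F, _, _, n, h1, h2, h3⟩ := h
    obtain ⟨p, hp, hF⟩ := exists_char F
    exact Or.inr (Or.inl ⟨p, hp, Or.inl ⟨F, _, _, hF, n, h1, h2, h3⟩⟩)
  · obtain ⟨F, _, _, n, h1, h2, h3⟩ := h
    obtain ⟨p, hp, hF⟩ := exists_char F
    exact Or.inr (Or.inl ⟨p, hp, Or.inr (Or.inl ⟨F, _, _, hF, n, h1, h2, h3⟩)⟩)
  · obtain ⟨F, _, _, n, q, h1, h2, h3, h5⟩ := h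
    obtain ⟨p, hp, hF⟩ := exists_char F
    exact Or.inr (Or.inl ⟨p, hp, Or.inr (Or.inr (Or.inl ⟨F, _, _, hF, n, q, h1, h2, h3, h5⟩))⟩)
  · obtain ⟨F, _, _, n, h1, h2, h3⟩ := h
    obtain ⟨p, hp, hF⟩ := exists_char F
    exact Or.inr (Or.inl ⟨p, hp, Or.inr (Or.inr (Or.inr (Or.inl ⟨F, _, _, hF, n, h1, h2, h3⟩)))⟩)
  · obtain ⟨F, iF, iT, n, h1, h3⟩ := h
    obtain ⟨p, hp, hF⟩ := exists_char F
    have key : IsPOmegaPlusChar p T := ⟨F, iF, iT, hF, n, h1, h3⟩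
    exact Or.inr (Or.inl ⟨p, hp, Or.inr (Or.inr (Or.inr (Or.inr (Or.inl key))))⟩)
  · obtain ⟨F, iF, iT, n, a, b, h1, h2, h3⟩ := h
    obtain ⟨p, hp, hF⟩ := exists_char F
    have key : IsPOmegaMinusChar p T := ⟨F, iF, iT, hF, n, a, b, h1, h2, h3⟩
    exact Or.inr (Or.inl ⟨p, hp, Or.inr (Or.inr (Or.inr (Or.inr (Or.inr (Or.inl key)))))⟩)
  · have key1 : (∃ p : ℕ, p.Prime ∧ IsExceptionalChevChar p T) →
        IsAlternating T ∨ (∃ r, r.Prime ∧ IsLieTypeChar r T) ∨ Lie.IsoTits T ∨ IsSporadicGroup T := by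
      rintro ⟨p, hp, h⟩
      exact Or.inr (Or.inl ⟨p, hp, Or.inr (Or.inr (Or.inr (Or.inr (Or.inr (Or.inr (Or.inl h))))))⟩)
    have key2 : (∃ p : ℕ, p.Prime ∧ IsTwistedE6D4Char p T) →
        IsAlternating T ∨ (∃ r, r.Prime ∧ IsLieTypeChar r T) ∨ Lie.IsoTits T ∨ IsSporadicGroup T := by
      rintro ⟨p, hp, h⟩
      exact Or.inr (Or.inl ⟨p, hp, Or.inr (Or.inr (Or.inr (Or.inr (Or.inr (Or.inr (Or.inr (Or.inl h)))))))⟩)
    rcases h with ⟨F, iF, iT, h1, h2⟩ | ⟨F, iF, iT, h⟩ | ⟨F, iF, iT, h⟩ | ⟨F, iF, iT, h⟩ | ⟨F, iF, iT, h⟩ |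
      ⟨F, iF, iT, q, hq, h1, h2⟩ | ⟨F, iF, iT, q, hq, h1, h2⟩ | h | h | h | h
    · obtain ⟨p, hp, hF⟩ := exists_char F
      exact key1 ⟨p, hp, F, iF, iT, hF, Or.inl ⟨h1, h2⟩⟩
    · obtain ⟨p, hp, hF⟩ := exists_char F
      exact key1 ⟨p, hp, F, iF, iT, hF, Or.inr (Or.inl h)⟩
    · obtain ⟨p, hp, hF⟩ := exists_char F
      exact key1 ⟨p, hp, F, iF, iT, hF, Or.inr (Or.inr (Or.inl h))⟩
    · obtain ⟨p, hp, hF⟩ := exists_char F
      exact key1 ⟨p, hp, F, iF, iT, hF, Or.inr (Or.inr (Or.inr (Or.inl h)))⟩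
    · obtain ⟨p, hp, hF⟩ := exists_char F
      exact key1 ⟨p, hp, F, iF, iT, hF, Or.inr (Or.inr (Or.inr (Or.inr h)))⟩
    · obtain ⟨p, hp, hF⟩ := exists_char F
      exact key2 ⟨p, hp, F, iF, iT, hF, q, hq, Or.inl ⟨h1, h2⟩⟩
    · obtain ⟨p, hp, hF⟩ := exists_char F
      exact key2 ⟨p, hp, F, iF, iT, hF, q, hq, Or.inr ⟨h1, h2⟩⟩
    · exact Or.inr (Or.inl ⟨2, Nat.prime_two, Or.inr (Or.inr (Or.inr (Or.inr (Or.inr (Or.inr (Or.inr (Or.inr
        (Or.inl ⟨rfl, h⟩))))))))⟩)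
    · exact Or.inr (Or.inl ⟨3, Nat.prime_three, Or.inr (Or.inr (Or.inr (Or.inr (Or.inr (Or.inr (Or.inr (Or.inr
        (Or.inr (Or.inr ⟨rfl, h⟩)))))))))⟩)
    · exact Or.inr (Or.inl ⟨2, Nat.prime_two, Or.inr (Or.inr (Or.inr (Or.inr (Or.inr (Or.inr (Or.inr (Or.inr
        (Or.inr (Or.inl ⟨rfl, h⟩)))))))))⟩)
    · exact Or.inr (Or.inr (Or.inl h))
  · exact Or.inr (Or.inr (Or.inr h))

/-- A group is not cyclic of prime order when it is not commutative. -/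
theorem not_primeCyclic {T : Type u} [Group T] (h : ¬ IsMulCommutative T) : ¬ IsPrimeCyclic T := by
  intro h1
  apply h
  have h2 : (Nat.card T).Prime := h1
  have : Fact (Nat.card T).Prime := ⟨h2⟩
  have := isCyclic_of_prime_card (α := T) rfl
  exact IsCyclic.isMulCommutative

end Cfsg.Agent.H912.Known
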