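import Cfsg.Agent.H912.Core1
set_option linter.all false

-- part: H912/Core2
section
/-!
Clifford theory, second part: isotypic components.
-/

set_option autoImplicit false

namespace Cfsg.Agent.H912
open Cfsg Cfsg.Geo Matrix

variable {ι : Type} [Fintype ι] [DecidableEq ι] {F : Type*} [Field F]

/-- An invertible matrix as a linear equivalence of `F^ι`. -/
def glLin (g : GL ι F) : (ι → F) ≃ₗ[F] (ι → F) :=
  LinearEquiv.ofLinearMap (Matrix.toLin' (g : Matrix ι ι F)) (Matrix.toLin' ((g⁻¹ : GL ι F) : Matrix ι ι F))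
    (by rw [← Matrix.toLin'_mul, ← Units.val_mul, mul_inv_cancel, Units.val_one, Matrix.toLin'_one])
    (by rw [← Matrix.toLin'_mul, ← Units.val_mul, inv_mul_cancel, Units.val_one, Matrix.toLin'_one])

@[simp] theorem glLin_apply (g : GL ι F) (v : ι → F) : glLin g v = (g : Matrix ι ι F) *ᵥ v := by
  change Matrix.toLin' (g : Matrix ι ι F) v = _
  rw [toLin'_apply]

theorem translateIso_fi {H : Subgroup (GL ι F)} {A : Subalgebra F (Matrix ι ι F)} (hA : NormAlg H A)
    (h : H) {S : Submodule A (ι → F)} (hS : S.IsFullyInvariant) :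
    (translateIso hA h S).IsFullyInvariant := by
  intro f v hv
  rw [Submodule.mem_comap]
  rw [mem_translateIso] at hv ⊢
  have hinv : ∀ w : ι → F, (((h : GL ι F)⁻¹ : GL ι F) : Matrix ι ι F) *ᵥ (((h : GL ι F) : Matrix ι ι F) *ᵥ w) = w := by
    intro w
    rw [mulVec_mulVec, ← Units.val_mul, inv_mul_cancel, Units.val_one, one_mulVec]
  have hinv' : ∀ w : ι → F, ((h : GL ι F) : Matrix ι ι F) *ᵥ ((((h : GL ι F)⁻¹ : GL ι F) : Matrix ι ι F) *ᵥ w) = w := by
    intro w
    rw [mulVec_mulVec, ← Units.val_mul, mul_inv_cancel, Units.val_one, one_mulVec]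
  let g : Module.End A (ι → F) :=
    { toFun := fun w => (((h : GL ι F)⁻¹ : GL ι F) : Matrix ι ι F) *ᵥ f (((h : GL ι F) : Matrix ι ι F) *ᵥ w)
      map_add' := fun x y => by rw [mulVec_add, map_add, mulVec_add]
      map_smul' := fun a w => by
        have hmem := hA h h.2 a a.2
        have e1 : ((h : GL ι F) : Matrix ι ι F) *ᵥ (a • w) =
            (⟨_, hmem⟩ : A) • (((h : GL ι F) : Matrix ι ι F) *ᵥ w) := by
          change ((h : GL ι F) : Matrix ι ι F) *ᵥ ((a : Matrix ι ι F) *ᵥ w) =
            (((h : GL ι F) : Matrix ι ι F) * (a : Matrix ι ι F) * (((h : GL ι F)⁻¹ : GL ι F) : Matrix ι ι F)) *ᵥ (((h : GL ι F) : Matrix ι ι F) *ᵥ w)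
          rw [← mulVec_mulVec, hinv, mulVec_mulVec]
        rw [e1, map_smul]
        change (((h : GL ι F)⁻¹ : GL ι F) : Matrix ι ι F) *ᵥ ((((h : GL ι F) : Matrix ι ι F) * (a : Matrix ι ι F) * (((h : GL ι F)⁻¹ : GL ι F) : Matrix ι ι F)) *ᵥ _) =
          (a : Matrix ι ι F) *ᵥ ((((h : GL ι F)⁻¹ : GL ι F) : Matrix ι ι F) *ᵥ _)
        rw [mul_assoc, ← mulVec_mulVec, ← mulVec_mulVec, hinv] }
  have h1 := hS g hv
  rw [Submodule.mem_comap] at h1
  change (((h : GL ι F)⁻¹ : GL ι F) : Matrix ι ι F) *ᵥ f (((h : GL ι F) : Matrix ι ι F) *ᵥ _) ∈ S at h1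
  rwa [hinv'] at h1

/-- The isotypic components are the minimal non-zero fully invariant submodules. -/
theorem mem_isotypicComponents_iff_min {R M : Type*} [Ring R] [AddCommGroup M] [Module R M]
    [IsSemisimpleModule R M] {c : Submodule R M} :
    c ∈ isotypicComponents R M ↔ c ≠ ⊥ ∧ c.IsFullyInvariant ∧
      ∀ d : Submodule R M, d.IsFullyInvariant → d ≤ c → d = ⊥ ∨ d = c := by
  constructor
  · rintro ⟨S, hS, rfl⟩
    refine ⟨(bot_lt_isotypicComponent S).ne', .isotypicComponent R M S, fun d hd hle => ?_⟩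
    rcases IsSemisimpleModule.eq_bot_or_exists_simple_le d with h | ⟨S', hS', hS's⟩
    · exact Or.inl h
    · right
      refine le_antisymm hle ?_
      have h2 : isotypicComponent R M S = isotypicComponent R M S' :=
        eq_isotypicComponent_of_le ⟨S, hS, rfl⟩ (hS'.trans hle)
      rw [h2]
      exact isFullyInvariant_iff_le_imp_isotypicComponent_le.mp hd S' hS'
  · rintro ⟨hne, hfi, hmin⟩
    obtain ⟨S, hS, hSs⟩ := (IsSemisimpleModule.eq_bot_or_exists_simple_le c).resolve_left hne
    refine ⟨S, hSs, ?_⟩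
    have h1 := isFullyInvariant_iff_le_imp_isotypicComponent_le.mp hfi S hS
    exact ((hmin _ (.isotypicComponent R M S) h1).resolve_left (bot_lt_isotypicComponent S).ne').symm

theorem translateIso_isotypic {H : Subgroup (GL ι F)} (hirr : ActsIrreducibly (matrixSet H))
    {A : Subalgebra F (Matrix ι ι F)} (hA : NormAlg H A)
    (h : H) {S : Submodule A (ι → F)} (hS : S ∈ isotypicComponents A (ι → F)) :
    translateIso hA h S ∈ isotypicComponents A (ι → F) := by
  have := semisimple_of_norm hirr hA
  rw [mem_isotypicComponents_iff_min] at hS ⊢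
  obtain ⟨h1, h2, h3⟩ := hS
  have hcomp : ∀ T : Submodule A (ι → F), translateIso hA h (translateIso hA h⁻¹ T) = T := by
    intro T
    ext v
    rw [mem_translateIso, mem_translateIso]
    have : ((h⁻¹ : H) : GL ι F) = (h : GL ι F)⁻¹ := rfl
    rw [this, inv_inv, mulVec_mulVec, ← Units.val_mul, mul_inv_cancel, Units.val_one, one_mulVec]
  refine ⟨?_, translateIso_fi hA h h2, fun d hd hle => ?_⟩
  · intro hb
    apply h1
    have := congrArg (translateIso hA h).symm hb
    simpa using this
  · have h4 := h3 _ (translateIso_fi hA h⁻¹ hd) (by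
      have := (translateIso hA h⁻¹).monotone hle
      refine this.trans ?_
      have h5 := hcomp
      intro v hv
      rw [mem_translateIso, mem_translateIso] at hv
      have h6 : ((h⁻¹ : H) : GL ι F) = (h : GL ι F)⁻¹ := rfl
      rw [h6, inv_inv, mulVec_mulVec, ← Units.val_mul, inv_mul_cancel, Units.val_one, one_mulVec] at hv
      exact hv)
    rcases h4 with h4 | h4
    · left
      have := congrArg (translateIso hA h) h4
      rw [hcomp] at this
      simpa using this
    · right
      have := congrArg (translateIso hA h) h4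
      rw [hcomp] at this
      exact this

/-- `H` permutes the isotypic components transitively. -/
theorem exists_translate_eq {H : Subgroup (GL ι F)} (hirr : ActsIrreducibly (matrixSet H))
    {A : Subalgebra F (Matrix ι ι F)} (hA : NormAlg H A) {c d : Submodule A (ι → F)}
    (hc : c ∈ isotypicComponents A (ι → F)) (hd : d ∈ isotypicComponents A (ι → F)) :
    ∃ h : H, translateIso hA h c = d := by
  have := semisimple_of_norm hirr hA
  by_contra hcon
  push Not at hcon
  let T : Submodule A (ι → F) := ⨆ h : H, translateIso hA h c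
  have hT : T = ⊤ := by
    refine (eq_bot_or_top_of_invariant hirr T ?_).resolve_left ?_
    · intro h hh v hv
      have hmul : ∀ g : H, (translateIso hA ⟨h, hh⟩ (translateIso hA g c)) =
          translateIso hA (⟨h, hh⟩ * g) c := by
        intro g
        ext v
        rw [mem_translateIso, mem_translateIso, mem_translateIso, mulVec_mulVec, ← Units.val_mul,
          ← _root_.mul_inv_rev]
        rfl
      have hle : T ≤ (translateIso hA ⟨h, hh⟩).symm T := by
        rw [OrderIso.le_symm_apply, (translateIso hA ⟨h, hh⟩).map_iSup]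
        refine iSup_le fun g => ?_
        rw [hmul]
        exact le_iSup (fun k : H => translateIso hA k c) _
      have h2 := hle hv
      change _ ∈ translate (h : GL ι F)⁻¹ (fun a ha => by rw [inv_inv]; exact hA h hh a ha) T at h2
      rw [mem_translate, inv_inv] at h2
      exact h2
    · intro hbot
      have h1 : translateIso hA 1 c ≤ T := le_iSup (fun k : H => translateIso hA k c) 1
      rw [hbot, le_bot_iff] at h1
      have h2 := translateIso_isotypic hirr hA 1 hc
      rw [h1] at h2
      exact (bot_lt_isotypicComponents h2).ne rfl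
  have h1 := sSupIndep_isotypicComponents A (ι → F) hd
  have h2 : T ≤ sSup (isotypicComponents A (ι → F) \ {d}) :=
    iSup_le fun h => le_sSup ⟨translateIso_isotypic hirr hA h hc, fun h3 => hcon h h3⟩
  rw [hT, top_le_iff] at h2
  rw [h2, disjoint_top] at h1
  rw [h1] at hd
  exact (bot_lt_isotypicComponents hd).ne rfl

theorem map_toLin'_eq_translate {H : Subgroup (GL ι F)} {A : Subalgebra F (Matrix ι ι F)}
    (hA : NormAlg H A) (h : H) (S : Submodule A (ι → F)) :
    (S.restrictScalars F).map (Matrix.toLin' ((h : GL ι F) : Matrix ι ι F)) =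
      (translateIso hA h S).restrictScalars F := by
  ext v
  rw [Submodule.mem_map, Submodule.restrictScalars_mem, mem_translateIso]
  constructor
  · rintro ⟨w, hw, rfl⟩
    rw [toLin'_apply, mulVec_mulVec, ← Units.val_mul, inv_mul_cancel, Units.val_one, one_mulVec]
    exact hw
  · intro hv
    refine ⟨_, hv, ?_⟩
    rw [toLin'_apply, mulVec_mulVec, ← Units.val_mul, mul_inv_cancel, Units.val_one, one_mulVec]

/-- **Clifford's theorem**, decomposition form.  Either `F^ι` is an isotypic module for the normalised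
algebra `A`, or the isotypic components form a decomposition of `F^ι` stabilised by `H`. -/
theorem clifford_decomposition {H : Subgroup (GL ι F)} (hirr : ActsIrreducibly (matrixSet H))
    {A : Subalgebra F (Matrix ι ι F)} (hA : NormAlg H A) (hnot : ¬ IsIsotypic A (ι → F)) :
    ∃ (t m : ℕ) (D : Fin t → Submodule A (ι → F)),
      Function.Injective D ∧ Set.range D = isotypicComponents A (ι → F) ∧
      IsMDecomposition m (fun i => (D i).restrictScalars F) ∧
      H ≤ decompositionStabilizer (fun i => (D i).restrictScalars F) := by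
  have hss := semisimple_of_norm hirr hA
  have hfin : Finite (isotypicComponents A (ι → F)) := inferInstance
  obtain ⟨t, ⟨e⟩⟩ := Finite.exists_equiv_fin (isotypicComponents A (ι → F))
  let D : Fin t → Submodule A (ι → F) := fun i => (e.symm i : Submodule A (ι → F))
  have hDinj : Function.Injective D := fun i j hij => e.symm.injective (Subtype.ext hij)
  have hDr : Set.range D = isotypicComponents A (ι → F) := by
    ext c
    constructor
    · rintro ⟨i, rfl⟩
      exact (e.symm i).2
    · intro hc
      exact ⟨e ⟨c, hc⟩, by simp [D]⟩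
  have hDmem : ∀ i, D i ∈ isotypicComponents A (ι → F) := fun i => (e.symm i).2
  have hnontriv : Nontrivial (ι → F) := by
    by_contra hcon
    rw [not_nontrivial_iff_subsingleton] at hcon
    exact hnot (IsIsotypic.of_subsingleton A (ι → F))
  -- number of components
  have hsup : iSup D = ⊤ := by
    rw [← sSup_range, hDr]
    exact sSup_isotypicComponents A (ι → F)
  have ht0 : 0 < t := by
    rcases Nat.eq_zero_or_pos t with h | h
    · subst h
      exfalso
      rw [iSup_of_empty] at hsup
      exact bot_ne_top hsup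
    · exact h
  have ht : 2 ≤ t := by
    by_contra hlt
    have h1 : t = 1 := by omega
    subst h1
    have h2 : D 0 = ⊤ := by
      rw [← hsup]
      exact (iSup_unique (f := D)).symm
    have h3 := IsIsotypic.isotypicComponents (hDmem 0)
    rw [h2] at h3
    exact hnot (Submodule.topEquiv.isIsotypic_iff.mp h3)
  have hfinrank : ∀ i j, Module.finrank F ((D i).restrictScalars F) =
      Module.finrank F ((D j).restrictScalars F) := by
    intro i j
    obtain ⟨h, hh⟩ := exists_translate_eq hirr hA (hDmem i) (hDmem j)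
    rw [← hh, ← map_toLin'_eq_translate]
    have h1 := LinearEquiv.finrank_map_eq (glLin (h : GL ι F)) ((D i).restrictScalars F)
    rw [← h1]
    rfl
  refine ⟨t, Module.finrank F ((D ⟨0, ht0⟩).restrictScalars F), D, hDinj, hDr, ⟨ht, ?_, ?_, ?_, ?_⟩, ?_⟩
  · rw [Module.finrank_pos_iff, Submodule.nontrivial_iff_ne_bot]
    intro hb
    rw [Submodule.restrictScalars_eq_bot_iff] at hb
    have := bot_lt_isotypicComponents (hDmem ⟨0, ht0⟩)
    rw [hb] at this
    exact this.ne rfl
  · intro i
    exact hfinrank _ _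
  · have hind : iSupIndep D := by
      have h1 := (sSupIndep_iff _).mp (sSupIndep_isotypicComponents A (ι → F))
      exact h1.comp e.symm.injective
    intro i
    have h2 := hind i
    rw [← Submodule.disjoint_restrictScalars_iff F] at h2
    simpa only [Submodule.restrictScalars_iSup] using h2
  · have h1 := congrArg (Submodule.restrictScalars F) hsup
    rw [Submodule.restrictScalars_iSup] at h1
    exact h1
  · intro h hh
    have hex : ∀ i, ∃ j, D j = translateIso hA ⟨h, hh⟩ (D i) := by
      intro i
      have := translateIso_isotypic hirr hA ⟨h, hh⟩ (hDmem i)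
      rw [← hDr] at this
      exact this
    choose σ hσ using hex
    have hσinj : Function.Injective σ := by
      intro i j hij
      apply hDinj
      apply (translateIso hA ⟨h, hh⟩).injective
      rw [← hσ, ← hσ, hij]
    refine ⟨Equiv.ofBijective σ (Finite.injective_iff_bijective.mp hσinj), fun i => ?_⟩
    rw [Equiv.ofBijective_apply]
    change _ = (D (σ i)).restrictScalars F
    rw [hσ]
    exact map_toLin'_eq_translate hA ⟨h, hh⟩ (D i)

end Cfsg.Agent.H912
end

-- part: H912/Core3
section
/-!
Clifford theory, third part: the isotypic case.  The normalised algebra is simple and its centre is a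
field.
-/

set_option autoImplicit false

namespace Cfsg.Agent.H912
open Cfsg Cfsg.Geo Matrix

variable {ι : Type} [Fintype ι] [DecidableEq ι] {F : Type*} [Field F]

theorem isotypic_pi {R M : Type*} [Ring R] [AddCommGroup M] [Module R M] {κ : Type*}
    (hM : IsIsotypic R M) : IsIsotypic R (κ → M) := by
  have key : ∀ (m : Submodule R (κ → M)) [IsSimpleModule R m],
      ∃ n : Submodule R M, IsSimpleModule R n ∧ Nonempty (m ≃ₗ[R] n) := by
    intro m hm
    have : ∃ i : κ, ((LinearMap.proj i : (κ → M) →ₗ[R] M) ∘ₗ m.subtype) ≠ 0 := by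
      by_contra hcon
      push Not at hcon
      have h1 := IsSimpleModule.nontrivial R m
      obtain ⟨x, hx⟩ := exists_ne (0 : m)
      apply hx
      apply Subtype.ext
      funext i
      have := LinearMap.congr_fun (hcon i) x
      simpa using this
    obtain ⟨i, hi⟩ := this
    have hinj := LinearMap.injective_of_ne_zero hi
    let e := LinearEquiv.ofInjective _ hinj
    exact ⟨_, IsSimpleModule.congr e.symm, ⟨e⟩⟩
  intro m hm m' hm'
  obtain ⟨n, hn, ⟨e⟩⟩ := key m
  obtain ⟨n', hn', ⟨e'⟩⟩ := key m'
  exact ⟨(e'.trans (hM n n').some).trans e.symm⟩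

/-- A faithful isotypic semisimple module forces the algebra to be simple. -/
theorem isSimpleRing_of_isotypic [Nonempty ι] {A : Subalgebra F (Matrix ι ι F)}
    (hss : IsSemisimpleModule A (ι → F)) (hiso : IsIsotypic A (ι → F)) : IsSimpleRing A := by
  have hnt : Nontrivial A := inferInstance
  let f : A →ₗ[A] (ι → (ι → F)) := LinearMap.pi fun i =>
    LinearMap.toSpanSingleton A (ι → F) (Pi.single i 1)
  have hf : Function.Injective f := by
    rw [← LinearMap.ker_eq_bot, LinearMap.ker_eq_bot']
    intro a ha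
    apply Subtype.ext
    ext i j
    have h1 := congrFun (congrFun ha j) i
    change ((a : Matrix ι ι F) *ᵥ (Pi.single j 1)) i = 0 at h1
    simpa using h1
  have h1 : IsSemisimpleRing A := IsSemisimpleModule.of_injective f hf
  have h2 : IsIsotypic A A := (isotypic_pi hiso).of_injective f hf
  exact (isSimpleRing_isArtinianRing_iff.mpr ⟨h1, h2, hnt⟩).1

/-- The centre of a subalgebra of the matrix algebra, as a subalgebra of the matrix algebra. -/
def cen (A : Subalgebra F (Matrix ι ι F)) : Subalgebra F (Matrix ι ι F) :=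
  A ⊓ Subalgebra.centralizer F (A : Set (Matrix ι ι F))

theorem mem_cen {A : Subalgebra F (Matrix ι ι F)} {x : Matrix ι ι F} :
    x ∈ cen A ↔ x ∈ A ∧ ∀ a ∈ A, a * x = x * a := by
  unfold cen
  rw [Algebra.mem_inf, Subalgebra.mem_centralizer_iff]
  rfl

theorem cen_field [Nonempty ι] {A : Subalgebra F (Matrix ι ι F)} (hA : IsSimpleRing A) :
    IsFieldSubalgebra (Module.finrank F (cen A)) (cen A) where
  comm x hx y hy := by
    rw [mem_cen] at hx hy
    exact hy.2 x hx.1
  inv x hx hx0 := by
    rw [mem_cen] at hx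
    have h1 := IsSimpleRing.isField_center A
    have hxc : (⟨x, hx.1⟩ : A) ∈ Subring.center A := by
      rw [Subring.mem_center_iff]
      intro a
      exact Subtype.ext (hx.2 a a.2)
    obtain ⟨y, hy⟩ := h1.mul_inv_cancel (a := ⟨⟨x, hx.1⟩, hxc⟩) (by
      intro h
      apply hx0
      exact congrArg (fun z : Subring.center A => ((z : A) : Matrix ι ι F)) h)
    refine ⟨((y : A) : Matrix ι ι F), ?_, ?_⟩
    · rw [mem_cen]
      refine ⟨(y : A).2, fun a ha => ?_⟩
      have := Subring.mem_center_iff.mp y.2 ⟨a, ha⟩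
      exact congrArg (fun z : A => (z : Matrix ι ι F)) this
    · exact congrArg (fun z : Subring.center A => ((z : A) : Matrix ι ι F)) hy
  finrank_eq := rfl

theorem NormAlg.cen {H : Subgroup (GL ι F)} {A : Subalgebra F (Matrix ι ι F)} (hA : NormAlg H A) :
    NormAlg H (cen A) := by
  intro h hh x hx
  rw [mem_cen] at hx ⊢
  refine ⟨hA h hh x hx.1, fun a ha => ?_⟩
  have h1 := hx.2 _ (hA.inv_mem hh ha)
  have h2 := congrArg (fun y => (h : Matrix ι ι F) * y * ((h⁻¹ : GL ι F) : Matrix ι ι F)) h1
  have e1 : (h : Matrix ι ι F) * ((h⁻¹ : GL ι F) : Matrix ι ι F) = 1 := by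
    rw [← Units.val_mul, mul_inv_cancel, Units.val_one]
  calc a * ((h : Matrix ι ι F) * x * ((h⁻¹ : GL ι F) : Matrix ι ι F))
      = ((h : Matrix ι ι F) * ((h⁻¹ : GL ι F) : Matrix ι ι F)) * a * ((h : Matrix ι ι F) * x * ((h⁻¹ : GL ι F) : Matrix ι ι F)) := by
        rw [e1, one_mul]
    _ = (h : Matrix ι ι F) * (((h⁻¹ : GL ι F) : Matrix ι ι F) * a * (h : Matrix ι ι F) * x) * ((h⁻¹ : GL ι F) : Matrix ι ι F) := by
        simp only [mul_assoc]
    _ = (h : Matrix ι ι F) * (x * (((h⁻¹ : GL ι F) : Matrix ι ι F) * a * (h : Matrix ι ι F))) * ((h⁻¹ : GL ι F) : Matrix ι ι F) := h2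
    _ = (h : Matrix ι ι F) * x * ((h⁻¹ : GL ι F) : Matrix ι ι F) * a * ((h : Matrix ι ι F) * ((h⁻¹ : GL ι F) : Matrix ι ι F)) := by
        simp only [mul_assoc]
    _ = _ := by rw [e1, mul_one]

end Cfsg.Agent.H912
end

-- part: H912/Core4
section
/-!
Subfields of matrix algebras over finite fields: for every divisor of the degree there is a unique, hence
normalised, subfield.
-/

set_option autoImplicit false

namespace Cfsg.Agent.H912
open Cfsg Cfsg.Geo Matrix

variable {ι : Type} [Fintype ι] [DecidableEq ι] {F : Type*} [Field F]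

/-- The field structure on a field subalgebra (same ring structure). -/
theorem isField_of_fieldSub [Nonempty ι] {r : ℕ} {K : Subalgebra F (Matrix ι ι F)}
    (hK : IsFieldSubalgebra r K) : IsField K where
  exists_pair_ne := exists_pair_ne K
  mul_comm x y := Subtype.ext (hK.comm x x.2 y y.2)
  mul_inv_cancel {x} hx := by
    obtain ⟨y, hy, hxy⟩ := hK.inv x x.2 (fun h => hx (Subtype.ext h))
    exact ⟨⟨y, hy⟩, Subtype.ext hxy⟩

theorem finrank_pos_fieldSub [Nonempty ι] {r : ℕ} {K : Subalgebra F (Matrix ι ι F)}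
    (hK : IsFieldSubalgebra r K) : 0 < r := by
  rw [← hK.finrank_eq]
  exact Module.finrank_pos

/-- The degree of a field subalgebra divides the dimension of the space. -/
theorem finrank_dvd_of_fieldSub [Nonempty ι] {r : ℕ} {K : Subalgebra F (Matrix ι ι F)}
    (hK : IsFieldSubalgebra r K) : r ∣ Fintype.card ι := by
  let _ : Field K := (isField_of_fieldSub hK).toField
  have h1 := Module.finrank_mul_finrank F K (ι → F)
  rw [hK.finrank_eq, Module.finrank_fintype_fun_eq_card] at h1
  exact ⟨_, h1.symm⟩

/-- The restriction of a conjugation to a normalised subalgebra. -/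
noncomputable def conjSub {H : Subgroup (GL ι F)} {K : Subalgebra F (Matrix ι ι F)} (hK : NormAlg H K)
    (h : H) : K ≃ₐ[F] K :=
  AlgEquiv.ofAlgHom
    (((conjAlg (h : GL ι F) : Matrix ι ι F →ₐ[F] Matrix ι ι F).comp K.val).codRestrict K
      (fun x => hK h h.2 x x.2))
    (((conjAlg (h : GL ι F)⁻¹ : Matrix ι ι F →ₐ[F] Matrix ι ι F).comp K.val).codRestrict K
      (fun x => by
        have := hK h⁻¹ (h⁻¹).2 x x.2
        exact this))
    (by
      ext1 x
      apply Subtype.ext
      change ((h : GL ι F) : Matrix ι ι F) * ((((h : GL ι F)⁻¹ : GL ι F) : Matrix ι ι F) * x *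
        ((((h : GL ι F)⁻¹)⁻¹ : GL ι F) : Matrix ι ι F)) * (((h : GL ι F)⁻¹ : GL ι F) : Matrix ι ι F) = x
      rw [inv_inv, ← mul_assoc, ← mul_assoc, ← Units.val_mul, mul_inv_cancel, Units.val_one, one_mul,
        mul_assoc, ← Units.val_mul, mul_inv_cancel, Units.val_one, mul_one])
    (by
      ext1 x
      apply Subtype.ext
      change (((h : GL ι F)⁻¹ : GL ι F) : Matrix ι ι F) * (((h : GL ι F) : Matrix ι ι F) * x *
        (((h : GL ι F)⁻¹ : GL ι F) : Matrix ι ι F)) * ((((h : GL ι F)⁻¹)⁻¹ : GL ι F) : Matrix ι ι F) = x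
      rw [inv_inv, ← mul_assoc, ← mul_assoc, ← Units.val_mul, inv_mul_cancel, Units.val_one, one_mul,
        mul_assoc, ← Units.val_mul, inv_mul_cancel, Units.val_one, mul_one])

theorem conjSub_coe {H : Subgroup (GL ι F)} {K : Subalgebra F (Matrix ι ι F)} (hK : NormAlg H K)
    (h : H) (x : K) : ((conjSub hK h x : K) : Matrix ι ι F) =
      ((h : GL ι F) : Matrix ι ι F) * x * (((h : GL ι F)⁻¹ : GL ι F) : Matrix ι ι F) := rfl

/-- In a finite extension of finite fields, every divisor of the degree is the degree of an intermediate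
field, stable under all automorphisms. -/
theorem exists_stable_intermediate (F K : Type*) [Field F] [Finite F] [Field K] [Algebra F K]
    [FiniteDimensional F K] {r : ℕ} (hr : r ∣ Module.finrank F K) :
    ∃ L : IntermediateField F K, Module.finrank F L = r ∧ ∀ (σ : K ≃ₐ[F] K), ∀ x ∈ L, σ x ∈ L := by
  have hfinK : Finite K := Module.finite_of_finite F
  have hgal : IsGalois F K := inferInstance
  obtain ⟨g, hg⟩ := IsCyclic.exists_ofOrder_eq_natCard (α := (K ≃ₐ[F] K))
  have hcard : Nat.card (K ≃ₐ[F] K) = Module.finrank F K := IsGalois.card_aut_eq_finrank F K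
  obtain ⟨s, hs⟩ := hr
  have hpos : 0 < Module.finrank F K := Module.finrank_pos
  have hs0 : 0 < s := Nat.pos_of_ne_zero (by rintro rfl; omega)
  have hr0 : 0 < r := Nat.pos_of_ne_zero (by rintro rfl; omega)
  let U : Subgroup (K ≃ₐ[F] K) := Subgroup.zpowers (g ^ r)
  have hU : Nat.card U = s := by
    rw [Nat.card_zpowers, orderOf_pow_of_dvd hr0.ne' (by rw [hg, hcard, hs]; exact ⟨s, rfl⟩), hg, hcard, hs,
      Nat.mul_div_cancel_left _ hr0]
  refine ⟨IntermediateField.fixedField U, ?_, ?_⟩
  · have h1 := IntermediateField.finrank_fixedField_eq_card U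
    have h2 := Module.finrank_mul_finrank F (IntermediateField.fixedField U) K
    rw [h1, hU, hs] at h2
    exact Nat.eq_of_mul_eq_mul_right hs0 h2
  · intro σ x hx
    rw [IntermediateField.mem_fixedField_iff] at hx ⊢
    intro u hu
    have hcomm : u * σ = σ * u := by
      let _ : CommGroup (K ≃ₐ[F] K) := IsCyclic.commGroup
      exact mul_comm u σ
    have h3 : u (σ x) = σ (u x) := by
      have := congrArg (fun τ : K ≃ₐ[F] K => τ x) hcomm
      simpa using this
    rw [h3, hx u hu]

/-- Every divisor of the degree of a field subalgebra is the degree of a smaller field subalgebra which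
is normalised by everything normalising the bigger one. -/
theorem exists_subfield_of_dvd [Nonempty ι] [Finite F] {r₀ r : ℕ} {K : Subalgebra F (Matrix ι ι F)}
    (hK : IsFieldSubalgebra r₀ K) (hr : r ∣ r₀) :
    ∃ K' : Subalgebra F (Matrix ι ι F), K' ≤ K ∧ IsFieldSubalgebra r K' ∧
      ∀ H : Subgroup (GL ι F), NormAlg H K → NormAlg H K' := by
  let _ : Field K := (isField_of_fieldSub hK).toField
  obtain ⟨L, hL, hst⟩ := exists_stable_intermediate F K (r := r) (by rw [hK.finrank_eq]; exact hr)
  refine ⟨L.toSubalgebra.map K.val, ?_, ⟨?_, ?_, ?_⟩, ?_⟩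
  · rintro _ ⟨x, _, rfl⟩
    exact x.2
  · rintro _ ⟨x, _, rfl⟩ _ ⟨y, _, rfl⟩
    exact hK.comm x x.2 y y.2
  · rintro _ ⟨x, hx, rfl⟩ hx0
    have hx1 : x ≠ 0 := by
      rintro rfl
      exact hx0 rfl
    refine ⟨_, ⟨x⁻¹, L.inv_mem hx, rfl⟩, ?_⟩
    have := mul_inv_cancel₀ hx1
    exact congrArg (fun z : K => (z : Matrix ι ι F)) this
  · rw [← hL]
    have hinj : Function.Injective K.val := Subtype.val_injective
    have e := (Subalgebra.equivMapOfInjective L.toSubalgebra K.val hinj).toLinearEquiv
    exact e.finrank_eq.symm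
  · intro H hH h hh x hx
    obtain ⟨x, hx, rfl⟩ := hx
    exact ⟨_, hst (conjSub hH ⟨h, hh⟩) x hx, rfl⟩

end Cfsg.Agent.H912
end
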