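import Cfsg.Agent.H912.Core6
import Cfsg.Agent.H919.AschDefs
set_option linter.all false

/-!
Tensor decompositions compatible with a form (piece B3 of the Aschbacher core).
-/

set_option autoImplicit false

namespace Cfsg.Agent.H912
open Cfsg Cfsg.Geo Matrix Cfsg.Agent.H919
open scoped Kronecker

variable {ι : Type} [Fintype ι] [DecidableEq ι] {F : Type*} [Field F]

/-- One-sided normalisation suffices in finite dimension. -/
theorem mem_subalgebraNormalizer_of_forall {A : Subalgebra F (Matrix ι ι F)} {g : GL ι F}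
    (hg : ∀ k ∈ A, (g : Matrix ι ι F) * k * ((g⁻¹ : GL ι F) : Matrix ι ι F) ∈ A) :
    g ∈ subalgebraNormalizer A := by
  have h1 : A.map (conjAlg g : Matrix ι ι F →ₐ[F] Matrix ι ι F) ≤ A := by
    rintro _ ⟨x, hx, rfl⟩
    exact hg x hx
  have h2 : A.map (conjAlg g : Matrix ι ι F →ₐ[F] Matrix ι ι F) = A := by
    apply Subalgebra.toSubmodule_injective
    apply Submodule.eq_of_le_of_finrank_eq h1
    have e := (Subalgebra.equivMapOfInjective A (conjAlg g : Matrix ι ι F →ₐ[F] Matrix ι ι F)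
      (conjAlg g).injective).toLinearEquiv
    exact e.finrank_eq.symm
  intro k
  refine ⟨hg k, fun hk => ?_⟩
  rw [← h2] at hk
  obtain ⟨x, hx, hxk⟩ := hk
  have : x = k := (conjAlg g).injective hxk
  rw [← this]
  exact hx

theorem normAlg_subalgebraNormalizer (A : Subalgebra F (Matrix ι ι F)) :
    NormAlg (subalgebraNormalizer A) A := fun _ hh a ha => (hh a).mp ha

/-- The subalgebra `P (M_{n₁} ⊗ 1) P⁻¹`. -/
def tensAlg {n₁ n₂ : ℕ} (e : ι ≃ Fin n₁ × Fin n₂) (P : GL ι F) : Subalgebra F (Matrix ι ι F) where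
  carrier := {x | ∃ a : Matrix (Fin n₁) (Fin n₁) F, x = tens e P a 1}
  mul_mem' := by
    rintro _ _ ⟨a, rfl⟩ ⟨b, rfl⟩
    exact ⟨a * b, by rw [tens_mul, mul_one]⟩
  add_mem' := by
    rintro _ _ ⟨a, rfl⟩ ⟨b, rfl⟩
    exact ⟨a + b, by unfold tens; rw [add_kronecker, map_add, mul_add, add_mul]⟩
  algebraMap_mem' r := ⟨r • 1, by
    rw [Algebra.algebraMap_eq_smul_one, ← tens_one e P]
    unfold tens
    rw [smul_kronecker, map_smul, mul_smul_comm, smul_mul_assoc]⟩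

theorem mem_tensAlg {n₁ n₂ : ℕ} {e : ι ≃ Fin n₁ × Fin n₂} {P : GL ι F} {x : Matrix ι ι F} :
    x ∈ tensAlg e P ↔ ∃ a : Matrix (Fin n₁) (Fin n₁) F, x = tens e P a 1 := Iff.rfl

/-- An invertible matrix normalising `M_{n₁} ⊗ 1` is a Kronecker product. -/
theorem exists_kronecker_of_norm {n₁ n₂ : ℕ} (hn : 0 < n₁) (hn2 : 0 < n₂)
    (Γ : GL (Fin n₁ × Fin n₂) F)
    (h : ∀ a : Matrix (Fin n₁) (Fin n₁) F, ∃ a' : Matrix (Fin n₁) (Fin n₁) F,
      (Γ : Matrix _ _ F) * (a ⊗ₖ (1 : Matrix (Fin n₂) (Fin n₂) F)) = (a' ⊗ₖ 1) * (Γ : Matrix _ _ F)) :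
    ∃ (G₁ : GL (Fin n₁) F) (G₂ : GL (Fin n₂) F),
      (Γ : Matrix (Fin n₁ × Fin n₂) (Fin n₁ × Fin n₂) F) = (G₁ : Matrix _ _ F) ⊗ₖ (G₂ : Matrix _ _ F) := by
  have htens : ∀ (a : Matrix (Fin n₁) (Fin n₁) F) (b : Matrix (Fin n₂) (Fin n₂) F),
      tens (Equiv.refl (Fin n₁ × Fin n₂)) (1 : GL (Fin n₁ × Fin n₂) F) a b = a ⊗ₖ b := by
    intro a b
    unfold tens
    rw [inv_one, Units.val_one, one_mul, mul_one]
    rfl
  have h1 : Γ ∈ subalgebraNormalizer (tensAlg (Equiv.refl (Fin n₁ × Fin n₂)) (1 : GL (Fin n₁ × Fin n₂) F)) := by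
    apply mem_subalgebraNormalizer_of_forall
    rintro _ ⟨a, rfl⟩
    obtain ⟨a', ha'⟩ := h a
    refine ⟨a', ?_⟩
    rw [htens, htens, ha', mul_assoc, ← Units.val_mul, mul_inv_cancel, Units.val_one, mul_one]
  obtain ⟨g, ⟨k, ⟨G₁, G₂, hk⟩, rfl⟩, hg⟩ := le_tensorProductSubgroup hn hn2
    (A := tensAlg (Equiv.refl (Fin n₁ × Fin n₂)) (1 : GL (Fin n₁ × Fin n₂) F)) (fun x => mem_tensAlg)
    (normAlg_subalgebraNormalizer _) h1
  refine ⟨G₁, G₂, ?_⟩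
  rw [← hk, ← hg]
  change ((1 : Matrix _ _ F) * (Matrix.reindexAlgEquiv F F (Equiv.refl (Fin n₁ × Fin n₂)).symm
    (k : Matrix _ _ F)) * ((1⁻¹ : GL (Fin n₁ × Fin n₂) F) : Matrix _ _ F)) = _
  rw [inv_one, Units.val_one, one_mul, mul_one]
  rfl

/-- Gram matrix of `f` in the basis given by `P` and `e`. -/
def gramPe {κ : Type} [Fintype κ] [DecidableEq κ] (f : (ι → F) → (ι → F) → F) (e : ι ≃ κ) (P : GL ι F) :
    Matrix κ κ F :=
  fun a b => f ((P : Matrix ι ι F) *ᵥ (Pi.single a 1 ∘ e)) ((P : Matrix ι ι F) *ᵥ (Pi.single b 1 ∘ e))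

theorem comp_eq_sum {κ : Type} [Fintype κ] [DecidableEq κ] (e : ι ≃ κ) (P : GL ι F) (x : κ → F) :
    (P : Matrix ι ι F) *ᵥ (x ∘ e) = ∑ a, x a • ((P : Matrix ι ι F) *ᵥ (Pi.single a (1 : F) ∘ e)) := by
  have h1 : (x ∘ e : ι → F) = ∑ a, x a • (Pi.single a (1 : F) ∘ e : ι → F) := by
    funext l
    simp [Finset.sum_apply, Pi.single_apply]
  rw [h1, Matrix.mulVec_sum]
  simp only [Matrix.mulVec_smul]

theorem form_eq_formOfGram {σ : F ≃+* F} {ε : F} {f : (ι → F) → (ι → F) → F} (hf : HermForm σ ε f)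
    {κ : Type} [Fintype κ] [DecidableEq κ] (e : ι ≃ κ) (P : GL ι F) (x y : κ → F) :
    f ((P : Matrix ι ι F) *ᵥ (x ∘ e)) ((P : Matrix ι ι F) *ᵥ (y ∘ e)) = formOfGram σ (gramPe f e P) x y := by
  rw [comp_eq_sum e P x, comp_eq_sum e P y, hf.sum_left]
  unfold formOfGram
  refine Finset.sum_congr rfl fun a _ => ?_
  rw [hf.smul_left, hf.sum_right, Finset.mul_sum]
  refine Finset.sum_congr rfl fun b _ => ?_
  rw [hf.smul_right]
  unfold gramPe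
  ring

theorem formOfGram_eq_dotProduct {κ : Type} [Fintype κ] [DecidableEq κ] (σ : F → F) (G : Matrix κ κ F)
    (x y : κ → F) : formOfGram σ G x y = x ⬝ᵥ (G *ᵥ (fun b => σ (y b))) := by
  unfold formOfGram
  simp only [dotProduct, mulVec, Finset.mul_sum, mul_assoc]

theorem formOfGram_single {κ : Type} [Fintype κ] [DecidableEq κ] (σ : F ≃+* F) (G : Matrix κ κ F)
    (a b : κ) : formOfGram σ G (Pi.single a 1) (Pi.single b 1) = G a b := by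
  unfold formOfGram
  rw [Finset.sum_eq_single a, Finset.sum_eq_single b]
  · simp
  · intro c _ hc
    simp [hc]
  · intro h; exact absurd (Finset.mem_univ _) h
  · intro c _ hc
    simp [hc]
  · intro h; exact absurd (Finset.mem_univ _) h

theorem exists_comp_eq {κ : Type} [Fintype κ] [DecidableEq κ] (e : ι ≃ κ) (P : GL ι F) (v : ι → F) :
    ∃ x : κ → F, v = (P : Matrix ι ι F) *ᵥ (x ∘ e) := by
  refine ⟨(((P⁻¹ : GL ι F) : Matrix ι ι F) *ᵥ v) ∘ e.symm, ?_⟩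
  have : ((((P⁻¹ : GL ι F) : Matrix ι ι F) *ᵥ v) ∘ e.symm) ∘ e = ((P⁻¹ : GL ι F) : Matrix ι ι F) *ᵥ v := by
    funext l; simp
  rw [this, mulVec_mulVec, ← Units.val_mul, mul_inv_cancel, Units.val_one, one_mulVec]

theorem isUnit_det_gramPe {σ : F ≃+* F} {ε : F} {f : (ι → F) → (ι → F) → F} (hf : HermForm σ ε f)
    {κ : Type} [Fintype κ] [DecidableEq κ] (e : ι ≃ κ) (P : GL ι F) : IsUnit (gramPe f e P).det := by
  rw [isUnit_iff_ne_zero]
  intro hdet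
  obtain ⟨z, hz0, hz⟩ := Matrix.exists_mulVec_eq_zero_iff.mpr hdet
  apply hz0
  have h1 : ∀ x : κ → F, f ((P : Matrix ι ι F) *ᵥ (x ∘ e)) ((P : Matrix ι ι F) *ᵥ ((fun b => σ (z b)) ∘ e)) = 0 := by
    intro x
    rw [form_eq_formOfGram hf, formOfGram_eq_dotProduct]
    simp only [hf.sigma_sq]
    rw [show (fun b => z b) = z from rfl, hz, dotProduct_zero]
  have h2 : (P : Matrix ι ι F) *ᵥ ((fun b => σ (z b)) ∘ e) = 0 := by
    by_contra hne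
    obtain ⟨⟨v, hv⟩, _⟩ := hf.nondegenerate _ hne
    obtain ⟨x, rfl⟩ := exists_comp_eq e P v
    exact hv (h1 x)
  have h3 : ((fun b => σ (z b)) ∘ e : ι → F) = 0 := by
    have := congrArg (fun u => ((P⁻¹ : GL ι F) : Matrix ι ι F) *ᵥ u) h2
    simpa [mulVec_mulVec, ← Units.val_mul] using this
  funext b
  have h4 := congrFun h3 (e.symm b)
  simp only [Function.comp_apply, Equiv.apply_symm_apply, Pi.zero_apply, EmbeddingLike.map_eq_zero_iff] at h4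
  exact h4

theorem tens_mulVec {n₁ n₂ : ℕ} (e : ι ≃ Fin n₁ × Fin n₂) (P : GL ι F) (a : Matrix (Fin n₁) (Fin n₁) F)
    (b : Matrix (Fin n₂) (Fin n₂) F) (x : Fin n₁ × Fin n₂ → F) :
    tens e P a b *ᵥ ((P : Matrix ι ι F) *ᵥ (x ∘ e)) = (P : Matrix ι ι F) *ᵥ (((a ⊗ₖ b) *ᵥ x) ∘ e) := by
  unfold tens
  rw [mulVec_mulVec, mul_assoc _ _ (P : Matrix ι ι F), ← Units.val_mul, inv_mul_cancel, Units.val_one,
    mul_one, ← mulVec_mulVec]
  congr 1
  funext l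
  simp only [mulVec, dotProduct, coe_reindexAlgEquiv, reindex_apply, submatrix_apply, Equiv.symm_symm,
    Function.comp_apply]
  exact e.sum_comp (fun p => (a ⊗ₖ b) (e l) p * x p)

/-- The Gram matrix of a form for which `M_{n₁} ⊗ 1` is adjoint-closed is a Kronecker product. -/
theorem gramPe_kronecker {σ : F ≃+* F} {ε : F} {f : (ι → F) → (ι → F) → F} (hf : HermForm σ ε f)
    {n₁ n₂ : ℕ} (hn : 0 < n₁) (hn2 : 0 < n₂) {e : ι ≃ Fin n₁ × Fin n₂} {P : GL ι F}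
    {A : Subalgebra F (Matrix ι ι F)} (hA : ∀ x, x ∈ A ↔ ∃ a : Matrix (Fin n₁) (Fin n₁) F, x = tens e P a 1)
    (hadj : IsAdjointClosedFor f A) :
    ∃ (G₁ : GL (Fin n₁) F) (G₂ : GL (Fin n₂) F), gramPe f e P = (G₁ : Matrix _ _ F) ⊗ₖ (G₂ : Matrix _ _ F) := by
  obtain ⟨Γ, hΓ⟩ : ∃ Γ : GL (Fin n₁ × Fin n₂) F, (Γ : Matrix _ _ F) = gramPe f e P :=
    ⟨Matrix.nonsingInvUnit _ (isUnit_det_gramPe hf e P), rfl⟩
  have key : ∀ b : Matrix (Fin n₁) (Fin n₁) F, ∃ b' : Matrix (Fin n₁) (Fin n₁) F,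
      (b ⊗ₖ (1 : Matrix (Fin n₂) (Fin n₂) F)) * (Γ : Matrix _ _ F) = (Γ : Matrix _ _ F) * (b' ⊗ₖ 1) := by
    intro b
    obtain ⟨k', hk', h1⟩ := hadj (tens e P bᵀ 1) ((hA _).mpr ⟨bᵀ, rfl⟩)
    obtain ⟨a', rfl⟩ := (hA _).mp hk'
    refine ⟨a'.map σ, ?_⟩
    rw [hΓ]
    ext p q
    have h2 := h1 ((P : Matrix ι ι F) *ᵥ (Pi.single p 1 ∘ e)) ((P : Matrix ι ι F) *ᵥ (Pi.single q 1 ∘ e))
    rw [tens_mulVec, tens_mulVec, form_eq_formOfGram hf, form_eq_formOfGram hf] at h2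
    have e1 : formOfGram σ (gramPe f e P) ((bᵀ ⊗ₖ (1 : Matrix (Fin n₂) (Fin n₂) F)) *ᵥ Pi.single p 1)
        (Pi.single q 1) = ((b ⊗ₖ (1 : Matrix (Fin n₂) (Fin n₂) F)) * gramPe f e P) p q := by
      rw [formOfGram_eq_dotProduct]
      have e3 : (fun b : Fin n₁ × Fin n₂ => σ ((Pi.single q (1 : F) : Fin n₁ × Fin n₂ → F) b)) = Pi.single q (1 : F) := by
        funext b
        by_cases h : b = q
        · subst h; simp
        · simp [h]
      rw [e3, mulVec_single_one, mulVec_single_one, Matrix.mul_apply]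
      simp only [dotProduct, col_apply]
      refine Finset.sum_congr rfl fun x _ => ?_
      congr 1
      simp [kroneckerMap_apply, Matrix.one_apply, eq_comm]
    have e2 : formOfGram σ (gramPe f e P) (Pi.single p 1)
        ((a' ⊗ₖ (1 : Matrix (Fin n₂) (Fin n₂) F)) *ᵥ Pi.single q 1) =
          (gramPe f e P * ((a'.map σ) ⊗ₖ (1 : Matrix (Fin n₂) (Fin n₂) F))) p q := by
      rw [formOfGram_eq_dotProduct, mulVec_single_one, single_one_dotProduct, Matrix.mul_apply]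
      simp only [mulVec, dotProduct, col_apply]
      refine Finset.sum_congr rfl fun x _ => ?_
      congr 1
      by_cases h : x.2 = q.2 <;> simp [kroneckerMap_apply, Matrix.one_apply, h]
    rw [e1, e2] at h2
    exact h2
  obtain ⟨G₁, G₂, hG⟩ := exists_kronecker_of_norm hn hn2 Γ⁻¹ (by
    intro a
    obtain ⟨a', ha'⟩ := key a
    refine ⟨a', ?_⟩
    have h1 : ((Γ⁻¹ : GL (Fin n₁ × Fin n₂) F) : Matrix (Fin n₁ × Fin n₂) (Fin n₁ × Fin n₂) F) * (Γ : Matrix (Fin n₁ × Fin n₂) (Fin n₁ × Fin n₂) F) = 1 := by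
      rw [← Units.val_mul, inv_mul_cancel, Units.val_one]
    have h2 : (Γ : Matrix (Fin n₁ × Fin n₂) (Fin n₁ × Fin n₂) F) * ((Γ⁻¹ : GL (Fin n₁ × Fin n₂) F) : Matrix (Fin n₁ × Fin n₂) (Fin n₁ × Fin n₂) F) = 1 := by
      rw [← Units.val_mul, mul_inv_cancel, Units.val_one]
    calc ((Γ⁻¹ : GL (Fin n₁ × Fin n₂) F) : Matrix (Fin n₁ × Fin n₂) (Fin n₁ × Fin n₂) F) * (a ⊗ₖ (1 : Matrix (Fin n₂) (Fin n₂) F))
        = ((Γ⁻¹ : GL (Fin n₁ × Fin n₂) F) : Matrix (Fin n₁ × Fin n₂) (Fin n₁ × Fin n₂) F) * ((a ⊗ₖ (1 : Matrix (Fin n₂) (Fin n₂) F)) * (Γ : Matrix (Fin n₁ × Fin n₂) (Fin n₁ × Fin n₂) F)) *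
            ((Γ⁻¹ : GL (Fin n₁ × Fin n₂) F) : Matrix (Fin n₁ × Fin n₂) (Fin n₁ × Fin n₂) F) := by
          rw [mul_assoc, mul_assoc, h2, mul_one]
      _ = _ := by rw [ha', ← mul_assoc, h1, one_mul])
  refine ⟨G₁⁻¹, G₂⁻¹, ?_⟩
  rw [← hΓ]
  have h3 : (Γ : Matrix (Fin n₁ × Fin n₂) (Fin n₁ × Fin n₂) F) * ((G₁ : Matrix (Fin n₁) (Fin n₁) F) ⊗ₖ (G₂ : Matrix (Fin n₂) (Fin n₂) F)) = 1 := by
    rw [← hG, ← Units.val_mul, mul_inv_cancel, Units.val_one]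
  calc (Γ : Matrix (Fin n₁ × Fin n₂) (Fin n₁ × Fin n₂) F) = (Γ : Matrix (Fin n₁ × Fin n₂) (Fin n₁ × Fin n₂) F) * (((G₁ : Matrix (Fin n₁) (Fin n₁) F) ⊗ₖ (G₂ : Matrix (Fin n₂) (Fin n₂) F)) *
        (((G₁⁻¹ : GL (Fin n₁) F) : Matrix (Fin n₁) (Fin n₁) F) ⊗ₖ ((G₂⁻¹ : GL (Fin n₂) F) : Matrix (Fin n₂) (Fin n₂) F))) := by
        rw [← Matrix.mul_kronecker_mul, ← Units.val_mul, ← Units.val_mul, mul_inv_cancel, mul_inv_cancel,
          Units.val_one, Units.val_one, Matrix.one_kronecker_one, mul_one]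
    _ = _ := by rw [← mul_assoc, h3, one_mul]

end Cfsg.Agent.H912
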