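import Cfsg.Agent.H912.CrossList_m3
import Cfsg.Agent.Mrg.Omega.TwoF.E7Odd_mg_m3
import Cfsg.Agent.FastGrp
import Cfsg.Agent.Prune
set_option linter.all false
prune_inst 0x7f00000000000000000000000000000000000000000000000000000000000000000000000000000000000000000000000000000000000000000000000000000000000000000000000000000000000000003fffffffffffffffffffffffffffbeffbdffffffff
open scoped Cfsg.Agent.FastGrp

/-!
# Two long root subgroups with angle 60°: the bound `q² - 1` in a Chevalley group

`bd_pair`: root subgroups `x_a`, `x_b` of a Chevalley group with `x_u` moving `x_a` to `x_b` and `x_w` moving `x_b` to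
`x_a`: then all nontrivial elements of `E = x_a x_b` are conjugate, and `Bd F r (q² - 1)`.
-/

set_option autoImplicit false

universe u v w

namespace Cfsg.Agent.H912.Bd

open Cfsg.Lie Cfsg.Lie.ChevalleyDatum Cfsg.Agent.ChevalleyStructure Cfsg.Agent.ChevalleyStructure.Elts
  Cfsg.Agent.Omega.TwoF.ChevHeis

section

variable {D : ChevalleyDatum} (hD : InList D) {K : Type v} [Field K]

theorem xK_move {a b u : ℕ} {m : ℤ} (h1 : br D a u b m = true) (hu : u < D.nroots) (hb : b < D.nroots)
    (hbu : cm D b u = true) (s t c : K) :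
    xK hD u c * (xK hD a s * xK hD b t) * (xK hD u c)⁻¹ = xK hD a s * xK hD b (t - m * s * c) := by
  have e1 := xK_br hD h1 s c
  have e2 := xK_commute hD hb hu hbu (-(m * s * c) + t) c
  have e3 : t - m * s * c = -(m * s * c) + t := by ring
  rw [e3]
  calc xK hD u c * (xK hD a s * xK hD b t) * (xK hD u c)⁻¹
      = (xK hD u c * xK hD a s) * xK hD b t * (xK hD u c)⁻¹ := by group
    _ = xK hD a s * xK hD u c * xK hD b (-(m * s * c)) * xK hD b t * (xK hD u c)⁻¹ := by rw [e1]
    _ = xK hD a s * (xK hD u c * xK hD b (-(m * s * c) + t)) * (xK hD u c)⁻¹ := by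
        rw [xK_add]; group
    _ = xK hD a s * (xK hD b (-(m * s * c) + t) * xK hD u c) * (xK hD u c)⁻¹ := by rw [e2]
    _ = xK hD a s * xK hD b (-(m * s * c) + t) := by group

include hD in
theorem bd_pair [Finite K] {F : Type u} [Field F] {r : ℕ} (hr : r.Prime) [CharP K r] (hrF : (r : F) ≠ 0)
    {a b u w : ℕ} {m m' : ℤ} (hw : w < D.nroots) (hu : u < D.nroots) (ha : a < D.nroots) (hb : b < D.nroots)
    (h1 : br D a u b m = true) (h2 : br D b w a m' = true) (hab : cm D a b = true) (hbu : cm D b u = true)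
    (haw : cm D a w = true) (hm : (m : K) ≠ 0) (hm' : (m' : K) ≠ 0) :
    Bd F r (Nat.card K ^ 2 - 1) (D.group K) := by
  have hcomm : ∀ s t : K, xK hD a s * xK hD b t = xK hD b t * xK hD a s := fun s t => xK_commute hD ha hb hab s t
  let f : Multiplicative (K × K) →* D.group K :=
    { toFun := fun x => xK hD a (Multiplicative.toAdd x).1 * xK hD b (Multiplicative.toAdd x).2
      map_one' := by
        change xK hD a (0 : K) * xK hD b (0 : K) = 1
        rw [xK_zero, xK_zero, one_mul]
      map_mul' := by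
        intro x y
        change xK hD a ((Multiplicative.toAdd x).1 + (Multiplicative.toAdd y).1) *
          xK hD b ((Multiplicative.toAdd x).2 + (Multiplicative.toAdd y).2) = _
        rw [xK_add, xK_add, mul_assoc, ← mul_assoc (xK hD a (Multiplicative.toAdd y).1), hcomm]
        simp only [mul_assoc] }
  have hf : ∀ s t : K, f (Multiplicative.ofAdd (s, t)) = xK hD a s * xK hD b t := fun s t => rfl
  have mvu : ∀ s t c : K, xK hD u c * f (Multiplicative.ofAdd (s, t)) * (xK hD u c)⁻¹ =
      f (Multiplicative.ofAdd (s, t - m * s * c)) := fun s t c => by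
    rw [hf, hf]; exact xK_move hD h1 hu hb hbu s t c
  have mvw : ∀ s t c : K, xK hD w c * f (Multiplicative.ofAdd (s, t)) * (xK hD w c)⁻¹ =
      f (Multiplicative.ofAdd (s - m' * t * c, t)) := fun s t c => by
    rw [hf, hf, hcomm, hcomm]; exact xK_move hD h2 hw ha haw t s c
  have hinj : Function.Injective f := by
    rw [injective_iff_map_eq_one]
    intro x hx
    obtain ⟨s, t⟩ := x
    change f (Multiplicative.ofAdd (s, t)) = 1 at hx
    have h3 := mvu s t 1
    rw [hx, mul_one, mul_inv_cancel] at h3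
    have h4 : xK hD b (m * s * 1) = 1 := by
      have h5 : f (Multiplicative.ofAdd (s, t)) = f (Multiplicative.ofAdd (s, t - m * s * 1)) * xK hD b (m * s * 1) := by
        rw [hf, hf, mul_assoc, ← xK_add]
        congr 2
        ring
      rw [hx, ← h3, one_mul] at h5
      exact h5.symm
    have h5 : m * s * 1 = 0 := (xG_eq_one_iff hD hb _).1 (congrArg Subtype.val h4)
    have hs : s = 0 := by simpa [hm] using h5
    rw [hf, hs, xK_zero, one_mul] at hx
    have ht : t = 0 := (xG_eq_one_iff hD hb _).1 (congrArg Subtype.val hx)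
    rw [hs, ht]
    rfl
  have hcard : Nat.card f.range = Nat.card K ^ 2 := by
    rw [← Nat.card_congr (MonoidHom.ofInjective hinj).toEquiv, Nat.card_congr Multiplicative.toAdd, Nat.card_prod, sq]
  rw [← hcard]
  have hmv : ∀ c : K, (∀ x ∈ f.range, xK hD u c * x * (xK hD u c)⁻¹ ∈ f.range) ∧
      (∀ x ∈ f.range, xK hD w c * x * (xK hD w c)⁻¹ ∈ f.range) := by
    intro c
    constructor
    · rintro _ ⟨⟨s, t⟩, rfl⟩
      exact ⟨_, (mvu s t c).symm⟩
    · rintro _ ⟨⟨s, t⟩, rfl⟩
      exact ⟨_, (mvw s t c).symm⟩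
  refine bd_of_trans hr hrF f.range ?_ ?_ (e₀ := f (Multiplicative.ofAdd (0, 1))) ⟨_, rfl⟩ ?_ ?_
  · rintro _ ⟨x, rfl⟩ _ ⟨y, rfl⟩
    rw [← map_mul, ← map_mul, mul_comm]
  · rintro ⟨_, ⟨⟨s, t⟩, rfl⟩⟩
    refine ⟨1, Subtype.ext ?_⟩
    rw [pow_one]
    change f (Multiplicative.ofAdd (s, t)) ^ r = 1
    rw [← map_pow, ← ofAdd_nsmul]
    have : r • ((s, t) : K × K) = 0 := by
      ext
      · change r • s = 0
        rw [← Nat.cast_smul_eq_nsmul K, CharP.cast_eq_zero, zero_smul]
      · change r • t = 0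
        rw [← Nat.cast_smul_eq_nsmul K, CharP.cast_eq_zero, zero_smul]
    rw [this]
    exact map_one f
  · intro h
    have h3 := hinj (h.trans (map_one f).symm)
    have h4 : ((0 : K), (1 : K)) = (0, 0) := congrArg Multiplicative.toAdd h3
    exact one_ne_zero (congrArg Prod.snd h4)
  · -- transitivity
    have key : ∀ s t : K, s ≠ 0 → ∃ g : D.group K, (∀ x ∈ f.range, g * x * g⁻¹ ∈ f.range) ∧
        g * f (Multiplicative.ofAdd (s, t)) * g⁻¹ = f (Multiplicative.ofAdd (0, 1)) := by
      intro s t hs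
      refine ⟨xK hD w ((m' : K)⁻¹ * s) * xK hD u ((t - 1) * (m : K)⁻¹ * s⁻¹), ?_, ?_⟩
      · intro x hx
        have h3 := (hmv ((m' : K)⁻¹ * s)).2 _ ((hmv ((t - 1) * (m : K)⁻¹ * s⁻¹)).1 x hx)
        rwa [mul_inv_rev, show ∀ p q y : D.group K, p * q * y * (q⁻¹ * p⁻¹) = p * (q * y * q⁻¹) * p⁻¹ from
          fun p q y => by group]
      · rw [mul_inv_rev, show ∀ p q y : D.group K, p * q * y * (q⁻¹ * p⁻¹) = p * (q * y * q⁻¹) * p⁻¹ from
          fun p q y => by group, mvu, mvw]
        congr 3
        · field_simp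
          ring
        · field_simp
          ring
    rintro _ ⟨⟨s, t⟩, rfl⟩ hne
    by_cases hs : s = 0
    · have ht : t ≠ 0 := by
        intro ht
        apply hne
        rw [hs, ht]
        exact map_one f
      obtain ⟨g, hg1, hg2⟩ := key (s - m' * t * ((m' : K)⁻¹ * t⁻¹)) t (by
        rw [hs]
        field_simp
        simp)
      refine ⟨g * xK hD w ((m' : K)⁻¹ * t⁻¹), ?_, ?_⟩
      · intro x hx
        have h3 := hg1 _ ((hmv ((m' : K)⁻¹ * t⁻¹)).2 x hx)
        rwa [mul_inv_rev, show ∀ p q y : D.group K, p * q * y * (q⁻¹ * p⁻¹) = p * (q * y * q⁻¹) * p⁻¹ from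
          fun p q y => by group]
      · rw [mul_inv_rev, show ∀ p q y : D.group K, p * q * y * (q⁻¹ * p⁻¹) = p * (q * y * q⁻¹) * p⁻¹ from
          fun p q y => by group]
        have h4 := mvw s t ((m' : K)⁻¹ * t⁻¹)
        change g * (xK hD w ((m' : K)⁻¹ * t⁻¹) * f (Multiplicative.ofAdd (s, t)) * _) * g⁻¹ = _
        rw [h4]
        exact hg2
    · exact key s t hs

end

/-! ### The families -/

theorem bd_g2 {K : Type v} [Field K] [Finite K] {F : Type u} [Field F] {r : ℕ} (hr : r.Prime) [CharP K r]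
    (hrF : (r : F) ≠ 0) : Bd F r (Nat.card K ^ 2 - 1) (chevG2.group K) := by
  have hD : InList chevG2 := by simp
  have h1 : br chevG2 10 6 11 (-1) = true := by decide +kernel
  have h2 : br chevG2 11 5 10 1 = true ∨ br chevG2 11 5 10 (-1) = true := by decide +kernel
  have h3 : cm chevG2 10 11 = true := by decide +kernel
  have h4 : cm chevG2 11 6 = true := by decide +kernel
  have h5 : cm chevG2 10 5 = true := by decide +kernel
  rcases h2 with h2 | h2
  · exact bd_pair hD hr hrF (by decide) (by decide) (by decide) (by decide) h1 h2 h3 h4 h5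
      (by push_cast; exact neg_ne_zero.2 one_ne_zero) (by push_cast; exact one_ne_zero)
  · exact bd_pair hD hr hrF (by decide) (by decide) (by decide) (by decide) h1 h2 h3 h4 h5
      (by push_cast; exact neg_ne_zero.2 one_ne_zero) (by push_cast; exact neg_ne_zero.2 one_ne_zero)

end Cfsg.Agent.H912.Bd
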