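import Cfsg.Agent.H95.LSx.Sub
import Cfsg.Agent.H912.KnownSplit
import Cfsg.Agent.S0252
import Cfsg.Agent.S0253
import Cfsg.Agent.S0254
import Cfsg.Agent.S0255
import Cfsg.Agent.S0822
import Cfsg.Agent.LieClassical.SmallIso
import Cfsg.Agent.H912.CrossList_m3
import Mathlib.FieldTheory.Finite.GaloisField
import Cfsg.Agent.Prune
set_option linter.all false
prune_inst 0x7f00000000000000000000000000000000000000000000000000000000000000000000000000000000000000000000000000000000000000000000000000000000000000000000000000000000000000003fffffffffffffffffffffffffffbeffbdffffffff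
open scoped Cfsg.Agent.FastGrp

/-!
# The simple groups with a projective representation of degree `5` in cross characteristic

`five_list₀`: `P ≤ GL_5(F)` perfect, `P` modulo scalars a known nonabelian simple group `T`: then `T` is in the list `Small5 p`,
of Lie type in characteristic `p`, exceptional of Lie type in another characteristic, the Tits group or sporadic.
-/

set_option autoImplicit false

universe u v w

namespace Cfsg.Agent.H912.Five

open Cfsg Cfsg.Agent.H912.Bd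

/-- `PSU_4(2)` -/
def IsU42 (T : Type v) [Group T] : Prop :=
  ∃ (K : Type) (_ : Field K) (_ : Fintype K), Fintype.card K = 4 ∧ Nonempty (T ≃* Cfsg.PSU 4 K 2)

/-- The classical and alternating groups occurring in degree `5`. -/
def Small5 (p : ℕ) (T : Type v) [Group T] : Prop :=
  Nonempty (T ≃* alternatingGroup (Fin 5)) ∨ Nonempty (T ≃* alternatingGroup (Fin 6)) ∨
  Nonempty (T ≃* alternatingGroup (Fin 7)) ∨ (p = 2 ∧ Nonempty (T ≃* alternatingGroup (Fin 8))) ∨
  (p ≠ 7 ∧ Nonempty (T ≃* Matrix.ProjectiveSpecialLinearGroup (Fin 2) (ZMod 7))) ∨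
  (p ≠ 11 ∧ Nonempty (T ≃* Matrix.ProjectiveSpecialLinearGroup (Fin 2) (ZMod 11))) ∨
  (p ≠ 2 ∧ p ≠ 3 ∧ IsU42 T)

/-- Exceptional group of Lie type in characteristic `r`. -/
def ExcL (r : ℕ) (T : Type v) [Group T] : Prop :=
  IsExceptionalChevChar r T ∨ IsTwistedE6D4Char r T ∨ (r = 2 ∧ Lie.IsoSuzuki T) ∨ (r = 2 ∧ Lie.Iso2F4 T) ∨
    (r = 3 ∧ Lie.IsoRee T)

theorem classical_or_exc {r : ℕ} {T : Type v} [Group T] (h : IsLieTypeChar r T) :
    (Cfsg.IsPSLChar r T ∨ Cfsg.IsPSpChar r T ∨ Cfsg.IsPSUChar r T ∨ Cfsg.IsPOmegaOddChar r T ∨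
      Cfsg.IsPOmegaPlusChar r T ∨ Cfsg.IsPOmegaMinusChar r T) ∨ ExcL r T := by
  unfold IsLieTypeChar at h
  unfold ExcL
  tauto

theorem psl_zmod {q m : ℕ} (hq : q.Prime) {T : Type v} [Group T] (h : IsL m q T) :
    Nonempty (T ≃* Matrix.ProjectiveSpecialLinearGroup (Fin m) (ZMod q)) := by
  obtain ⟨K, _, _, hK, ⟨e⟩⟩ := h
  exact ⟨e.trans (LieClassical.SmallIso.pslCongr (Fin m) (ZMod.ringEquivOfPrime K hq hK).symm)⟩

theorem small5_of_cl {F : Type u} [Field F] {p : ℕ} [CharP F p] [hp : Fact p.Prime] {r : ℕ} (hr : r.Prime)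
    (hrF : (r : F) ≠ 0) {T : Type v} [Group T]
    (hc : Cfsg.IsPSLChar r T ∨ Cfsg.IsPSpChar r T ∨ Cfsg.IsPSUChar r T ∨ Cfsg.IsPOmegaOddChar r T ∨
      Cfsg.IsPOmegaPlusChar r T ∨ Cfsg.IsPOmegaMinusChar r T)
    (h : PR F 5 r T) : Small5 p T ∨ IsLieTypeChar p T := by
  have h1 := cross_classical hr hrF h (by norm_num) hc
  unfold ClSmall at h1
  rcases h1 with ⟨q, hq4, hq, h⟩ | ⟨_, h⟩ | ⟨h8, _⟩ | ⟨h8, _⟩ | ⟨h8, _⟩ | ⟨h8, _⟩ | ⟨_, h⟩ | ⟨h8, _⟩ | ⟨_, h⟩ |
    ⟨h8, _⟩ | ⟨h8, _⟩ | ⟨h8, _⟩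
  · have hq11 : q ≤ 12 := by
      by_contra hcon
      have h1 : Nat.gcd 2 (q - 1) ≤ 2 := Nat.le_of_dvd (by norm_num) (Nat.gcd_dvd_left _ _)
      have h0 : 0 < Nat.gcd 2 (q - 1) := Nat.gcd_pos_of_pos_left _ (by norm_num)
      have h2 : (q - 1) / 2 ≤ (q - 1) / Nat.gcd 2 (q - 1) := Nat.div_le_div_left h1 h0
      have h3 : q ≤ 12 := by
        have h4 : (q - 1) / 2 ≤ 5 := h2.trans hq
        omega
      exact hcon h3
    obtain ⟨K, iF, iT, hK, ⟨e⟩⟩ := h
    have hpp : IsPrimePow (Fintype.card K) := FiniteField.isPrimePow_card K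
    rw [hK] at hpp
    interval_cases q
    · obtain ⟨e'⟩ := S0252.result hK
      exact Or.inl (Or.inl ⟨e.trans e'⟩)
    · obtain ⟨e'⟩ := S0253.result hK
      exact Or.inl (Or.inl ⟨e.trans e'⟩)
    · exfalso
      revert hpp
      rw [isPrimePow_nat_iff_bounded]
      decide
    · have hT : IsL 2 7 T := ⟨K, iF, iT, hK, ⟨e⟩⟩
      by_cases h7 : p = 7
      · right
        subst h7
        obtain ⟨e'⟩ := psl_zmod (by norm_num) hT
        exact Or.inl ⟨ZMod 7, inferInstance, inferInstance, inferInstance, 2, le_refl _, fun _ => by simp, ⟨e'⟩⟩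
      · exact Or.inl (Or.inr (Or.inr (Or.inr (Or.inr (Or.inl ⟨h7, psl_zmod (by norm_num) hT⟩)))))
    · exfalso
      revert hq
      decide
    · obtain ⟨e'⟩ := S0254.result hK
      exact Or.inl (Or.inr (Or.inl ⟨e.trans e'⟩))
    · exfalso
      revert hpp
      rw [isPrimePow_nat_iff_bounded]
      decide
    · have hT : IsL 2 11 T := ⟨K, iF, iT, hK, ⟨e⟩⟩
      by_cases h7 : p = 11
      · right
        subst h7
        obtain ⟨e'⟩ := psl_zmod (by norm_num) hT
        exact Or.inl ⟨ZMod 11, inferInstance, inferInstance, inferInstance, 2, le_refl _, fun _ => by simp, ⟨e'⟩⟩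
      · exact Or.inl (Or.inr (Or.inr (Or.inr (Or.inr (Or.inr (Or.inl ⟨h7, psl_zmod (by norm_num) hT⟩))))))
    · exfalso
      revert hq
      decide
  · obtain ⟨K, iF, iT, hK, ⟨e⟩⟩ := h
    have : Fact (Nat.Prime 7) := ⟨by norm_num⟩
    obtain ⟨e'⟩ := S0255.result (F := ZMod 7) (K := K) (by simp) hK
    by_cases h7 : p = 7
    · right
      subst h7
      exact Or.inl ⟨ZMod 7, inferInstance, inferInstance, inferInstance, 2, le_refl _, fun _ => by simp,
        ⟨e.trans e'.symm⟩⟩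
    · exact Or.inl (Or.inr (Or.inr (Or.inr (Or.inr (Or.inl ⟨h7, ⟨e.trans e'.symm⟩⟩)))))
  · omega
  · omega
  · omega
  · omega
  · by_cases h2 : p = 2
    · right
      subst h2
      obtain ⟨K, iF, iT, hK, e⟩ := h
      have hch : CharP K 2 := by
        obtain ⟨q, hq⟩ := CharP.exists K
        have hqp : Fact q.Prime := ⟨CharP.char_is_prime K q⟩
        have h1 : q ∣ Fintype.card K := char_dvd_card K
        rw [hK] at h1
        have := eq_of_dvd_prime_pow hqp.out Nat.prime_two (k := 2) (by simpa using h1)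
        rwa [← this]
      exact Or.inr (Or.inr (Or.inl ⟨K, iF, iT, hch, 4, 2, hK, by norm_num, by norm_num, e⟩))
    · by_cases h3 : p = 3
      · right
        subst h3
        obtain ⟨K, iF, iT, hK, ⟨e⟩⟩ := h
        obtain ⟨e'⟩ := S0822.result (F := K) (K := ZMod 3) (by rw [hK]; norm_num) (by simp)
        exact Or.inr (Or.inl ⟨ZMod 3, inferInstance, inferInstance, inferInstance, 2, le_refl _, fun _ => by simp,
          ⟨e.trans e'⟩⟩)
      · obtain ⟨K, iF, iT, hK, e⟩ := h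
        exact Or.inl (Or.inr (Or.inr (Or.inr (Or.inr (Or.inr (Or.inr ⟨h2, h3, K, iF, iT, by rw [hK]; norm_num, e⟩))))))
  · omega
  · obtain ⟨K, iF, iT, hK, ⟨e⟩⟩ := h
    obtain ⟨L, iL, iLf, hLch, hG⟩ : ∃ (L : Type) (_ : Field L) (_ : Fintype L) (_ : CharP L 2), Fintype.card L = 4 := by
      have : Fintype (GaloisField 2 2) := Fintype.ofFinite _
      refine ⟨GaloisField 2 2, inferInstance, this, inferInstance, ?_⟩
      rw [← Nat.card_eq_fintype_card, GaloisField.card 2 2 (by norm_num)]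
      norm_num
    obtain ⟨e'⟩ := S0822.result (F := L) (K := K) hG hK
    by_cases h2 : p = 2
    · right
      subst h2
      exact Or.inr (Or.inr (Or.inl ⟨L, iL, iLf, hLch, 4, 2, by rw [hG]; norm_num, by norm_num,
        by norm_num, ⟨e.trans e'.symm⟩⟩))
    · by_cases h3 : p = 3
      · right
        subst h3
        have hch : CharP K 3 := by
          obtain ⟨q, hq⟩ := CharP.exists K
          have hqp : Fact q.Prime := ⟨CharP.char_is_prime K q⟩
          have h1 : q ∣ Fintype.card K := char_dvd_card K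
          rw [hK] at h1
          have := eq_of_dvd_prime_pow hqp.out Nat.prime_three (k := 1) (by simpa using h1)
          rwa [← this]
        exact Or.inr (Or.inl ⟨K, iF, iT, hch, 2, le_refl _, fun _ => by omega, ⟨e⟩⟩)
      · exact Or.inl (Or.inr (Or.inr (Or.inr (Or.inr (Or.inr (Or.inr ⟨h2, h3, L, iL,
          iLf, hG, ⟨e.trans e'.symm⟩⟩))))))
  · omega
  · omega
  · omega

/-- The alternating groups in degree `5`. -/
theorem small5_of_alt {F : Type u} [Field F] [Finite F] {p : ℕ} [CharP F p] [hp : Fact p.Prime]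
    (P : Subgroup (Matrix.GeneralLinearGroup (Fin 5) F)) (hP : ⁅P, P⁆ = P) {T : Type v} [Group T]
    (e : (P ⧸ (Cfsg.Geo.scalars (Fin 5) F).subgroupOf P) ≃* T) (h : IsAlternating T) : Small5 p T := by
  obtain ⟨m, hm, ⟨e'⟩⟩ := h
  have h3 : p ≠ 3 → m ≤ 8 := by
    intro hp3
    by_contra hcon
    have h3F : ((3 : ℕ) : F) ≠ 0 := by
      intro h0
      exact hp3 (((Nat.prime_dvd_prime_iff_eq hp.out Nat.prime_three).1 ((CharP.cast_eq_zero_iff F p 3).1 h0)))
    have h1 := bd_alt_three (F := F) (by exact_mod_cast h3F) (n := m) (by omega) 5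
      (PR.of_perfect P hP Nat.prime_three (by norm_num) (e.trans e'))
    omega
  have h2 : p ≠ 2 → m ≤ 7 := by
    intro hp2
    by_contra hcon
    have h2F : ((2 : ℕ) : F) ≠ 0 := by
      intro h0
      exact hp2 (((Nat.prime_dvd_prime_iff_eq hp.out Nat.prime_two).1 ((CharP.cast_eq_zero_iff F p 2).1 h0)))
    have h1 := bd_alt_two (F := F) (by exact_mod_cast h2F) (n := m) (by omega) 5
      (PR.of_perfect P hP Nat.prime_two (by norm_num) (e.trans e'))
    omega
  have h8 : m ≤ 8 := by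
    by_cases hp3 : p = 3
    · have := h2 (by omega)
      omega
    · exact h3 hp3
  interval_cases m
  · exact Or.inl ⟨e'⟩
  · exact Or.inr (Or.inl ⟨e'⟩)
  · exact Or.inr (Or.inr (Or.inl ⟨e'⟩))
  · refine Or.inr (Or.inr (Or.inr (Or.inl ⟨?_, ⟨e'⟩⟩)))
    by_contra hcon
    have := h2 hcon
    omega

/-- In degree `5` and cross characteristic the kernel has order prime to the characteristic of the group. -/
theorem pr_five {F : Type u} [Field F] [Finite F] (P : Subgroup (Matrix.GeneralLinearGroup (Fin 5) F))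
    (hP : ⁅P, P⁆ = P) {T : Type v} [Group T] (e : (P ⧸ (Cfsg.Geo.scalars (Fin 5) F).subgroupOf P) ≃* T) {r : ℕ}
    (hr : r.Prime) (h : IsLieTypeChar r T) : PR F 5 r T := by
  by_cases h5 : r = 5
  · exact PR.of_noR (noR_of_five_le hr (by omega) h) P hP e
  · refine PR.of_perfect P hP hr ?_ e
    intro hd
    exact h5 ((Nat.prime_dvd_prime_iff_eq hr (by norm_num)).1 hd)

theorem five_list₀ {F : Type u} [Field F] [Finite F] {p : ℕ} [CharP F p] [hp : Fact p.Prime]
    (P : Subgroup (Matrix.GeneralLinearGroup (Fin 5) F)) (hP : ⁅P, P⁆ = P) {T : Type v} [Group T] (hk : IsKnownSimple' T)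
    (hT : ¬ IsMulCommutative T)
    (e : (P ⧸ (Cfsg.Geo.scalars (Fin 5) F).subgroupOf P) ≃* T) :
    Small5 p T ∨ IsLieTypeChar p T ∨ (∃ r, r.Prime ∧ r ≠ p ∧ ExcL r T ∧ PR F 5 r T) ∨ Lie.IsoTits T ∨
      IsSporadicGroup T := by
  rcases Known.known_split hk (Known.not_primeCyclic hT) with h | ⟨r, hr, h⟩ | h | h
  · exact Or.inl (small5_of_alt P hP e h)
  · by_cases hrp : r = p
    · subst hrp
      exact Or.inr (Or.inl h)
    · have hrF : (r : F) ≠ 0 := by
        intro h0
        exact hrp ((Nat.prime_dvd_prime_iff_eq hp.out hr).1 ((CharP.cast_eq_zero_iff F p r).1 h0)).symm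
      have hPR := pr_five P hP e hr h
      rcases classical_or_exc h with h1 | h1
      · rcases small5_of_cl (p := p) hr hrF h1 hPR with h2 | h2
        · exact Or.inl h2
        · exact Or.inr (Or.inl h2)
      · exact Or.inr (Or.inr (Or.inl ⟨r, hr, hrp, h1, hPR⟩))
  · exact Or.inr (Or.inr (Or.inr (Or.inl h)))
  · exact Or.inr (Or.inr (Or.inr (Or.inr h)))

end Cfsg.Agent.H912.Five
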