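import Cfsg.Agent.H433.EP.LSn
import Cfsg.Agent.H912.FiveList
import Cfsg.Agent.H203.LSE6_mg_m3
import Cfsg.Agent.H203.LSTor_m3
import Cfsg.Agent.H203.LSTwF4
import Cfsg.Agent.H203.LSSz
import Cfsg.Agent.H648.EPV.Tits24
import Cfsg.Agent.H64.ChevField
import Cfsg.Agent.S1054
import Cfsg.Agent.Prune
set_option linter.all false

section
prune_inst 0x7f00000000000000000000000000000000000000000000000000000000000000000000000000000000000000000000000000000000000000000000000000000000000000000000000000000000000000003fffffffffffffffffffffffffffbeffbdffffffff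

-- part: H912/ExcList
section
set_option linter.all false
open scoped Cfsg.Agent.FastGrp

/-!
# Exceptional groups of Lie type in cross characteristic, degree at most 12

`exc_cross`: only `G₂(3)`, `G₂(4)`, `F₄(2)` and `Sz(8)` are left by the bounds of helper203.
-/

set_option autoImplicit false

universe u v

namespace Cfsg.Agent.H912.Five

open Cfsg Cfsg.Agent.H912.Bd Cfsg.Agent.H203.LS

theorem mul_pow_lb {q a : ℕ} (hq : 2 ≤ q) (ha : 4 ≤ a) : 13 ≤ (q - 1) * q ^ a := by
  have h1 : 2 ^ 4 ≤ q ^ a := (Nat.pow_le_pow_left hq 4).trans (Nat.pow_le_pow_right (by omega) ha)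
  have h2 : 1 * 2 ^ 4 ≤ (q - 1) * q ^ a := Nat.mul_le_mul (by omega) h1
  omega

/-- **Exceptional groups in cross characteristic.** -/
theorem exc_cross {F : Type u} [Field F] [Finite F] {n r : ℕ} (hr : r.Prime) (hrF : (r : F) ≠ 0)
    (P : Subgroup (Matrix.GeneralLinearGroup (Fin n) F)) (hP : ⁅P, P⁆ = P) {T : Type v} [Group T] [Nontrivial T]
    (e : (P ⧸ (Cfsg.Geo.scalars (Fin n) F).subgroupOf P) ≃* T) (hn : n ≤ 12) (h : ExcL r T) :
    (r = 3 ∧ 6 ≤ n ∧ Bd.IsG2 3 T) ∨ (r = 2 ∧ Bd.IsG2 4 T) ∨ (r = 2 ∧ Bd.IsF4 2 T) ∨ (r = 2 ∧ 7 ≤ n ∧ Bd.IsSz8 T) := by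
  have key : ∀ {d : ℕ} {T' : Type} [Group T'], LS.{0, u, u} r d T' → (T ≃* T') → d ≤ n := by
    intro d T' _ hls e'
    exact le_of_ls (LS.congr e'.symm hls) hrF P hP e
  rcases h with ⟨K, _, _, _, h⟩ | ⟨K, _, _, _, q, hq, h⟩ | ⟨rfl, K, _, _, m, hm, hK, ⟨e'⟩⟩ |
    ⟨rfl, K, _, _, m, hm, hK, ⟨e'⟩⟩ | ⟨rfl, K, _, _, m, hm, hK, ⟨e'⟩⟩
  · have : Fact r.Prime := ⟨hr⟩
    have hd : r ∣ Fintype.card K := char_dvd_card K
    have hq2 : 2 ≤ Nat.card K := by
      rw [Nat.card_eq_fintype_card]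
      exact Fintype.one_lt_card
    rcases h with ⟨h3, ⟨e'⟩⟩ | ⟨⟨e'⟩⟩ | ⟨⟨e'⟩⟩ | ⟨⟨e'⟩⟩ | ⟨⟨e'⟩⟩
    · by_cases h4 : Fintype.card K = 4
      · have hr2 : r = 2 := eq_of_dvd_prime_pow hr Nat.prime_two (k := 2) (by rw [h4] at hd; exact hd)
        exact Or.inr (Or.inl ⟨hr2, K, inferInstance, inferInstance, h4, ⟨e'⟩⟩)
      · have h1 := key (G2.ls K (by rw [Nat.card_eq_fintype_card]; omega)
          (by rw [Nat.card_eq_fintype_card]; exact h4)) e'
        rw [Nat.card_eq_fintype_card] at h1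
        have h5 : Fintype.card K < 5 := by
          by_contra hcon
          have h6 : 4 * 5 ≤ (Fintype.card K - 1) * Fintype.card K := Nat.mul_le_mul (by omega) (by omega)
          omega
        have h6 : Fintype.card K = 3 := by omega
        rw [h6] at h1
        have hr3 : r = 3 := eq_of_dvd_prime_pow hr Nat.prime_three (k := 1) (by rw [h6] at hd; exact hd)
        exact Or.inl ⟨hr3, by omega, K, inferInstance, inferInstance, h6, ⟨e'⟩⟩
    · by_cases h2 : (2 : K) = 0
      · by_cases h3 : 2 < Nat.card K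
        · have h1 := key (F4even.ls_even K h2 h3) e'
          have := mul_pow_lb hq2 (le_refl 4)
          omega
        · have h4 : Fintype.card K = 2 := by rw [← Nat.card_eq_fintype_card]; omega
          have hr2 : r = 2 := eq_of_dvd_prime_pow hr Nat.prime_two (k := 1) (by rw [h4] at hd; exact hd)
          exact Or.inr (Or.inr (Or.inl ⟨hr2, K, inferInstance, inferInstance, h4, ⟨e'⟩⟩))
      · have h1 := key (F4odd.ls_odd K h2) e'
        have := mul_pow_lb hq2 (le_refl 4)
        omega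
    · have h1 := key (E6.ls K) e'
      have := mul_pow_lb hq2 (show 4 ≤ 10 by norm_num)
      omega
    · have h1 := key (E7.ls K) e'
      have := mul_pow_lb hq2 (show 4 ≤ 16 by norm_num)
      omega
    · have h1 := key (E8.ls K) e'
      have := mul_pow_lb hq2 (show 4 ≤ 28 by norm_num)
      omega
  · exfalso
    have hq2 : 2 ≤ q := hq.two_le
    rcases h with ⟨hK, ⟨e'⟩⟩ | ⟨hK, ⟨e'⟩⟩
    · have h1 := key (TwE6.ls hq hK) e'
      have := mul_pow_lb hq2 (show 4 ≤ 6 by norm_num)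
      omega
    · have h1 := key (TwD4.ls hq hK) e'
      have := mul_pow_lb hq2 (le_refl 4)
      omega
  · have h1 := key (LS.sz hm hK) e'
    rw [Nat.card_eq_fintype_card, hK] at h1
    have h2 : m < 2 := by
      by_contra hcon
      have : 2 ^ 5 ≤ 2 ^ (2 * m + 1) := Nat.pow_le_pow_right (by norm_num) (by omega)
      omega
    have h3 : m = 1 := by omega
    subst h3
    exact Or.inr (Or.inr (Or.inr ⟨rfl, by simpa using h1, K, inferInstance, inferInstance, hK, ⟨e'⟩⟩))
  · exfalso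
    have h1 := key (TwF4.ls hm hK) e'
    rw [Nat.card_eq_fintype_card, hK] at h1
    have h2 : 2 ^ 3 ≤ 2 ^ (2 * m + 1) := Nat.pow_le_pow_right (by norm_num) (by omega)
    have h3 : 7 * 8 ^ 2 ≤ (2 ^ (2 * m + 1) - 1) * (2 ^ (2 * m + 1)) ^ 2 :=
      Nat.mul_le_mul (by omega) (Nat.pow_le_pow_left (by omega) 2)
    omega
  · exfalso
    have h1 := key (LS.ree hm hK) e'
    rw [Nat.card_eq_fintype_card, hK] at h1
    have h2 : 3 ^ 3 ≤ 3 ^ (2 * m + 1) := Nat.pow_le_pow_right (by norm_num) (by omega)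
    omega

end Cfsg.Agent.H912.Five
end

-- part: H936/F42Light
section
set_option linter.all false
open scoped Cfsg.Agent.FastGrp

/-!
# `F₄(2)` in characteristic `≠ 2`: degree at least `16`

The same as `H95.LSx.F42.ls_f4_two` (helper95), with light imports.
-/

set_option autoImplicit false

universe u v w u'

namespace Cfsg.Agent.H936.F42

open Subgroup Matrix Cfsg.Agent.H203.LS Cfsg.Lie Cfsg.Agent.H95.LSx
open scoped commutatorElement

theorem perfect_of_simple {T : Type u} [Group T] [IsSimpleGroup T] (hT : ¬ IsMulCommutative T) :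
    commutator T = ⊤ := by
  rcases IsSimpleGroup.eq_bot_or_eq_top_of_normal (commutator T) inferInstance with h | h
  · exfalso
    apply hT
    refine ⟨⟨fun a b => ?_⟩⟩
    have h1 : ⁅a, b⁆ ∈ commutator T := commutator_mem_commutator (mem_top _) (mem_top _)
    rw [h, mem_bot, commutatorElement_eq_one_iff_mul_comm] at h1
    exact h1
  · exact h

theorem twF4_le (K : Type u) [Field K] (e : ℕ) : twistedF4 K e ≤ chevF4.group K := by
  have hD : Cfsg.Agent.ChevalleyStructure.Elts.InList chevF4 := by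
    unfold Cfsg.Agent.ChevalleyStructure.Elts.InList; simp
  unfold twistedF4 ChevalleyDatum.genSubgroup
  rw [Subgroup.closure_le]
  rintro g ⟨l, -, hg⟩
  rw [(Cfsg.Agent.ChevalleyStructure.Elts.eq_wordG_iff hD g l).2 hg]
  exact Cfsg.Agent.ChevalleyStructure.Elts.wordG_mem_group hD l

theorem perfect_tits : commutator Cfsg.Lie.TitsGroup = ⊤ := by
  have := Tits.simple_tits
  exact perfect_of_simple Cfsg.Agent.S1074.result.2.2.1

theorem ls_of_datum (D : ChevalleyDatum) (hD : D ∈ [chevD4, chevF4, chevE6, chevE7, chevE8]) {r d : ℕ}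
    {X : Subgroup (GL D.Idx (ZMod 2))} (hX : X ≤ D.group (ZMod 2)) {Y : Subgroup X} [Finite Y] [IsSimpleGroup Y]
    (hY : commutator Y = ⊤) (h : LS.{0, v, w} r d Y) : LS.{0, v, w} r d ↥(D.group (ZMod 2)) := by
  have := (Cfsg.Agent.S1054.result (F := ZMod 2) D hD).1
  refine LS.of_sub hY ((Subgroup.inclusion hX).comp Y.subtype) ?_ h
  exact (Subgroup.inclusion_injective hX).comp (Subgroup.subtype_injective Y)

theorem ls_f4_zmod : LS.{0, v, w} 2 16 ↥(chevF4.group (ZMod 2)) := by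
  have := Tits.simple_tits
  have : Finite ↥(Cfsg.Lie.twistedF4 (ZMod 2) 1) := Subtype.finite
  exact ls_of_datum chevF4 (by simp) (twF4_le (ZMod 2) 1) perfect_tits Tits.ls

/-- **`LS` for `F₄(2)`**: `16`. -/
theorem ls_f4_two {K : Type u} [Field K] [Fintype K] (hK : Fintype.card K = 2) :
    LS.{u, v, w} 2 16 ↥(chevF4.group K) :=
  LS.congr (Cfsg.Agent.H64.ChevField.groupCongr (FiniteField.ringEquivOfCardEq (by rw [ZMod.card, hK])) chevF4)
    ls_f4_zmod

end Cfsg.Agent.H936.F42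
end
end
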