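import Mathlib
import Cfsg.Agent.Lib.DetFast
import Cfsg.Agent.Lib.MatDec
import Cfsg.Agent.H912.ElevenPSL
import Cfsg.Agent.H906.Cover_m3
import Cfsg.Agent.H875.FnIso_m3
import Cfsg.Agent.H911.AltReal
import Cfsg.Agent.H180.KM11Cube
import Cfsg.Agent.LargeExtra.WCEndPSU
import Cfsg.Agent.OddHalf.D6.QThree.PumpOrd.Small5
import Cfsg.Prelude.Def_Spor_Mathieu
import Cfsg.Agent.H180.U42Conj
import Cfsg.Agent.H912.FiveList
import Cfsg.Prelude.Def_GeometricClasses
import Cfsg.Agent.H905.MdP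
import Cfsg.Agent.H879.Nine.Ctx_m3
import Cfsg.Agent.H912.ExcList_m3
import Cfsg.Agent.H912.BdChev
import Cfsg.Agent.H921.SporCore
import Cfsg.Agent.FastGrp
import Cfsg.Agent.Prune
set_option linter.all false

section
prune_inst 0x7ffeadfbabf8bddfdfff7e7faefcddfdf9b93fffa4dff9cbffe065ff2bdf6b0089c5f38d8fe810fe1ef6421410e87b43fdffeeffea6bdc7ffffd5ff45ffbffdfedf7bd08519d8cb40fbc0ffe03f0778e7f3fffffffffffffffffffffffffffbeffffffffffff

-- part: H912/ElevenForm
section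
prune_inst 0x110045007422020000000510320000202400008000000000b8800142094fd440804200007a101c00888818807800002001100100420000000a0030000002012080004000220003042e001f800000000000000000000000000000000000041000000000000
set_option linter.all false
open scoped Cfsg.Agent.FastGrp

-- part: H912/ElevenData
section
/-!
# The Frobenius group `11:5` in `GL_5(3)`, its overgroup `L_2(11)` and the 22 vectors of `M_11`: explicit matrices
-/

set_option autoImplicit false

namespace Cfsg.Agent.H912.Eleven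

open Matrix

abbrev K := ZMod 3
abbrev V := Fin 5 → K
abbrev M5 := Matrix (Fin 5) (Fin 5) K

/-- companion matrix of `X^5 + X^4 - X^3 + X^2 - 1` -/
def C : M5 := !![0,0,0,0,1; 1,0,0,0,0; 0,1,0,0,2; 0,0,1,0,1; 0,0,0,1,2]
/-- its inverse -/
def Ci : M5 := !![0,1,0,0,0; 1,0,1,0,0; 2,0,0,1,0; 1,0,0,0,1; 1,0,0,0,0]
def Y : M5 := !![1,0,2,0,1; 0,0,2,1,0; 0,0,0,0,2; 0,0,1,0,1; 0,1,1,0,2]
def Yi : M5 := !![1,0,2,1,0; 0,0,1,2,1; 0,0,1,1,0; 0,1,1,1,0; 0,0,2,0,0]
def T : M5 := !![1,0,0,0,0; 0,1,1,0,0; 0,0,2,0,0; 0,0,1,0,1; 0,0,1,1,0]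
/-- an element of order eight of `M_11` -/
def W : M5 := !![0,0,0,2,2; 0,0,2,2,0; 0,0,0,2,0; 0,1,0,0,0; 1,0,0,2,0]
def Wi : M5 := !![0,0,2,0,1; 0,0,0,1,0; 0,2,1,0,0; 0,0,2,0,0; 2,0,1,0,0]
/-- basis `e₀, e₁, Y e₁, Y² e₁, Y³ e₁` -/
def B : M5 := !![1,0,0,1,1; 0,1,0,0,2; 0,0,0,2,1; 0,0,0,1,1; 0,0,1,2,0]
def Bi : M5 := !![1,0,0,2,0; 0,1,2,2,0; 0,0,1,2,1; 0,0,1,2,0; 0,0,2,2,0]

def e0 : V := ![1,0,0,0,0]
def e1 : V := ![0,1,0,0,0]

theorem C_Ci : C * Ci = 1 := by (set_option synthInstance.maxSize 20000 in open scoped Cfsg.Agent.Lib.MatDec in decide +kernel)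
theorem Ci_C : Ci * C = 1 := by (set_option synthInstance.maxSize 20000 in open scoped Cfsg.Agent.Lib.MatDec in decide +kernel)
theorem Y_Yi : Y * Yi = 1 := by decide +kernel
theorem Yi_Y : Yi * Y = 1 := by (set_option synthInstance.maxSize 20000 in open scoped Cfsg.Agent.Lib.MatDec in decide +kernel)
theorem T_T : T * T = 1 := by (set_option synthInstance.maxSize 20000 in open scoped Cfsg.Agent.Lib.MatDec in decide +kernel)
theorem W_Wi : W * Wi = 1 := by (set_option synthInstance.maxSize 20000 in open scoped Cfsg.Agent.Lib.MatDec in decide +kernel)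
theorem Wi_W : Wi * W = 1 := by (set_option synthInstance.maxSize 20000 in open scoped Cfsg.Agent.Lib.MatDec in decide +kernel)
theorem B_Bi : B * Bi = 1 := by (set_option synthInstance.maxSize 20000 in open scoped Cfsg.Agent.Lib.MatDec in decide +kernel)

/-- the powers of `C` -/
def Cp : ℕ → M5
  | 0 => 1
  | 1 => C
  | 2 => !![0,0,0,1,2; 0,0,0,0,1; 1,0,0,2,1; 0,1,0,1,1; 0,0,1,2,2]
  | 3 => !![0,0,1,2,2; 0,0,0,1,2; 0,0,2,1,2; 1,0,1,1,0; 0,1,2,2,2]
  | 4 => !![0,1,2,2,2; 0,0,1,2,2; 0,2,1,2,0; 0,1,1,0,1; 1,2,2,2,1]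
  | 5 => !![1,2,2,2,1; 0,1,2,2,2; 2,1,2,0,1; 1,1,0,1,1; 2,2,2,1,0]
  | 6 => !![2,2,2,1,0; 1,2,2,2,1; 1,2,0,1,2; 1,0,1,1,1; 2,2,1,0,1]
  | 7 => !![2,2,1,0,1; 2,2,2,1,0; 2,0,1,2,0; 0,1,1,1,0; 2,1,0,1,0]
  | 8 => !![2,1,0,1,0; 2,2,1,0,1; 0,1,2,0,0; 1,1,1,0,0; 1,0,1,0,0]
  | 9 => !![1,0,1,0,0; 2,1,0,1,0; 1,2,0,0,1; 1,1,0,0,0; 0,1,0,0,0]
  | 10 => Ci
  | _ => 1

theorem Cp_succ : ∀ k < 11, Cp k * C = Cp ((k + 1) % 11) := by
  intro k hk
  interval_cases k <;> decide +kernel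

theorem C_pow (k : ℕ) : C ^ k = Cp (k % 11) := by
  induction k with
  | zero => rfl
  | succ k ih =>
    rw [pow_succ, ih, Cp_succ _ (Nat.mod_lt _ (by norm_num))]
    congr 1
    omega

theorem C_eleven : C ^ 11 = 1 := C_pow 11

/-- the polynomial `X^5 + X^4 - X^3 + X^2 - 1` -/
def f1 (X : M5) : M5 := X ^ 5 + X ^ 4 - X ^ 3 + X ^ 2 - 1
/-- the polynomial `X^5 - X^3 + X^2 - X - 1` -/
def f2 (X : M5) : M5 := X ^ 5 - X ^ 3 + X ^ 2 - X - 1

theorem f1_C_pow (k : ℕ) : f1 (C ^ k) =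
    Cp (k * 5 % 11) + Cp (k * 4 % 11) - Cp (k * 3 % 11) + Cp (k * 2 % 11) - 1 := by
  unfold f1
  rw [← pow_mul, ← pow_mul, ← pow_mul, ← pow_mul, C_pow, C_pow, C_pow, C_pow]

theorem f1_C : f1 C = 0 := by
  have h := f1_C_pow 1
  rw [pow_one] at h
  rw [h]
  (set_option synthInstance.maxSize 20000 in open scoped Cfsg.Agent.Lib.MatDec in decide +kernel)

theorem f1_C_pow_ne (k : ℕ) (hk : k < 11) (hk0 : k ≠ 0) (h : f1 (C ^ k) = 0) :
    k = 1 ∨ k = 3 ∨ k = 4 ∨ k = 5 ∨ k = 9 := by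
  rw [f1_C_pow] at h
  have h2 : ¬ (Cp (2 * 5 % 11) + Cp (2 * 4 % 11) - Cp (2 * 3 % 11) + Cp (2 * 2 % 11) - 1 = 0) := by decide +kernel
  have h6 : ¬ (Cp (6 * 5 % 11) + Cp (6 * 4 % 11) - Cp (6 * 3 % 11) + Cp (6 * 2 % 11) - 1 = 0) := by decide +kernel
  have h7 : ¬ (Cp (7 * 5 % 11) + Cp (7 * 4 % 11) - Cp (7 * 3 % 11) + Cp (7 * 2 % 11) - 1 = 0) := by decide +kernel
  have h8 : ¬ (Cp (8 * 5 % 11) + Cp (8 * 4 % 11) - Cp (8 * 3 % 11) + Cp (8 * 2 % 11) - 1 = 0) := by decide +kernel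
  have h10 : ¬ (Cp (10 * 5 % 11) + Cp (10 * 4 % 11) - Cp (10 * 3 % 11) + Cp (10 * 2 % 11) - 1 = 0) := by decide +kernel
  interval_cases k <;> first | omega | exact absurd h h2 | exact absurd h h6 | exact absurd h h7 | exact absurd h h8 |
    exact absurd h h10

private noncomputable def _root_.Cfsg.Agent.LsF.fec89ee_0 : {f // @Cfsg.Agent.H912.Eleven.C = f} := ⟨_, by first | (delta Cfsg.Agent.H912.Eleven.C; rewrite [Cfsg.Agent.LsF.mof_pat, Cfsg.Agent.LsF.vecCons_eq]; exact rfl) | exact rfl⟩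
/-- `C` has no fixed vector -/
theorem C_fix : ∀ v : V, C *ᵥ v = v → v = 0 := by (refine of_decide_eq_true ?_; (try (rewrite [Cfsg.Agent.LsF.mulVecF_pat, Cfsg.Agent.LsF.piFintype_pat, Cfsg.Agent.LsF.dPiF_pat, Cfsg.Agent.LsF.fec89ee_0.2, Cfsg.Agent.LsF.zadd_pat, Cfsg.Agent.LsF.zmul_pat, Cfsg.Agent.LsF.zdecEq_eq, Cfsg.Agent.LsF.zFintype_eq, Cfsg.Agent.LsF.dForall_eq, Cfsg.Agent.LsF.dAllP_eq, Cfsg.Agent.LsF.decide_eq])); decide +kernel)

private noncomputable def _root_.Cfsg.Agent.LsF.fec89ee_1 : {f // @Cfsg.Agent.H912.Eleven.Y = f} := ⟨_, by first | (delta Cfsg.Agent.H912.Eleven.Y; rewrite [Cfsg.Agent.LsF.mof_pat, Cfsg.Agent.LsF.vecCons_eq]; exact rfl) | exact rfl⟩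
private noncomputable def _root_.Cfsg.Agent.LsF.fec89ee_2 : {f // @Cfsg.Agent.H912.Eleven.e0 = f} := ⟨_, by first | (delta Cfsg.Agent.H912.Eleven.e0; rewrite [Cfsg.Agent.LsF.vecCons_eq]; exact rfl) | exact rfl⟩
/-- the fixed vectors of `Y` -/
theorem Y_fix : ∀ v : V, Y *ᵥ v = v → v = v 0 • e0 := by (refine of_decide_eq_true ?_; (try (rewrite [Cfsg.Agent.LsF.mulVecF_pat, Cfsg.Agent.LsF.psmul_pat, Cfsg.Agent.LsF.piFintype_pat, Cfsg.Agent.LsF.dPiF_pat, Cfsg.Agent.LsF.fec89ee_1.2, Cfsg.Agent.LsF.fec89ee_2.2, Cfsg.Agent.LsF.zadd_pat, Cfsg.Agent.LsF.zmul_pat, Cfsg.Agent.LsF.zdecEq_eq, Cfsg.Agent.LsF.zFintype_eq, Cfsg.Agent.LsF.dForall_eq, Cfsg.Agent.LsF.dAllP_eq, Cfsg.Agent.LsF.decide_eq])); decide +kernel)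

theorem Y_e0 : Y *ᵥ e0 = e0 := by decide +kernel

/-- `e_i = C^i e₀` -/
theorem C_e0 : ∀ i : Fin 5, Cp (i : ℕ) *ᵥ e0 = Pi.single i 1 := by decide +kernel

/-- `Y e_i = C^{4 i} e₀` -/
theorem Y_col : ∀ i : Fin 5, Y *ᵥ Pi.single i 1 = Cp (4 * (i : ℕ) % 11) *ᵥ e0 := by decide +kernel

theorem Ci_e0 : Ci *ᵥ e0 = (2 : K) • e0 + e1 + (2 : K) • (Y *ᵥ e1) + Y *ᵥ (Y *ᵥ e1) := by (set_option synthInstance.maxSize 20000 in open scoped Cfsg.Agent.Lib.MatDec in decide +kernel)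

theorem B_col : ∀ i : Fin 5, B *ᵥ Pi.single i 1 =
    ![e0, e1, Y *ᵥ e1, Y *ᵥ (Y *ᵥ e1), Y *ᵥ (Y *ᵥ (Y *ᵥ e1))] i := by decide +kernel

/-- the matrix with columns `α e₀, b, Y⁻¹ b, Y⁻² b, Y⁻³ b` -/
def Nm (α : K) (b : V) : M5 := Matrix.of fun i j =>
  ![α • e0, b, Yi *ᵥ b, Yi *ᵥ (Yi *ᵥ b), Yi *ᵥ (Yi *ᵥ (Yi *ᵥ b))] j i

private noncomputable def _root_.Cfsg.Agent.LsF.fec89ee_3 : {f // @Cfsg.Agent.H912.Eleven.Ci = f} := ⟨_, by first | (delta Cfsg.Agent.H912.Eleven.Ci; rewrite [Cfsg.Agent.LsF.mof_pat, Cfsg.Agent.LsF.vecCons_eq]; exact rfl) | exact rfl⟩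
private noncomputable def _root_.Cfsg.Agent.LsF.fec89ee_4 : {f // @Cfsg.Agent.H912.Eleven.Yi = f} := ⟨_, by first | (delta Cfsg.Agent.H912.Eleven.Yi; rewrite [Cfsg.Agent.LsF.mof_pat, Cfsg.Agent.LsF.vecCons_eq]; exact rfl) | exact rfl⟩
private noncomputable def _root_.Cfsg.Agent.LsF.fec89ee_5 : {f // @Cfsg.Agent.H912.Eleven.Nm = f} := ⟨_, by first | (delta Cfsg.Agent.H912.Eleven.Nm; rewrite [Cfsg.Agent.LsF.mulVecF_pat, Cfsg.Agent.LsF.psmul_pat, Cfsg.Agent.LsF.fec89ee_2.2, Cfsg.Agent.LsF.fec89ee_4.2, Cfsg.Agent.LsF.mof_pat, Cfsg.Agent.LsF.zadd_pat, Cfsg.Agent.LsF.zmul_pat, Cfsg.Agent.LsF.vecCons_eq]; exact rfl) | exact rfl⟩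
private noncomputable def _root_.Cfsg.Agent.LsF.fec89ee_6 : {f // @Cfsg.Agent.H912.Eleven.Bi = f} := ⟨_, by first | (delta Cfsg.Agent.H912.Eleven.Bi; rewrite [Cfsg.Agent.LsF.mof_pat, Cfsg.Agent.LsF.vecCons_eq]; exact rfl) | exact rfl⟩
private noncomputable def _root_.Cfsg.Agent.LsF.fec89ee_7 : {f // @Cfsg.Agent.H912.Eleven.T = f} := ⟨_, by first | (delta Cfsg.Agent.H912.Eleven.T; rewrite [Cfsg.Agent.LsF.mof_pat, Cfsg.Agent.LsF.vecCons_eq]; exact rfl) | exact rfl⟩
theorem solve : ∀ α : K, α ≠ 0 → ∀ b : V,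
    α • b = Ci *ᵥ ((2 * α) • e0 + b + (2 : K) • (Yi *ᵥ b) + Yi *ᵥ (Yi *ᵥ b)) →
      (Nm α b * Bi) * (Nm α b * Bi) = 1 → Nm α b * Bi = T := by (refine of_decide_eq_true ?_; (try (rewrite [Cfsg.Agent.LsF.mmulF_pat, Cfsg.Agent.LsF.mulVecF_pat, Cfsg.Agent.LsF.padd_pat, Cfsg.Agent.LsF.psmul_pat, Cfsg.Agent.LsF.piFintype_pat, Cfsg.Agent.LsF.dPiF_pat, Cfsg.Agent.LsF.fec89ee_3.2, Cfsg.Agent.LsF.fec89ee_2.2, Cfsg.Agent.LsF.fec89ee_4.2, Cfsg.Agent.LsF.fec89ee_5.2, Cfsg.Agent.LsF.fec89ee_6.2, Cfsg.Agent.LsF.fec89ee_7.2, Cfsg.Agent.LsF.zadd_pat, Cfsg.Agent.LsF.zmul_pat, Cfsg.Agent.LsF.zdecEq_eq, Cfsg.Agent.LsF.finFintype_eq, Cfsg.Agent.LsF.zFintype_eq, Cfsg.Agent.LsF.dForall_eq, Cfsg.Agent.LsF.dMat_eq, Cfsg.Agent.LsF.instMOne_eq, Cfsg.Agent.LsF.zACM_pat, Cfsg.Agent.LsF.dNot_eq, Cfsg.Agent.LsF.dFinEq_eq, Cfsg.Agent.LsF.dAllP_eq, Cfsg.Agent.LsF.decide_eq])); decide +kernel)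

/-! ### The 22 vectors -/

/-- code of a vector -/
def code (v : V) : ℕ := (v 0).val + 3 * ((v 1).val + 3 * ((v 2).val + 3 * ((v 3).val + 3 * (v 4).val)))

/-- the 22 vectors -/
def om (v : V) : Bool :=
  [1, 2, 3, 6, 9, 18, 27, 43, 54, 77, 81, 94, 116, 129, 146, 160, 162, 188, 203, 208, 220, 231].contains (code v)

private noncomputable def _root_.Cfsg.Agent.LsF.fec89ee_8 : {f // @Cfsg.Agent.H912.Eleven.code = f} := ⟨_, by first | (delta Cfsg.Agent.H912.Eleven.code; rewrite [Cfsg.Agent.LsF.nadd_pat, Cfsg.Agent.LsF.nmul_pat, Cfsg.Agent.LsF.zval_eq]; exact rfl) | exact rfl⟩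
private noncomputable def _root_.Cfsg.Agent.LsF.fec89ee_9 : {f // @Cfsg.Agent.H912.Eleven.om = f} := ⟨_, by first | (delta Cfsg.Agent.H912.Eleven.om; rewrite [Cfsg.Agent.LsF.fec89ee_8.2, Cfsg.Agent.LsF.instNBEq_pat, Cfsg.Agent.LsF.contains_eq]; exact rfl) | exact rfl⟩
theorem om_C : ∀ v : V, om (C *ᵥ v) = om v := by (refine of_decide_eq_true ?_; (try (rewrite [Cfsg.Agent.LsF.mulVecF_pat, Cfsg.Agent.LsF.piFintype_pat, Cfsg.Agent.LsF.fec89ee_9.2, Cfsg.Agent.LsF.fec89ee_0.2, Cfsg.Agent.LsF.zadd_pat, Cfsg.Agent.LsF.zmul_pat, Cfsg.Agent.LsF.zFintype_eq, Cfsg.Agent.LsF.dForall_eq, Cfsg.Agent.LsF.dBoolEq_eq, Cfsg.Agent.LsF.decide_eq])); decide +kernel)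
theorem om_Y : ∀ v : V, om (Y *ᵥ v) = om v := by (refine of_decide_eq_true ?_; (try (rewrite [Cfsg.Agent.LsF.mulVecF_pat, Cfsg.Agent.LsF.piFintype_pat, Cfsg.Agent.LsF.fec89ee_9.2, Cfsg.Agent.LsF.fec89ee_1.2, Cfsg.Agent.LsF.zadd_pat, Cfsg.Agent.LsF.zmul_pat, Cfsg.Agent.LsF.zFintype_eq, Cfsg.Agent.LsF.dForall_eq, Cfsg.Agent.LsF.dBoolEq_eq, Cfsg.Agent.LsF.decide_eq])); decide +kernel)
theorem om_T : ∀ v : V, om (T *ᵥ v) = om v := by (refine of_decide_eq_true ?_; (try (rewrite [Cfsg.Agent.LsF.mulVecF_pat, Cfsg.Agent.LsF.piFintype_pat, Cfsg.Agent.LsF.fec89ee_9.2, Cfsg.Agent.LsF.fec89ee_7.2, Cfsg.Agent.LsF.zadd_pat, Cfsg.Agent.LsF.zmul_pat, Cfsg.Agent.LsF.zFintype_eq, Cfsg.Agent.LsF.dForall_eq, Cfsg.Agent.LsF.dBoolEq_eq, Cfsg.Agent.LsF.decide_eq])); decide +kernel)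
private noncomputable def _root_.Cfsg.Agent.LsF.fec89ee_10 : {f // @Cfsg.Agent.H912.Eleven.W = f} := ⟨_, by first | (delta Cfsg.Agent.H912.Eleven.W; rewrite [Cfsg.Agent.LsF.mof_pat, Cfsg.Agent.LsF.vecCons_eq]; exact rfl) | exact rfl⟩
theorem om_W : ∀ v : V, om (W *ᵥ v) = om v := by (refine of_decide_eq_true ?_; (try (rewrite [Cfsg.Agent.LsF.mulVecF_pat, Cfsg.Agent.LsF.piFintype_pat, Cfsg.Agent.LsF.fec89ee_9.2, Cfsg.Agent.LsF.fec89ee_10.2, Cfsg.Agent.LsF.zadd_pat, Cfsg.Agent.LsF.zmul_pat, Cfsg.Agent.LsF.zFintype_eq, Cfsg.Agent.LsF.dForall_eq, Cfsg.Agent.LsF.dBoolEq_eq, Cfsg.Agent.LsF.decide_eq])); decide +kernel)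

/-- a transvection -/
def X : M5 := !![1,0,0,0,0; 1,1,0,0,0; 0,0,1,0,0; 0,0,0,1,0; 0,0,0,0,1]
def Xi : M5 := !![1,0,0,0,0; 2,1,0,0,0; 0,0,1,0,0; 0,0,0,1,0; 0,0,0,0,1]
theorem X_Xi : X * Xi = 1 := by decide +kernel
theorem Xi_X : Xi * X = 1 := by (set_option synthInstance.maxSize 20000 in open scoped Cfsg.Agent.Lib.MatDec in decide +kernel)
theorem om_X : om (X *ᵥ e0) ≠ om e0 := by decide +kernel

private noncomputable def _root_.Cfsg.Agent.LsF.fec89ee_11 : {f // @Cfsg.Agent.H912.Eleven.X = f} := ⟨_, by first | (delta Cfsg.Agent.H912.Eleven.X; rewrite [Cfsg.Agent.LsF.mof_pat, Cfsg.Agent.LsF.vecCons_eq]; exact rfl) | exact rfl⟩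
theorem det_X : X.det = 1 := by (refine of_decide_eq_true ?_; (try (rewrite [Cfsg.Agent.LsF.fec89ee_11.2, Cfsg.Agent.LsF.zdet_pat, Cfsg.Agent.LsF.zdecEq_eq, Cfsg.Agent.LsF.finFintype_eq, Cfsg.Agent.LsF.decide_eq])); decide +kernel)
theorem det_W : W.det = 1 := by (refine of_decide_eq_true ?_; (try (rewrite [Cfsg.Agent.LsF.fec89ee_10.2, Cfsg.Agent.LsF.zdet_pat, Cfsg.Agent.LsF.zdecEq_eq, Cfsg.Agent.LsF.finFintype_eq, Cfsg.Agent.LsF.decide_eq])); decide +kernel)

/-- `W` has order eight: `W^4 ≠ 1`. -/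
theorem W_four : (W * W) * (W * W) ≠ 1 := by decide +kernel
theorem W_eight : ((W * W) * (W * W)) * ((W * W) * (W * W)) = 1 := by (set_option synthInstance.maxSize 20000 in open scoped Cfsg.Agent.Lib.MatDec in decide +kernel)

end Cfsg.Agent.H912.Eleven
end

-- part: H912/ElevenForm
section
/-!
# Normal form of `x, y, t` (`x^11 = 1`, `y x y⁻¹ = x^4`, `t y t⁻¹ = y⁻¹`, `(x t)^3 = 1`) in `GL_5(3)`
-/

set_option autoImplicit false

namespace Cfsg.Agent.H912.Eleven

open Matrix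

theorem ext_single {A B : M5} (h : ∀ j : Fin 5, A *ᵥ Pi.single j 1 = B *ᵥ Pi.single j 1) : A = B := by
  ext i j
  have := congrFun (h j) i
  rwa [Matrix.mulVec_single_one, Matrix.mulVec_single_one] at this

theorem ext_vec {A B : M5} (h : ∀ v, A *ᵥ v = B *ᵥ v) : A = B := ext_single fun _ => h _

/-! ### counting fixed points -/

theorem fix_modEq {q : ℕ} [hq : Fact q.Prime] {α : Type*} [Fintype α] [DecidableEq α] (f : α → α)
    (hf : ∀ v, f^[q] v = v) : Fintype.card α ≡ Fintype.card {v // f v = v} [MOD q] := by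
  let f' : Function.End α := f
  have h : f' ^ q ^ 1 = 1 := by
    rw [pow_one]
    funext v
    exact hf v
  have h2 := Equiv.Perm.card_fixedPoints_modEq h
  have h3 : Fintype.card (Function.fixedPoints f') = Fintype.card {v // f v = v} :=
    Fintype.card_congr (Equiv.refl _)
  rwa [h3] at h2

theorem iterate_mulVec (X : M5) (n : ℕ) (v : V) : (fun v => X *ᵥ v)^[n] v = (X ^ n) *ᵥ v := by
  induction n generalizing v with
  | zero => simp
  | succ n ih => rw [Function.iterate_succ_apply, ih, pow_succ, Matrix.mulVec_mulVec]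

theorem exists_fixed {Z : M5} (h5 : Z ^ 5 = 1) : ∃ w : V, w ≠ 0 ∧ Z *ᵥ w = w := by
  by_contra hcon
  push Not at hcon
  have : Fact (Nat.Prime 5) := ⟨by norm_num⟩
  have h1 := fix_modEq (q := 5) (fun v : V => Z *ᵥ v) (fun v => by rw [iterate_mulVec, h5, Matrix.one_mulVec])
  have h2 : Fintype.card {v : V // (fun v => Z *ᵥ v) v = v} = 1 := by
    rw [Fintype.card_eq_one_iff]
    refine ⟨⟨0, Matrix.mulVec_zero _⟩, ?_⟩
    rintro ⟨w, hw⟩
    apply Subtype.ext
    by_contra hne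
    exact hcon w hne hw
  rw [h2] at h1
  have h3 : Fintype.card V = 243 := by simp
  rw [h3] at h1
  exact absurd h1 (by decide)

theorem no_inv_sub {X : M5} (h11 : X ^ 11 = 1) (hfix : ∀ v, X *ᵥ v = v → v = 0) (S : Submodule K V)
    (hS : ∀ v ∈ S, X *ᵥ v ∈ S) : S = ⊥ ∨ S = ⊤ := by
  classical
  have : Fact (Nat.Prime 11) := ⟨by norm_num⟩
  have : Fintype S := Fintype.ofFinite S
  let f : S → S := fun v => ⟨X *ᵥ v.1, hS v.1 v.2⟩
  have hf : ∀ n (v : S), ((f^[n] v : S) : V) = (X ^ n) *ᵥ v.1 := by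
    intro n
    induction n with
    | zero => intro v; simp
    | succ n ih =>
      intro v
      rw [Function.iterate_succ_apply, ih, pow_succ, ← Matrix.mulVec_mulVec]
  have h1 := fix_modEq (q := 11) f (fun v => Subtype.ext (by rw [hf, h11, Matrix.one_mulVec]))
  have h2 : Fintype.card {v : S // f v = v} = 1 := by
    rw [Fintype.card_eq_one_iff]
    refine ⟨⟨0, Subtype.ext (Matrix.mulVec_zero X)⟩, ?_⟩
    rintro ⟨w, hw⟩
    apply Subtype.ext
    apply Subtype.ext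
    exact hfix w.1 (congrArg Subtype.val hw)
  rw [h2] at h1
  have h3 : Fintype.card S = 3 ^ Module.finrank K S := by
    rw [Module.card_eq_pow_finrank (K := K) (V := S), ZMod.card]
  rw [h3] at h1
  have h4 : Module.finrank K S ≤ 5 := by
    have := Submodule.finrank_le S
    simpa using this
  have h5 : Module.finrank K S = 0 ∨ Module.finrank K S = 5 := by
    generalize Module.finrank K S = d at *
    interval_cases d <;> first | omega | (exfalso; revert h1; decide)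
  rcases h5 with h5 | h5
  · left
    exact Submodule.finrank_eq_zero.1 h5
  · right
    apply Submodule.eq_top_of_finrank_eq
    rw [h5]
    simp

theorem fix_zero {X : M5} (h11 : X ^ 11 = 1) (h1 : X ≠ 1) : ∀ v, X *ᵥ v = v → v = 0 := by
  classical
  have : Fact (Nat.Prime 11) := ⟨by norm_num⟩
  let S : Submodule K V := LinearMap.ker (Matrix.mulVecLin (X - 1))
  have hmem : ∀ v, v ∈ S ↔ X *ᵥ v = v := by
    intro v
    rw [LinearMap.mem_ker, Matrix.mulVecLin_apply, Matrix.sub_mulVec, Matrix.one_mulVec, sub_eq_zero]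
  have : Fintype S := Fintype.ofFinite S
  have h2 := fix_modEq (q := 11) (fun v : V => X *ᵥ v) (fun v => by rw [iterate_mulVec, h11, Matrix.one_mulVec])
  have h3 : Fintype.card {v : V // (fun v => X *ᵥ v) v = v} = Fintype.card S :=
    Fintype.card_congr (Equiv.subtypeEquivRight fun v => (hmem v).symm)
  have h4 : Fintype.card S = 3 ^ Module.finrank K S := by
    rw [Module.card_eq_pow_finrank (K := K) (V := S), ZMod.card]
  rw [h3, h4, show Fintype.card V = 243 by simp] at h2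
  have h5 : Module.finrank K S ≤ 5 := by
    have := Submodule.finrank_le S
    simpa using this
  have h6 : Module.finrank K S = 0 ∨ Module.finrank K S = 5 := by
    generalize Module.finrank K S = d at *
    interval_cases d <;> first | omega | (exfalso; revert h2; decide)
  rcases h6 with h6 | h6
  · have h7 := Submodule.finrank_eq_zero.1 h6
    intro v hv
    have := (hmem v).2 hv
    rwa [h7, Submodule.mem_bot] at this
  · exfalso
    apply h1
    have h7 : S = ⊤ := by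
      apply Submodule.eq_top_of_finrank_eq
      rw [h6]
      simp
    have h8 : ∀ v, X *ᵥ v = v := fun v => (hmem v).1 (by rw [h7]; trivial)
    apply ext_vec
    intro v
    rw [h8, Matrix.one_mulVec]

/-! ### The cyclic basis -/

/-- the matrix with columns `w, X w, X² w, X³ w, X⁴ w` -/
def Gm (X : M5) (w : V) : M5 := Matrix.of fun i j => ((X ^ (j : ℕ)) *ᵥ w) i

theorem Gm_single (X : M5) (w : V) (j : Fin 5) : Gm X w *ᵥ Pi.single j 1 = (X ^ (j : ℕ)) *ᵥ w := by
  rw [Matrix.mulVec_single_one]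
  rfl

theorem C_single : ∀ j : Fin 5, C *ᵥ Pi.single j 1 = ![Pi.single 1 1, Pi.single 2 1, Pi.single 3 1, Pi.single 4 1,
    Pi.single 0 1 + (2 : K) • Pi.single 2 1 + Pi.single 3 1 + (2 : K) • Pi.single 4 1] j := by (set_option synthInstance.maxSize 20000 in open scoped Cfsg.Agent.Lib.MatDec in decide +kernel)

theorem Gm_C {X : M5} {w : V} (hw : f1 X *ᵥ w = 0) : X * Gm X w = Gm X w * C := by
  apply ext_single
  intro j
  rw [← Matrix.mulVec_mulVec, ← Matrix.mulVec_mulVec, C_single, Gm_single, Matrix.mulVec_mulVec, ← pow_succ']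
  fin_cases j
  · exact (Gm_single X w 1).symm
  · exact (Gm_single X w 2).symm
  · exact (Gm_single X w 3).symm
  · exact (Gm_single X w 4).symm
  · change (X ^ 5) *ᵥ w = Gm X w *ᵥ (Pi.single 0 1 + (2 : K) • Pi.single 2 1 + Pi.single 3 1 +
      (2 : K) • Pi.single 4 1)
    rw [Matrix.mulVec_add, Matrix.mulVec_add, Matrix.mulVec_add, Matrix.mulVec_smul, Matrix.mulVec_smul, Gm_single,
      Gm_single, Gm_single, Gm_single]
    unfold f1 at hw
    rw [Matrix.sub_mulVec, Matrix.add_mulVec, Matrix.sub_mulVec, Matrix.add_mulVec, Matrix.one_mulVec] at hw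
    change _ = (X ^ 0) *ᵥ w + (2 : K) • (X ^ 2) *ᵥ w + (X ^ 3) *ᵥ w + (2 : K) • (X ^ 4) *ᵥ w
    rw [pow_zero, Matrix.one_mulVec]
    have h2 : (2 : K) = -1 := by decide
    rw [h2, neg_smul, neg_smul, one_smul, one_smul]
    have h3 : (X ^ 5) *ᵥ w = w + -(X ^ 2 *ᵥ w) + X ^ 3 *ᵥ w + -(X ^ 4 *ᵥ w) +
      (X ^ 5 *ᵥ w + X ^ 4 *ᵥ w - X ^ 3 *ᵥ w + X ^ 2 *ᵥ w - w) := by abel
    rw [hw, add_zero] at h3
    exact h3

theorem pow_Gm {X : M5} {w : V} (h : X * Gm X w = Gm X w * C) (n : ℕ) : X ^ n * Gm X w = Gm X w * C ^ n := by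
  induction n with
  | zero => rw [pow_zero, pow_zero, one_mul, mul_one]
  | succ n ih => rw [pow_succ', mul_assoc, ih, ← mul_assoc, h, mul_assoc, ← pow_succ']

theorem isUnit_Gm {X : M5} {w : V} (hw0 : w ≠ 0) (h : X * Gm X w = Gm X w * C) : IsUnit (Gm X w) := by
  have hS := no_inv_sub C_eleven C_fix (LinearMap.ker (Matrix.mulVecLin (Gm X w))) (by
    intro v hv
    rw [LinearMap.mem_ker, Matrix.mulVecLin_apply] at hv ⊢
    rw [Matrix.mulVec_mulVec, ← h, ← Matrix.mulVec_mulVec, hv, Matrix.mulVec_zero])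
  rcases hS with hS | hS
  · rw [← Matrix.mulVec_injective_iff_isUnit]
    exact LinearMap.ker_eq_bot.1 hS
  · exfalso
    apply hw0
    have h1 : Pi.single 0 1 ∈ LinearMap.ker (Matrix.mulVecLin (Gm X w)) := by rw [hS]; trivial
    rw [LinearMap.mem_ker, Matrix.mulVecLin_apply, Gm_single] at h1
    simpa using h1

/-! ### the two factors of `X^11 - 1` -/

section poly

theorem factor (x : Polynomial K) : (x ^ 5 + x ^ 4 - x ^ 3 + x ^ 2 - 1) * (x ^ 5 - x ^ 3 + x ^ 2 - x - 1) * (x - 1) =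
    x ^ 11 - 1 := by
  have h3 : (3 : Polynomial K) = 0 := by
    have h : ((3 : ℕ) : Polynomial K) = 0 := CharP.cast_eq_zero _ 3
    exact_mod_cast h
  linear_combination (-(x ^ 8 + 2 * x ^ 5 + x ^ 2) * (x - 1)) * h3

theorem factor_mat (Z : M5) : (Z - 1) * (f1 Z * f2 Z) = Z ^ 11 - 1 := by
  have h := congrArg (Polynomial.aeval Z) (factor Polynomial.X)
  simp only [map_mul, map_sub, map_add, map_pow, map_one, Polynomial.aeval_X] at h
  rw [← h]
  have hc : Commute (Z - 1) (f1 Z * f2 Z) := by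
    unfold f1 f2
    have h1 : Commute (Z - 1) Z := (Commute.refl Z).sub_left (Commute.one_left Z)
    have h2 : ∀ n, Commute (Z - 1) (Z ^ n) := fun n => h1.pow_right n
    have h3 : Commute (Z - 1) 1 := Commute.one_right _
    exact ((((h2 5).add_right (h2 4)).sub_right (h2 3)).add_right (h2 2) |>.sub_right h3).mul_right
      (((((h2 5).sub_right (h2 3)).add_right (h2 2)).sub_right h1).sub_right h3)
  exact hc.eq

end poly

theorem f1_conj {Z G G' : M5} (h : Z * G = G * C) (hG : G * G' = 1) : f1 Z = 0 := by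
  have hp : ∀ n : ℕ, Z ^ n * G = G * C ^ n := by
    intro n
    induction n with
    | zero => rw [pow_zero, pow_zero, one_mul, mul_one]
    | succ n ih => rw [pow_succ', mul_assoc, ih, ← mul_assoc, h, mul_assoc, ← pow_succ']
  have h1 : f1 Z * G = G * f1 C := by
    unfold f1
    simp only [sub_mul, add_mul, mul_sub, mul_add, hp, one_mul, mul_one]
  rw [f1_C, mul_zero] at h1
  calc f1 Z = f1 Z * (G * G') := by rw [hG, mul_one]
    _ = 0 := by rw [← mul_assoc, h1, zero_mul]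

/-- An element of order eleven of `GL_5(3)` is annihilated by one of the two factors. -/
theorem f1_or_f2 {Z : M5} (h11 : Z ^ 11 = 1) (h1 : Z ≠ 1) : f1 Z = 0 ∨ f2 Z = 0 := by
  have hfix := fix_zero h11 h1
  have h2 : f1 Z * f2 Z = 0 := by
    apply ext_vec
    intro v
    rw [Matrix.zero_mulVec]
    apply hfix
    have h3 := factor_mat Z
    rw [h11, sub_self] at h3
    have h4 := congrArg (fun A : M5 => A *ᵥ v) h3
    simp only [Matrix.zero_mulVec] at h4
    rw [← Matrix.mulVec_mulVec, Matrix.sub_mulVec, Matrix.one_mulVec, sub_eq_zero] at h4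
    exact h4
  by_cases h3 : f2 Z = 0
  · exact Or.inr h3
  · left
    obtain ⟨v, hv⟩ : ∃ v, f2 Z *ᵥ v ≠ 0 := by
      by_contra hcon
      push Not at hcon
      exact h3 (ext_vec fun v => by rw [hcon v, Matrix.zero_mulVec])
    have h4 : f1 Z *ᵥ (f2 Z *ᵥ v) = 0 := by rw [Matrix.mulVec_mulVec, h2, Matrix.zero_mulVec]
    have h5 := Gm_C h4
    obtain ⟨u, hu⟩ := isUnit_Gm hv h5
    refine f1_conj h5 (G' := (u⁻¹ : M5ˣ)) ?_
    rw [← hu]
    exact u.mul_inv

theorem f1_inv {Z Z' : M5} (h : Z * Z' = 1) (h' : Z' * Z = 1) (hf : f2 Z = 0) : f1 Z' = 0 := by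
  have hc : Commute Z Z' := h.trans h'.symm
  have hp : ∀ k m : ℕ, Z ^ k * Z' ^ (k + m) = Z' ^ m := by
    intro k m
    rw [pow_add, ← mul_assoc, ← hc.mul_pow, h, one_pow, one_mul]
  have h1 : f2 Z * Z' ^ 5 = -f1 Z' := by
    unfold f1 f2
    simp only [sub_mul, add_mul, one_mul]
    rw [show Z ^ 5 * Z' ^ 5 = 1 from by simpa using hp 5 0, show Z ^ 3 * Z' ^ 5 = Z' ^ 2 from hp 3 2,
      show Z ^ 2 * Z' ^ 5 = Z' ^ 3 from hp 2 3, show Z * Z' ^ 5 = Z' ^ 4 from by simpa using hp 1 4]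
    abel
  rw [hf, zero_mul] at h1
  exact neg_eq_zero.1 h1.symm

/-! ### the normal form -/

/-- Normal form of `x` and `y`. -/
theorem exists_form {Z Q : M5} (hf : f1 Z = 0) (hQ : Q ^ 5 = 1) (hQZ : Q * Z = Z ^ 4 * Q) :
    ∃ G G' : M5, G * G' = 1 ∧ G' * G = 1 ∧ Z * G = G * C ∧ Q * G = G * Y := by
  obtain ⟨w, hw0, hw⟩ := exists_fixed hQ
  have h5 := Gm_C (X := Z) (w := w) (by rw [hf, Matrix.zero_mulVec])
  obtain ⟨u, hu⟩ := isUnit_Gm hw0 h5
  refine ⟨Gm Z w, (u⁻¹ : M5ˣ), by rw [← hu]; exact u.mul_inv, by rw [← hu]; exact u.inv_mul, h5, ?_⟩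
  have hQn : ∀ n : ℕ, Q * Z ^ n = Z ^ (4 * n) * Q := by
    intro n
    induction n with
    | zero => simp
    | succ n ih => rw [pow_succ, ← mul_assoc, ih, mul_assoc, hQZ, ← mul_assoc, ← pow_add]; congr 2
  apply ext_single
  intro j
  rw [← Matrix.mulVec_mulVec, Gm_single, Matrix.mulVec_mulVec, hQn, ← Matrix.mulVec_mulVec, hw, ← Matrix.mulVec_mulVec,
    Y_col, ← C_pow, Matrix.mulVec_mulVec, ← pow_Gm h5, ← Matrix.mulVec_mulVec]
  have h6 : Gm Z w *ᵥ e0 = w := by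
    have h7 : e0 = Pi.single 0 1 := by decide +kernel
    rw [h7, Gm_single]
    simp
  rw [h6]

/-- Normal form of `t`. -/
theorem t_form {t : M5} (h2 : t * t = 1) (hY : t * Y = Yi * t) (h3 : (C * t) * (C * t) * (C * t) = 1) : t = T := by
  have hYtY : Y * (t * Y) = t := by rw [hY, ← mul_assoc, Y_Yi, one_mul]
  have ha : Y *ᵥ (t *ᵥ e0) = t *ᵥ e0 := by
    conv_rhs => rw [← hYtY, ← Matrix.mulVec_mulVec, ← Matrix.mulVec_mulVec, Y_e0]
  have ha2 := Y_fix _ ha
  set α : K := (t *ᵥ e0) 0 with hα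
  set b : V := t *ᵥ e1 with hb
  have hα0 : α ≠ 0 := by
    intro h0
    rw [h0, zero_smul] at ha2
    have h4 : t *ᵥ (t *ᵥ e0) = e0 := by rw [Matrix.mulVec_mulVec, h2, Matrix.one_mulVec]
    rw [ha2, Matrix.mulVec_zero] at h4
    have h5 := congrFun h4 0
    exact absurd h5 (by decide)
  have hYv : ∀ v, t *ᵥ (Y *ᵥ v) = Yi *ᵥ (t *ᵥ v) := by
    intro v
    rw [Matrix.mulVec_mulVec, hY, ← Matrix.mulVec_mulVec]
  have hB : t * B = Nm α b := by
    apply ext_single
    intro j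
    rw [← Matrix.mulVec_mulVec, B_col, Matrix.mulVec_single_one]
    fin_cases j
    · exact ha2
    · rfl
    · exact hYv _
    · change t *ᵥ (Y *ᵥ (Y *ᵥ e1)) = _
      rw [hYv, hYv]
      rfl
    · change t *ᵥ (Y *ᵥ (Y *ᵥ (Y *ᵥ e1))) = _
      rw [hYv, hYv, hYv]
      rfl
  have ht : t = Nm α b * Bi := by rw [← hB, mul_assoc, B_Bi, mul_one]
  have hrel : t * (C * t) = Ci * (t * Ci) := by
    calc t * (C * t) = Ci * ((C * t) * (C * t) * (C * t)) * t * Ci * 1 := by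
          rw [mul_one]
          have e1 : Ci * ((C * t) * (C * t) * (C * t)) = (Ci * C) * (t * (C * t * (C * t))) := by noncomm_ring
          rw [e1, Ci_C, one_mul]
          have e2 : t * (C * t * (C * t)) * t * Ci = t * (C * t) * (C * (t * t)) * Ci := by noncomm_ring
          rw [e2, h2, mul_one, mul_assoc, C_Ci, mul_one]
      _ = Ci * (t * Ci) := by rw [h3, mul_one, mul_one, mul_assoc]
  have he : α • b = Ci *ᵥ ((2 * α) • e0 + b + (2 : K) • (Yi *ᵥ b) + Yi *ᵥ (Yi *ᵥ b)) := by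
    have h4 := congrArg (fun A : M5 => A *ᵥ e0) hrel
    simp only [← Matrix.mulVec_mulVec] at h4
    rw [ha2, Ci_e0, Matrix.mulVec_smul, Matrix.mulVec_smul] at h4
    have hCe : C *ᵥ e0 = e1 := by decide +kernel
    have ht1 : t *ᵥ ((2 : K) • e0 + e1 + (2 : K) • (Y *ᵥ e1) + Y *ᵥ (Y *ᵥ e1)) =
        (2 * α) • e0 + b + (2 : K) • (Yi *ᵥ b) + Yi *ᵥ (Yi *ᵥ b) := by
      rw [Matrix.mulVec_add, Matrix.mulVec_add, Matrix.mulVec_add, Matrix.mulVec_smul, Matrix.mulVec_smul, hYv, hYv,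
        hYv, ha2, smul_smul]
    rw [hCe, ht1] at h4
    exact h4
  have := solve α hα0 b he (by rw [← ht]; exact h2)
  rw [ht]
  exact this

end Cfsg.Agent.H912.Eleven
end
end

-- part: H912/ElevenThree
section
prune_inst 0x10044405022020000180500102020404c0005b200030000f1000840000ef422a0c2270140a018100a0822412001002001100040421000000a00000000000120800a40002300010426001f800082000000000000000000000000000000041000000000000
set_option linter.all false
open scoped Cfsg.Agent.FastGrp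

/-!
# `L_2(11) < GL_5(3)` lies in `M_11 < SL_5(3)` and is its own normalizer in `SL_5(3)`
-/

set_option autoImplicit false

namespace Cfsg.Agent.H912.Eleven

open Matrix

abbrev GG := Matrix.GeneralLinearGroup (Fin 5) K

/-- The relations of `L_2(11)` and the two facts on elements of order eleven. -/
structure Dat (P : Subgroup GG) (x y t : GG) : Prop where
  hx : x ∈ P
  hy : y ∈ P
  ht : t ∈ P
  x11 : x ^ 11 = 1
  x1 : x ≠ 1
  y5 : y ^ 5 = 1
  yx : y * x * y⁻¹ = x ^ 4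
  tt : t * t = 1
  ty : t * y * t⁻¹ = y⁻¹
  xt : (x * t) * (x * t) * (x * t) = 1
  gen : P = Subgroup.closure {x, y, t}
  conj : ∀ z ∈ P, z ^ 11 = 1 → z ≠ 1 → ∃ c ∈ P, ∃ k : ℕ, k < 11 ∧ k ≠ 0 ∧ c * z * c⁻¹ = x ^ k
  cent : ∀ z ∈ P, z * x = x * z → ∃ k : ℕ, z = x ^ k
  card : Nat.card P = 660

theorem Dat.inv {P : Subgroup GG} {x y t : GG} (h : Dat P x y t) : Dat P x⁻¹ y t := by
  have hinv : x⁻¹ = x ^ 10 := by
    rw [inv_eq_iff_mul_eq_one, ← pow_succ', h.x11]
  refine ⟨inv_mem h.hx, h.hy, h.ht, by rw [inv_pow, h.x11, inv_one], fun h1 => h.x1 (inv_eq_one.1 h1), h.y5, ?_,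
    h.tt, h.ty, ?_, ?_, ?_, ?_, h.card⟩
  · rw [inv_pow, ← h.yx]; group
  · have h1 := h.xt
    have ht : t⁻¹ = t := inv_eq_of_mul_eq_one_right h.tt
    have h2 : (x⁻¹ * t) * (x⁻¹ * t) * (x⁻¹ * t) = t * ((x * t) * (x * t) * (x * t))⁻¹ * t⁻¹ := by
      have h3 : ((x * t) * (x * t) * (x * t))⁻¹ = (t⁻¹ * x⁻¹) * (t⁻¹ * x⁻¹) * (t⁻¹ * x⁻¹) := by group
      rw [h3, ht]
      have h4 : t * (t * x⁻¹ * (t * x⁻¹) * (t * x⁻¹)) * t = (t * t) * (x⁻¹ * t * (x⁻¹ * t) * (x⁻¹ * t)) := by group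
      rw [h4, h.tt, one_mul]
    rw [h2, h1, inv_one, mul_one, mul_inv_cancel]
  · rw [h.gen]
    apply le_antisymm
    · rw [Subgroup.closure_le]
      rintro _ (rfl | rfl | rfl)
      · exact (Subgroup.inv_mem_iff _).1 (Subgroup.subset_closure (by simp))
      · exact Subgroup.subset_closure (by simp)
      · exact Subgroup.subset_closure (by simp)
    · rw [Subgroup.closure_le]
      rintro _ (rfl | rfl | rfl)
      · exact inv_mem (Subgroup.subset_closure (by simp))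
      · exact Subgroup.subset_closure (by simp)
      · exact Subgroup.subset_closure (by simp)
  · intro z hz h11 h1
    obtain ⟨c, hc, k, hk, hk0, h2⟩ := h.conj z hz h11 h1
    refine ⟨c, hc, 11 - k, by omega, by omega, ?_⟩
    rw [h2, hinv, ← pow_mul]
    have h3 : 10 * (11 - k) = k + 11 * (10 - k) := by omega
    rw [h3, pow_add, pow_mul, h.x11, one_pow, mul_one]
  · intro z hz hzx
    have h2 : z * x = x * z := by
      have : Commute z x⁻¹ := hzx
      exact (Commute.inv_right_iff.1 this).eq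
    obtain ⟨k, hk⟩ := h.cent z hz h2
    refine ⟨10 * k, ?_⟩
    rw [hk, hinv, ← pow_mul]
    have h3 : 10 * (10 * k) = k + 11 * (9 * k) := by ring
    rw [h3, pow_add, pow_mul, h.x11, one_pow, mul_one]

/-- `C`, `Y`, `T`, `W`, `X` as units -/
def Cu : GG := ⟨C, Ci, C_Ci, Ci_C⟩
def Yu : GG := ⟨Y, Yi, Y_Yi, Yi_Y⟩
def Tu : GG := ⟨T, T, T_T, T_T⟩
def Wu : GG := ⟨W, Wi, W_Wi, Wi_W⟩
def Xu : GG := ⟨X, Xi, X_Xi, Xi_X⟩

/-- `M_11` -/
def MM : Subgroup GG where
  carrier := {g | g.1.det = 1 ∧ ∀ v, om (g.1 *ᵥ v) = om v}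
  one_mem' := ⟨by simp, fun v => by simp⟩
  mul_mem' := by
    rintro a b ⟨ha, ha'⟩ ⟨hb, hb'⟩
    refine ⟨by rw [Units.val_mul, Matrix.det_mul, ha, hb, one_mul], fun v => ?_⟩
    rw [Units.val_mul, ← Matrix.mulVec_mulVec, ha', hb']
  inv_mem' := by
    rintro a ⟨ha, ha'⟩
    have h1 : a.1 * (a⁻¹).1 = 1 := a.mul_inv
    refine ⟨?_, fun v => ?_⟩
    · have h2 := congrArg Matrix.det h1
      rw [Matrix.det_mul, ha, one_mul, Matrix.det_one] at h2
      exact h2
    · rw [← ha' ((a⁻¹).1 *ᵥ v), Matrix.mulVec_mulVec, h1, Matrix.one_mulVec]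

private noncomputable def _root_.Cfsg.Agent.LsF.fa337af_0 : {f // @Cfsg.Agent.H912.Eleven.C = f} := ⟨_, by first | (delta Cfsg.Agent.H912.Eleven.C; rewrite [Cfsg.Agent.LsF.mof_pat, Cfsg.Agent.LsF.vecCons_eq]; exact rfl) | exact rfl⟩
theorem C_mem : Cu ∈ MM := ⟨by change C.det = 1; (refine of_decide_eq_true ?_; (try (rewrite [Cfsg.Agent.LsF.fa337af_0.2, Cfsg.Agent.LsF.zdet_pat, Cfsg.Agent.LsF.zdecEq_eq, Cfsg.Agent.LsF.finFintype_eq, Cfsg.Agent.LsF.decide_eq])); decide +kernel), om_C⟩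
private noncomputable def _root_.Cfsg.Agent.LsF.fa337af_1 : {f // @Cfsg.Agent.H912.Eleven.Y = f} := ⟨_, by first | (delta Cfsg.Agent.H912.Eleven.Y; rewrite [Cfsg.Agent.LsF.mof_pat, Cfsg.Agent.LsF.vecCons_eq]; exact rfl) | exact rfl⟩
theorem Y_mem : Yu ∈ MM := ⟨by change Y.det = 1; (refine of_decide_eq_true ?_; (try (rewrite [Cfsg.Agent.LsF.fa337af_1.2, Cfsg.Agent.LsF.zdet_pat, Cfsg.Agent.LsF.zdecEq_eq, Cfsg.Agent.LsF.finFintype_eq, Cfsg.Agent.LsF.decide_eq])); decide +kernel), om_Y⟩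
private noncomputable def _root_.Cfsg.Agent.LsF.fa337af_2 : {f // @Cfsg.Agent.H912.Eleven.T = f} := ⟨_, by first | (delta Cfsg.Agent.H912.Eleven.T; rewrite [Cfsg.Agent.LsF.mof_pat, Cfsg.Agent.LsF.vecCons_eq]; exact rfl) | exact rfl⟩
theorem T_mem : Tu ∈ MM := ⟨by change T.det = 1; (refine of_decide_eq_true ?_; (try (rewrite [Cfsg.Agent.LsF.fa337af_2.2, Cfsg.Agent.LsF.zdet_pat, Cfsg.Agent.LsF.zdecEq_eq, Cfsg.Agent.LsF.finFintype_eq, Cfsg.Agent.LsF.decide_eq])); decide +kernel), om_T⟩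
theorem W_mem : Wu ∈ MM := ⟨det_W, om_W⟩
theorem X_notMem : Xu ∉ MM := fun h => om_X (h.2 e0)

theorem W_pow_four : Wu ^ 4 ≠ 1 := by
  intro h
  apply W_four
  have := congrArg Units.val h
  rw [Units.val_pow_eq_pow_val] at this
  have h2 : W ^ 4 = (W * W) * (W * W) := by noncomm_ring
  rw [← h2]
  exact this

theorem W_pow_eight : Wu ^ 8 = 1 := by
  apply Units.ext
  rw [Units.val_pow_eq_pow_val]
  have h2 : W ^ 8 = ((W * W) * (W * W)) * ((W * W) * (W * W)) := by noncomm_ring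
  change W ^ 8 = 1
  rw [h2, W_eight]

set_option maxHeartbeats 4000000 in
/-- **Main lemma.** -/
theorem Dat.main {P H : Subgroup GG} {x y t : GG} (h : Dat P x y t) (hf : f1 x.1 = 0) (hPH : P ≤ H)
    (hn : ∀ g ∈ H, ∀ z ∈ P, g * z * g⁻¹ ∈ P) (hdet : ∀ g ∈ H, g.1.det = 1) :
    ∃ G : GG, (∀ g ∈ H, G⁻¹ * g * G ∈ MM) ∧ G * Wu * G⁻¹ ∉ H := by
  have hyx : y.1 * x.1 = x.1 ^ 4 * y.1 := by
    have h1 := h.yx
    rw [mul_inv_eq_iff_eq_mul] at h1
    have := congrArg Units.val h1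
    rwa [Units.val_mul, Units.val_mul, Units.val_pow_eq_pow_val] at this
  obtain ⟨G, G', hG1, hG2, hZ, hQ⟩ := exists_form hf (Q := y.1) (by
    have := congrArg Units.val h.y5
    rwa [Units.val_pow_eq_pow_val] at this) hyx
  let g : GG := ⟨G, G', hG1, hG2⟩
  have ex : x = g * Cu * g⁻¹ := by
    rw [eq_mul_inv_iff_mul_eq]
    exact Units.ext hZ
  have ey : y = g * Yu * g⁻¹ := by
    rw [eq_mul_inv_iff_mul_eq]
    exact Units.ext hQ
  -- t
  have et : t = g * Tu * g⁻¹ := by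
    set t' : GG := g⁻¹ * t * g with ht'
    have e1 : t = g * t' * g⁻¹ := by rw [ht']; group
    have h2 : t' * t' = 1 := by
      rw [ht']
      have : g⁻¹ * t * g * (g⁻¹ * t * g) = g⁻¹ * (t * t) * g := by group
      rw [this, h.tt]; group
    have h3 : t' * Yu = Yu⁻¹ * t' := by
      have h4 := h.ty
      rw [mul_inv_eq_iff_eq_mul, ey] at h4
      have h5 : t' * Yu = g⁻¹ * (t * (g * Yu * g⁻¹)) * g := by rw [ht']; group
      rw [h5, h4, ht']; group
    have h6 : (Cu * t') * (Cu * t') * (Cu * t') = 1 := by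
      have h7 := h.xt
      rw [ex] at h7
      have h8 : (Cu * t') * (Cu * t') * (Cu * t') =
          g⁻¹ * ((g * Cu * g⁻¹ * t) * (g * Cu * g⁻¹ * t) * (g * Cu * g⁻¹ * t)) * g := by rw [ht']; group
      rw [h8, h7]; group
    have h9 : t'.1 = T := t_form (congrArg Units.val h2 :) (congrArg Units.val h3 :) (congrArg Units.val h6 :)
    exact e1.trans (congrArg (fun z : GG => g * z * g⁻¹) (Units.ext h9 : t' = Tu))
  have hPM : ∀ z ∈ P, g⁻¹ * z * g ∈ MM := by
    have h1 : P ≤ MM.map (MulAut.conj g).toMonoidHom := by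
      rw [h.gen, Subgroup.closure_le]
      rintro _ (rfl | rfl | rfl)
      · exact ⟨Cu, C_mem, ex.symm⟩
      · exact ⟨Yu, Y_mem, ey.symm⟩
      · exact ⟨Tu, T_mem, et.symm⟩
    intro z hz
    obtain ⟨m, hm, rfl⟩ := h1 hz
    have : g⁻¹ * (MulAut.conj g).toMonoidHom m * g = m := by
      change g⁻¹ * (g * m * g⁻¹) * g = m
      group
    rw [this]
    exact hm
  -- `H = P`
  have hHP : ∀ u ∈ H, u ∈ P := by
    intro u hu
    -- move `x`
    obtain ⟨c, hc, k, hk, hk0, h1⟩ := h.conj (u * x * u⁻¹) (hn u hu x h.hx)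
      (by rw [conj_pow, h.x11]; group) (fun h1 => h.x1 (by
        rw [mul_inv_eq_one] at h1
        exact mul_left_cancel (h1.trans (mul_one u).symm)))
    have h2 : f1 (C ^ k) = 0 := by
      have h3 : x ^ k * (c * u * g) = (c * u * g) * Cu := by
        rw [← h1]
        have : c * (u * x * u⁻¹) * c⁻¹ * (c * u * g) = c * u * (x * g) := by group
        rw [this, ex]; group
      have h4 : (C ^ k) * (g⁻¹ * (c * u * g)).1 = (g⁻¹ * (c * u * g)).1 * C := by
        have h5 : Cu ^ k * (g⁻¹ * (c * u * g)) = g⁻¹ * (c * u * g) * Cu := by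
          have h6 : x ^ k = g * Cu ^ k * g⁻¹ := by rw [ex, conj_pow]
          calc Cu ^ k * (g⁻¹ * (c * u * g)) = g⁻¹ * ((g * Cu ^ k * g⁻¹) * (c * u * g)) := by group
            _ = g⁻¹ * ((c * u * g) * Cu) := by rw [← h6, h3]
            _ = g⁻¹ * (c * u * g) * Cu := by rw [mul_assoc g⁻¹]
        have := congrArg Units.val h5
        rwa [Units.val_mul, Units.val_pow_eq_pow_val, Units.val_mul _ Cu] at this
      exact f1_conj h4 (G' := ((g⁻¹ * (c * u * g))⁻¹).1) (Units.mul_inv _)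
    have h3 := f1_C_pow_ne k hk hk0 h2
    obtain ⟨j, hj⟩ : ∃ j : ℕ, x ^ k = y ^ j * x * (y ^ j)⁻¹ := by
      have hyn : ∀ n m : ℕ, y ^ n * x ^ m * (y ^ n)⁻¹ = x ^ (4 ^ n * m) := by
        intro n
        induction n with
        | zero => intro m; rw [pow_zero, pow_zero, one_mul, inv_one, mul_one, one_mul]
        | succ n ih =>
          intro m
          have e1 : y ^ (n + 1) * x ^ m * (y ^ (n + 1))⁻¹ = y ^ n * (y * x ^ m * y⁻¹) * (y ^ n)⁻¹ := by
            rw [pow_succ]; group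
          have e2 : y * x ^ m * y⁻¹ = x ^ (4 * m) := by
            rw [← conj_pow, h.yx, ← pow_mul]
          rw [e1, e2, ih, pow_succ, mul_assoc]
      have hmod : ∀ a b : ℕ, a % 11 = b % 11 → x ^ a = x ^ b := by
        intro a b hab
        rw [← Nat.mod_add_div a 11, ← Nat.mod_add_div b 11, hab, pow_add, pow_add, pow_mul, pow_mul, h.x11, one_pow,
          one_pow]
      rcases h3 with rfl | rfl | rfl | rfl | rfl
      · exact ⟨0, by rw [pow_zero, one_mul, inv_one, mul_one, pow_one]⟩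
      · exact ⟨4, by have := hyn 4 1; rw [pow_one] at this; rw [this]; exact hmod _ _ (by norm_num)⟩
      · exact ⟨1, by have := hyn 1 1; rw [pow_one x] at this; rw [this]; exact hmod _ _ (by norm_num)⟩
      · exact ⟨2, by have := hyn 2 1; rw [pow_one] at this; rw [this]; exact hmod _ _ (by norm_num)⟩
      · exact ⟨3, by have := hyn 3 1; rw [pow_one] at this; rw [this]; exact hmod _ _ (by norm_num)⟩
    -- `u₁` centralizes `x`
    set u₁ : GG := (y ^ j)⁻¹ * c * u with hu₁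
    have hu₁x : u₁ * x = x * u₁ := by
      have e1 : u₁ * x * u₁⁻¹ = (y ^ j)⁻¹ * (c * (u * x * u⁻¹) * c⁻¹) * (y ^ j) := by rw [hu₁]; group
      rw [h1, hj] at e1
      have e2 : (y ^ j)⁻¹ * (y ^ j * x * (y ^ j)⁻¹) * y ^ j = x := by group
      rw [e2, mul_inv_eq_iff_eq_mul] at e1
      exact e1
    have hu₁H : u₁ ∈ H := mul_mem (mul_mem (inv_mem (pow_mem (hPH h.hy) _)) (hPH hc)) hu
    -- `z = u₁ y u₁⁻¹ y⁻¹`
    obtain ⟨m, hm⟩ := h.cent (u₁ * y * u₁⁻¹ * y⁻¹) (mul_mem (hn u₁ hu₁H y h.hy) (inv_mem h.hy)) (by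
      have hc1 : Commute u₁ x := hu₁x
      have hy3 : y⁻¹ * x = x ^ 3 * y⁻¹ := by
        have e3 : y * x ^ 3 * y⁻¹ = x := by
          rw [← conj_pow, h.yx, ← pow_mul]
          have : x ^ (4 * 3) = x ^ 11 * x := by rw [← pow_succ]
          rw [this, h.x11, one_mul]
        calc y⁻¹ * x = y⁻¹ * (y * x ^ 3 * y⁻¹) := by rw [e3]
          _ = x ^ 3 * y⁻¹ := by group
      have e4 : u₁⁻¹ * x ^ 3 = x ^ 3 * u₁⁻¹ := (hc1.inv_left.pow_right 3).eq
      have e5 : y * x ^ 3 = x * y := by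
        have e3 : y * x ^ 3 * y⁻¹ = x := by
          rw [← conj_pow, h.yx, ← pow_mul]
          have : x ^ (4 * 3) = x ^ 11 * x := by rw [← pow_succ]
          rw [this, h.x11, one_mul]
        rwa [mul_inv_eq_iff_eq_mul] at e3
      calc u₁ * y * u₁⁻¹ * y⁻¹ * x = u₁ * y * (u₁⁻¹ * (y⁻¹ * x)) := by group
        _ = u₁ * y * (u₁⁻¹ * x ^ 3 * y⁻¹) := by rw [hy3, mul_assoc u₁⁻¹]
        _ = u₁ * (y * x ^ 3) * (u₁⁻¹ * y⁻¹) := by rw [e4]; group
        _ = u₁ * x * (y * (u₁⁻¹ * y⁻¹)) := by rw [e5]; group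
        _ = x * (u₁ * y * u₁⁻¹ * y⁻¹) := by rw [hu₁x]; group)
    -- `u₂` centralizes `x` and `y`
    set u₂ : GG := x ^ (4 * m) * u₁ with hu₂
    have hu₂x : u₂ * x = x * u₂ := by
      rw [hu₂, mul_assoc, hu₁x, ← mul_assoc, ← pow_succ, pow_succ', mul_assoc]
    have hu₂y : u₂ * y = y * u₂ := by
      have e0 : u₁ * y = x ^ m * y * u₁ := by
        rw [← hm]; group
      have hy4 : ∀ n : ℕ, y * x ^ n = x ^ (4 * n) * y := by
        intro n
        have : y * x ^ n * y⁻¹ = x ^ (4 * n) := by rw [← conj_pow, h.yx, ← pow_mul]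
        rwa [mul_inv_eq_iff_eq_mul] at this
      rw [hu₂]
      calc x ^ (4 * m) * u₁ * y = x ^ (4 * m) * (x ^ m * y * u₁) := by rw [mul_assoc, e0]
        _ = x ^ (4 * m + m) * y * u₁ := by rw [pow_add]; group
        _ = x ^ (4 * (4 * m)) * y * u₁ := by
            have e1 : x ^ (4 * (4 * m)) = x ^ (4 * m + m) := by
              have : 4 * (4 * m) = (4 * m + m) + 11 * m := by ring
              rw [this, pow_add _ (4 * m + m), pow_mul, h.x11, one_pow, mul_one]
            rw [e1]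
        _ = y * (x ^ (4 * m) * u₁) := by rw [← hy4, mul_assoc]
    have hu₂H : u₂ ∈ H := mul_mem (pow_mem (hPH h.hx) _) hu₁H
    have hu₂1 : u₂ = 1 := by
      set q : GG := g⁻¹ * u₂ * g with hq
      have hqC : q * Cu = Cu * q := by
        rw [ex] at hu₂x
        have e1 : q * Cu = g⁻¹ * (u₂ * (g * Cu * g⁻¹)) * g := by rw [hq]; group
        rw [e1, hu₂x, hq]; group
      have hqY : q * Yu = Yu * q := by
        rw [ey] at hu₂y
        have e1 : q * Yu = g⁻¹ * (u₂ * (g * Yu * g⁻¹)) * g := by rw [hq]; group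
        rw [e1, hu₂y, hq]; group
      have hqC' : q.1 * C = C * q.1 := congrArg Units.val hqC
      have hqY' : q.1 * Y = Y * q.1 := congrArg Units.val hqY
      have ha : Y *ᵥ (q.1 *ᵥ e0) = q.1 *ᵥ e0 := by
        rw [Matrix.mulVec_mulVec, ← hqY', ← Matrix.mulVec_mulVec, Y_e0]
      have ha2 := Y_fix _ ha
      set α : K := (q.1 *ᵥ e0) 0 with hα
      have hqn : ∀ n, q.1 * C ^ n = C ^ n * q.1 := fun n => ((show Commute q.1 C from hqC').pow_right n).eq
      have hqα : q.1 = α • (1 : M5) := by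
        apply ext_single
        intro i
        have e1 := C_e0 i
        rw [Matrix.smul_mulVec, Matrix.one_mulVec, ← e1]
        have e2 : Cp (i : ℕ) = C ^ (i : ℕ) := by rw [C_pow, Nat.mod_eq_of_lt (by omega)]
        rw [e2, Matrix.mulVec_mulVec, hqn, ← Matrix.mulVec_mulVec, ha2, Matrix.mulVec_smul]
      have hdq : q.1.det = 1 := by
        have e1 := hdet u₂ hu₂H
        have e2 : q.1 = (g⁻¹).1 * u₂.1 * g.1 := rfl
        rw [e2, Matrix.det_mul, Matrix.det_mul, e1, mul_one, ← Matrix.det_mul]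
        have e3 : (g⁻¹).1 * g.1 = 1 := g.inv_mul
        rw [e3, Matrix.det_one]
      rw [hqα, Matrix.det_smul, Matrix.det_one, mul_one, Fintype.card_fin] at hdq
      have key : ∀ β : K, β ^ 5 = 1 → β = 1 := by decide
      have hα1 : α = 1 := key α hdq
      rw [hα1, one_smul] at hqα
      have hq1 : q = 1 := Units.ext hqα
      rw [hq] at hq1
      have e1 : u₂ = g * (g⁻¹ * u₂ * g) * g⁻¹ := by group
      rw [e1, hq1]; group
    have hu₁P : u₁ ∈ P := by
      have e1 : u₁ = (x ^ (4 * m))⁻¹ * u₂ := by rw [hu₂]; group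
      rw [e1, hu₂1, mul_one]
      exact inv_mem (pow_mem h.hx _)
    have e1 : u = c⁻¹ * y ^ j * u₁ := by rw [hu₁]; group
    rw [e1]
    exact mul_mem (mul_mem (inv_mem hc) (pow_mem h.hy _)) hu₁P
  refine ⟨g, fun u hu => hPM u (hHP u hu), ?_⟩
  intro hW
  have h1 := hHP _ hW
  have h2 : orderOf (⟨g * Wu * g⁻¹, h1⟩ : P) = 8 := by
    rw [Subgroup.orderOf_mk]
    refine orderOf_eq_prime_pow (p := 2) (n := 2) ?_ ?_
    · rw [conj_pow]
      intro h3
      apply W_pow_four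
      rw [mul_inv_eq_one] at h3
      exact mul_left_cancel (h3.trans (mul_one g).symm)
    · rw [conj_pow]
      change g * Wu ^ 8 * g⁻¹ = 1
      rw [W_pow_eight]; group
  have h3 : 8 ∣ 660 := by
    rw [← h2, ← h.card]
    exact orderOf_dvd_natCard _
  exact absurd h3 (by decide)

end Cfsg.Agent.H912.Eleven
end

-- part: H912/FiveFinal
section
prune_inst 0x20200020480000200000000000000800000020020080000034a000000202000100010000000000000000000000000000000000000000100400000000000000000000000000000000000000000000000000000000000000000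
set_option linter.all false
open scoped Cfsg.Agent.FastGrp

-- part: H911/L27
section
/-!
# `SL_2(7)` has no irreducible representation of degree 5 in characteristic `≠ 7` (helper911)
-/

set_option autoImplicit false
set_option linter.unusedSectionVars false
set_option linter.unusedVariables false

namespace Cfsg.Agent.H911

open Module

variable {K : Type*} [Field K] {V : Type*} [AddCommGroup V] [Module K V] {L : Type*} [Group L]
  [FiniteDimensional K V] (ρ : L →* Module.End K V)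

/-- the fixed space of a cyclic group -/
theorem fix_zpowers (u : L) : fix ρ (Subgroup.zpowers u) = (ρ u).eigenspace 1 := by
  ext v
  rw [mem_fix, Module.End.mem_eigenspace_iff, one_smul]
  constructor
  · intro h
    exact h u (Subgroup.mem_zpowers u)
  · rintro h b ⟨k, rfl⟩
    have hn : ∀ n : ℕ, ρ (u ^ n) v = v := by
      intro n
      induction n with
      | zero => rw [pow_zero, map_one]; rfl
      | succ n ih => rw [pow_succ, ρ_mul_apply, h, ih]
    change ρ (u ^ k) v = v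
    rcases Int.eq_nat_or_neg k with ⟨n, rfl | rfl⟩
    · rw [zpow_natCast]; exact hn n
    · rw [zpow_neg, zpow_natCast]
      conv_lhs => rw [← hn n]
      rw [ρ_inv_apply]

/-- a fixed functional of `u` which is an eigenvector of `y` -/
theorem exists_functional [IsAlgClosed K] {u y : L} {k : ℕ} (hyu : y * u = u ^ k * y)
    (h0 : (ρ u).eigenspace 1 ≠ ⊥) :
    ∃ φ : V →ₗ[K] K, φ ≠ 0 ∧ (∀ v, φ (ρ u v) = φ v) ∧ ∃ μ : K, ∀ v, φ (ρ y v) = μ * φ v := by
  let W : Submodule K (V →ₗ[K] K) :=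
    { carrier := {φ | ∀ v, φ (ρ u v) = φ v}
      zero_mem' := fun v => rfl
      add_mem' := fun {a b} ha hb v => by rw [LinearMap.add_apply, LinearMap.add_apply, ha v, hb v]
      smul_mem' := fun c x hx v => by rw [LinearMap.smul_apply, LinearMap.smul_apply, hx v] }
  have hW : W ≠ ⊥ := by
    intro hbot
    apply h0
    have h1 : LinearMap.range (ρ u - 1) = ⊤ := by
      by_contra hne
      obtain ⟨φ, hφ, hφ2⟩ := Submodule.exists_le_ker_of_lt_top _ (lt_top_iff_ne_top.2 hne)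
      apply hφ
      have h2 : φ ∈ W := by
        intro v
        have h3 := hφ2 (LinearMap.mem_range_self (ρ u - 1) v)
        rw [LinearMap.mem_ker, LinearMap.sub_apply, Module.End.one_apply, map_sub, sub_eq_zero] at h3
        exact h3
      rw [hbot, Submodule.mem_bot] at h2
      exact h2
    have h2 := LinearMap.injective_iff_surjective.2 (LinearMap.range_eq_top.1 h1)
    rw [eq_bot_iff]
    intro v hv
    rw [Module.End.mem_eigenspace_iff, one_smul] at hv
    rw [Submodule.mem_bot]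
    apply h2
    rw [map_zero, LinearMap.sub_apply, hv, Module.End.one_apply, sub_self]
  let f : Module.End K (V →ₗ[K] K) :=
    { toFun := fun φ => φ.comp (ρ y)
      map_add' := fun a b => LinearMap.add_comp _ _ _
      map_smul' := fun c a => rfl }
  have hf : ∀ φ ∈ W, f φ ∈ W := by
    intro φ hφ v
    have hn : ∀ n : ℕ, ∀ v, φ (ρ (u ^ n) v) = φ v := by
      intro n
      induction n with
      | zero => intro v; rw [pow_zero, map_one]; rfl
      | succ n ih => intro v; rw [pow_succ, ρ_mul_apply, ih, hφ]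
    change φ (ρ y (ρ u v)) = φ (ρ y v)
    rw [← ρ_mul_apply, hyu, ρ_mul_apply, hn]
  obtain ⟨φ, hφ, hφ0, μ, hμ⟩ := exists_eigen f W hW hf
  exact ⟨φ, hφ0, hφ, μ, fun v => LinearMap.congr_fun hμ v⟩

/-! ### `SL_2(7)` -/

namespace SLTwoSeven

open Matrix

/-- the group -/
abbrev G := Matrix.SpecialLinearGroup (Fin 2) (ZMod 7)

/-- upper unipotent -/
def U (x : ZMod 7) : G := ⟨!![1, x; 0, 1], by rw [Matrix.det_fin_two_of]; ring⟩

/-- lower unipotent -/
def Lo (x : ZMod 7) : G := ⟨!![1, 0; x, 1], by rw [Matrix.det_fin_two_of]; ring⟩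

/-- torus -/
def hh : G := ⟨!![3, 0; 0, 5], by decide⟩

/-- Weyl element -/
def ww : G := ⟨!![0, 1; -1, 0], by decide⟩

theorem ext' {g k : G} (h00 : g.1 0 0 = k.1 0 0) (h01 : g.1 0 1 = k.1 0 1) (h10 : g.1 1 0 = k.1 1 0)
    (h11 : g.1 1 1 = k.1 1 1) : g = k := by
  apply Subtype.ext
  ext i j
  fin_cases i <;> fin_cases j <;> assumption

theorem mul_00 (g k : G) : (g * k).1 0 0 = g.1 0 0 * k.1 0 0 + g.1 0 1 * k.1 1 0 := by
  rw [Matrix.SpecialLinearGroup.coe_mul, Matrix.mul_apply, Fin.sum_univ_two]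
theorem mul_01 (g k : G) : (g * k).1 0 1 = g.1 0 0 * k.1 0 1 + g.1 0 1 * k.1 1 1 := by
  rw [Matrix.SpecialLinearGroup.coe_mul, Matrix.mul_apply, Fin.sum_univ_two]
theorem mul_10 (g k : G) : (g * k).1 1 0 = g.1 1 0 * k.1 0 0 + g.1 1 1 * k.1 1 0 := by
  rw [Matrix.SpecialLinearGroup.coe_mul, Matrix.mul_apply, Fin.sum_univ_two]
theorem mul_11 (g k : G) : (g * k).1 1 1 = g.1 1 0 * k.1 0 1 + g.1 1 1 * k.1 1 1 := by
  rw [Matrix.SpecialLinearGroup.coe_mul, Matrix.mul_apply, Fin.sum_univ_two]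

theorem det_eq (g : G) : g.1 0 0 * g.1 1 1 - g.1 0 1 * g.1 1 0 = 1 := by
  have := g.2
  rwa [Matrix.det_fin_two] at this

theorem U00 (x : ZMod 7) : (U x).1 0 0 = 1 := rfl
theorem U01 (x : ZMod 7) : (U x).1 0 1 = x := rfl
theorem U10 (x : ZMod 7) : (U x).1 1 0 = 0 := rfl
theorem U11 (x : ZMod 7) : (U x).1 1 1 = 1 := rfl
theorem Lo00 (x : ZMod 7) : (Lo x).1 0 0 = 1 := rfl
theorem Lo01 (x : ZMod 7) : (Lo x).1 0 1 = 0 := rfl
theorem Lo10 (x : ZMod 7) : (Lo x).1 1 0 = x := rfl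
theorem Lo11 (x : ZMod 7) : (Lo x).1 1 1 = 1 := rfl
theorem hh00 : hh.1 0 0 = 3 := rfl
theorem hh01 : hh.1 0 1 = 0 := rfl
theorem hh10 : hh.1 1 0 = 0 := rfl
theorem hh11 : hh.1 1 1 = 5 := rfl
theorem ww00 : ww.1 0 0 = 0 := rfl
theorem ww01 : ww.1 0 1 = 1 := rfl
theorem ww10 : ww.1 1 0 = -1 := rfl
theorem ww11 : ww.1 1 1 = 0 := rfl
theorem one00 : (1 : G).1 0 0 = 1 := rfl
theorem one01 : (1 : G).1 0 1 = 0 := rfl
theorem one10 : (1 : G).1 1 0 = 0 := rfl
theorem one11 : (1 : G).1 1 1 = 1 := rfl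

/-- inverse of the Weyl element -/
def wi : G := ⟨!![0, -1; 1, 0], by decide⟩
theorem wi00 : wi.1 0 0 = 0 := rfl
theorem wi01 : wi.1 0 1 = -1 := rfl
theorem wi10 : wi.1 1 0 = 1 := rfl
theorem wi11 : wi.1 1 1 = 0 := rfl

/-- compute entries -/
macro "ent" : tactic => `(tactic| (apply ext' <;> simp only [mul_00, mul_01, mul_10, mul_11, U00, U01, U10, U11,
  Lo00, Lo01, Lo10, Lo11, hh00, hh01, hh10, hh11, ww00, ww01, ww10, ww11, one00, one01, one10, one11,
  wi00, wi01, wi10, wi11]))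

theorem U_add (x y : ZMod 7) : U x * U y = U (x + y) := by
  ent <;> ring

theorem U_zero : U 0 = 1 := by ent

theorem U_inv (x : ZMod 7) : (U x)⁻¹ = U (-x) := by
  rw [inv_eq_iff_mul_eq_one, U_add, add_neg_cancel, U_zero]

theorem ww_inv : ww⁻¹ = wi := by
  rw [inv_eq_iff_mul_eq_one]
  ent <;> ring

theorem Lo_inv (x : ZMod 7) : (Lo x)⁻¹ = Lo (-x) := by
  rw [inv_eq_iff_mul_eq_one]
  ent <;> ring

theorem U_pow (n : ℕ) : U 1 ^ n = U (n : ZMod 7) := by
  induction n with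
  | zero => rw [pow_zero, Nat.cast_zero, U_zero]
  | succ n ih => rw [pow_succ, ih, U_add, Nat.cast_succ]

theorem hU : hh * U 1 = U 1 ^ 2 * hh := by
  rw [U_pow]
  ent <;> decide

instance factSeven911 : Fact (Nat.Prime 7) := ⟨by norm_num⟩

/-- the Borel subgroup -/
def B : Subgroup G where
  carrier := {g | g.1 1 0 = 0}
  one_mem' := rfl
  mul_mem' {a b} (ha : a.1 1 0 = 0) (hb : b.1 1 0 = 0) := by
    change (a * b).1 1 0 = 0
    rw [mul_10, ha, hb]; ring
  inv_mem' {a} (ha : a.1 1 0 = 0) := by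
    change (a⁻¹).1 1 0 = 0
    rw [Matrix.SpecialLinearGroup.SL2_inv_expl]
    change -a.1 1 0 = 0
    rw [ha, neg_zero]

theorem mem_B {g : G} : g ∈ B ↔ g.1 1 0 = 0 := Iff.rfl

theorem U_mem (x : ZMod 7) : U x ∈ B := U10 x

theorem U_mem_zpowers (x : ZMod 7) : U x ∈ Subgroup.zpowers (U 1) := by
  refine ⟨(x.val : ℤ), ?_⟩
  change U 1 ^ ((x.val : ℕ) : ℤ) = _
  rw [zpow_natCast, U_pow, ZMod.natCast_val, ZMod.cast_id]

theorem bruhat (g : G) : g ∈ B ∨ ∃ u ∈ Subgroup.zpowers (U 1), ∃ b ∈ B, g = u * ww * b := by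
  by_cases h : g.1 1 0 = 0
  · exact Or.inl h
  right
  refine ⟨U (g.1 0 0 / g.1 1 0), U_mem_zpowers _, ww⁻¹ * (U (g.1 0 0 / g.1 1 0))⁻¹ * g, ?_, by group⟩
  rw [mem_B, U_inv, ww_inv, mul_10, mul_10, mul_11]
  simp only [U00, U01, U10, U11, wi00, wi01, wi10, wi11]
  field_simp
  ring

theorem hpow (i : ℕ) : (hh ^ i).1 0 0 = 3 ^ i ∧ (hh ^ i).1 0 1 = 0 ∧ (hh ^ i).1 1 0 = 0 ∧ (hh ^ i).1 1 1 = 5 ^ i := by
  induction i with
  | zero => exact ⟨rfl, rfl, rfl, rfl⟩
  | succ i ih =>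
    obtain ⟨h1, h2, h3, h4⟩ := ih
    refine ⟨?_, ?_, ?_, ?_⟩ <;>
      simp only [pow_succ, mul_00, mul_01, mul_10, mul_11, h1, h2, h3, h4, hh00, hh01, hh10, hh11] <;> ring

/-- the elements of the Borel subgroup -/
theorem B_form (g : G) (hg : g ∈ B) : ∃ i j : ℕ, g = hh ^ i * U 1 ^ j := by
  rw [mem_B] at hg
  have hdet := det_eq g
  rw [hg, mul_zero, sub_zero] at hdet
  have hgen : ∀ a : ZMod 7, a ≠ 0 → ∃ i : ℕ, i < 6 ∧ a = 3 ^ i := by decide
  have ha0 : g.1 0 0 ≠ 0 := by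
    intro h; rw [h, zero_mul] at hdet; exact absurd hdet (by decide)
  obtain ⟨i, -, hi⟩ := hgen _ ha0
  have h35 : (3 : ZMod 7) ^ i * 5 ^ i = 1 := by
    rw [← mul_pow, show (3 * 5 : ZMod 7) = 1 by decide, one_pow]
  have h30 : (3 : ZMod 7) ^ i ≠ 0 := hi ▸ ha0
  have h11 : g.1 1 1 = 5 ^ i := by
    apply mul_left_cancel₀ h30
    rw [h35, ← hi, hdet]
  obtain ⟨p1, p2, p3, p4⟩ := hpow i
  refine ⟨i, (5 ^ i * g.1 0 1).val, ?_⟩
  rw [U_pow, ZMod.natCast_val, ZMod.cast_id]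
  apply ext' <;> simp only [mul_00, mul_01, mul_10, mul_11, U00, U01, U10, U11, p1, p2, p3, p4]
  · rw [hi]; ring
  · rw [← mul_assoc, h35]; ring
  · rw [hg]; ring
  · rw [h11]; ring

theorem Lo_coset (i j : Fin 6) (hij : i ≠ j) : (Lo (i : ℕ))⁻¹ * Lo (j : ℕ) ∉ B := by
  rw [mem_B, Lo_inv, mul_10]
  simp only [Lo00, Lo01, Lo10, Lo11]
  revert i j
  decide

theorem eq_top_of_U {N : Subgroup G} [N.Normal] (hN : U 1 ∈ N) : N = ⊤ := by
  have hU : ∀ x, U x ∈ N := fun x => by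
    have h1 := pow_mem hN x.val
    rwa [U_pow, ZMod.natCast_val, ZMod.cast_id] at h1
  have hLo : ∀ x, Lo x ∈ N := by
    intro x
    have h1 := (inferInstance : N.Normal).conj_mem _ (hU (-x)) ww
    have h2 : ww * U (-x) * ww⁻¹ = Lo x := by
      rw [mul_inv_eq_iff_eq_mul]
      ent <;> ring
    rwa [h2] at h1
  have key : ∀ g : G, g.1 1 0 ≠ 0 → g ∈ N := by
    intro g hg
    have h1 : g = U ((g.1 0 0 - 1) / g.1 1 0) * Lo (g.1 1 0) * U ((g.1 1 1 - 1) / g.1 1 0) := by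
      have hdet := det_eq g
      ent
      · field_simp
        ring
      · field_simp
        linear_combination (-1 : ZMod 7) * hdet
      · ring
      · field_simp
        ring
    rw [h1]
    exact mul_mem (mul_mem (hU _) (hLo _)) (hU _)
  rw [eq_top_iff]
  intro g _
  by_cases hg : g.1 1 0 = 0
  · have h2 : g * Lo 1 ∈ N := by
      apply key
      rw [mul_10, hg, Lo00, Lo10, mul_one, mul_one, zero_add]
      intro h3
      have hdet := det_eq g
      rw [hg, h3, mul_zero, mul_zero, sub_zero] at hdet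
      exact absurd hdet (by decide)
    exact (N.mul_mem_cancel_right (hLo 1)).1 h2
  · exact key g hg

theorem U_seven : U 1 ^ (7 : ℕ) = 1 := by
  rw [U_pow, ZMod.natCast_self, U_zero]

variable {K : Type*} [Field K] [IsAlgClosed K] {V : Type*} [AddCommGroup V] [Module K V] [FiniteDimensional K V]

theorem not_irr (h7 : (7 : K) ≠ 0) (ρ : G →* Module.End K V) (hirr : Irr ρ) (h5 : finrank K V = 5) : False := by
  have h7' : ((7 : ℕ) : K) ≠ 0 := by exact_mod_cast h7
  have hp7 : Nat.Prime 7 := by norm_num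
  obtain ⟨ζ, hζ⟩ := Eig.exists_root (K := K) hp7 h7'
  have hA : ρ (U 1) ^ 7 = 1 := by
    rw [← map_pow, U_seven, map_one]
  have hA1 : ρ (U 1) ≠ 1 := by
    intro h1
    have h2 : ρ.ker = ⊤ := eq_top_of_U (N := ρ.ker) (MonoidHom.mem_ker.2 h1)
    have hpos : 0 < finrank K V := by omega
    obtain ⟨v, hv⟩ : ∃ v : V, v ≠ 0 := by
      have : Nontrivial V := Module.finrank_pos_iff.1 hpos
      exact exists_ne 0
    rcases hirr (Submodule.span K {v}) (fun g w hw => by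
      have hg : ρ g = 1 := MonoidHom.mem_ker.1 (by rw [h2]; trivial)
      rw [hg]; exact hw) with h3 | h3
    · exact hv (by simpa using h3)
    · have h4 := finrank_span_singleton (K := K) hv
      rw [h3, finrank_top] at h4
      omega
  have hsum := Eig.sum_d hp7 h7' hζ hA
  have hlt := Eig.d_lt (r := 7) (ζ := ζ) hA1
  have hconj : ρ hh * ρ (U 1) * ρ hh⁻¹ = ρ (U 1) ^ 2 := by
    rw [← map_mul, ← map_mul, ← map_pow, hU, mul_inv_cancel_right]
  have hB : ρ hh⁻¹ * ρ hh = 1 := by rw [← map_mul, inv_mul_cancel, map_one]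
  have hle := fun j : ZMod 7 => Eig.d_le (A := ρ (U 1)) hp7 hζ hB hconj j
  have h1 := hle 1; have h2 := hle 2; have h4 := hle 4
  have h3 := hle 3; have h6 := hle 6; have h5' := hle 5
  have e1 : ((2 : ℕ) : ZMod 7) * 1 = 2 := by decide
  have e2 : ((2 : ℕ) : ZMod 7) * 2 = 4 := by decide
  have e4 : ((2 : ℕ) : ZMod 7) * 4 = 1 := by decide
  have e3 : ((2 : ℕ) : ZMod 7) * 3 = 6 := by decide
  have e6 : ((2 : ℕ) : ZMod 7) * 6 = 5 := by decide
  have e5 : ((2 : ℕ) : ZMod 7) * 5 = 3 := by decide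
  rw [e1] at h1; rw [e2] at h2; rw [e4] at h4; rw [e3] at h3; rw [e6] at h6; rw [e5] at h5'
  have hs : Eig.d (ρ (U 1)) ζ (0 : ZMod 7) + Eig.d (ρ (U 1)) ζ (1 : ZMod 7) + Eig.d (ρ (U 1)) ζ (2 : ZMod 7) +
      Eig.d (ρ (U 1)) ζ (3 : ZMod 7) + Eig.d (ρ (U 1)) ζ (4 : ZMod 7) + Eig.d (ρ (U 1)) ζ (5 : ZMod 7) +
      Eig.d (ρ (U 1)) ζ (6 : ZMod 7) = 5 := by
    have h0 := hsum.trans h5
    rw [show (Finset.univ : Finset (ZMod 7)) = {0, 1, 2, 3, 4, 5, 6} by decide] at h0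
    rw [Finset.sum_insert (by decide), Finset.sum_insert (by decide), Finset.sum_insert (by decide),
      Finset.sum_insert (by decide), Finset.sum_insert (by decide), Finset.sum_insert (by decide),
      Finset.sum_singleton] at h0
    omega
  have hd0 : Eig.d (ρ (U 1)) ζ (0 : ZMod 7) = 2 := by omega
  have hfix : finrank K (fix ρ (Subgroup.zpowers (U 1))) = 2 := by
    rw [fix_zpowers]
    refine Eq.trans ?_ hd0
    unfold Eig.d Eig.E
    rw [ZMod.val_zero, pow_zero]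
  obtain ⟨φ, hφ, hφU, μ, hμ⟩ := exists_functional ρ (u := U 1) (y := hh) (k := 2) hU (by
    intro h0
    rw [fix_zpowers, h0, finrank_bot] at hfix
    omega)
  have hφUn : ∀ n : ℕ, ∀ v, φ (ρ (U 1 ^ n) v) = φ v := by
    intro n
    induction n with
    | zero => intro v; rw [pow_zero, map_one]; rfl
    | succ n ih => intro v; rw [pow_succ, ρ_mul_apply, ih, hφU]
  have hφh : ∀ n : ℕ, ∀ v, φ (ρ (hh ^ n) v) = μ ^ n * φ v := by
    intro n
    induction n with
    | zero => intro v; rw [pow_zero, map_one, pow_zero, one_mul]; rfl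
    | succ n ih => intro v; rw [pow_succ, ρ_mul_apply, ih, hμ, pow_succ, mul_assoc]
  have hl : ∀ b : G, ∃ c : K, b ∈ B → ∀ v, φ (ρ b v) = c * φ v := by
    intro b
    by_cases hb : b ∈ B
    · obtain ⟨i, j, rfl⟩ := B_form b hb
      exact ⟨μ ^ i, fun _ v => by rw [ρ_mul_apply, hφh, hφUn]⟩
    · exact ⟨0, fun h => absurd h hb⟩
  choose l hl using hl
  have := card_le_of_double ρ hirr (U := Subgroup.zpowers (U 1)) (B := B) (w := ww)
    (by rw [Subgroup.zpowers_le]; exact U_mem 1) bruhat hφ (by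
      rintro u ⟨k, rfl⟩ v
      have h8 : ∃ n : ℕ, U 1 ^ k = U 1 ^ n := by
        have h9 := U_seven
        refine ⟨(k % 7).toNat, ?_⟩
        rw [← zpow_natCast, Int.toNat_of_nonneg (Int.emod_nonneg k (by norm_num))]
        conv_lhs => rw [← Int.mul_ediv_add_emod k 7]
        rw [_root_.zpow_add, _root_.zpow_mul]
        have h10 : U 1 ^ (7 : ℤ) = 1 := by exact_mod_cast h9
        rw [h10, _root_.one_zpow, one_mul]
      obtain ⟨n, hn⟩ := h8
      change φ (ρ (U 1 ^ k) v) = φ v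
      rw [hn, hφUn]) (l := l) (fun b hb v => hl b hb v) (by rw [hfix]) (N := 6)
    (fun i => Lo (i : ℕ)) Lo_coset
  omega

end SLTwoSeven

end Cfsg.Agent.H911
end

-- part: H911/SLTwoReal
section
/-!
# Real elements of `SL_2(K)` and `L_2(7)` (helper911)
-/

set_option autoImplicit false
set_option linter.unusedSectionVars false

namespace Cfsg.Agent.H911.SLTwo

open Matrix

variable {K : Type*} [Field K]

theorem isConj_inv' {G : Type*} [Group G] {a b : G} (h : IsConj a b) : IsConj a⁻¹ b⁻¹ := by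
  obtain ⟨c, hc⟩ := isConj_iff.1 h
  exact isConj_iff.2 ⟨c, by rw [← hc]; group⟩

theorem conj_hhU (s : Kˣ) (x : K) (hs : (s : K) ^ 2 ≠ 1) : ∃ y, U y * (hh s * U x) * (U y)⁻¹ = hh s := by
  have h0 : ((s⁻¹ : Kˣ) : K) ^ 2 - 1 ≠ 0 := by
    intro h
    apply hs
    have h1 := Units.mul_inv s
    linear_combination (-(s : K) ^ 2) * h + ((s : K) * ((s⁻¹ : Kˣ) : K) + 1) * h1
  refine ⟨-x / (((s⁻¹ : Kˣ) : K) ^ 2 - 1), ?_⟩
  have h2 : ∀ y, U y * hh s = hh s * U (((s⁻¹ : Kˣ) : K) ^ 2 * y) := by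
    intro y
    have h3 := hU s (((s⁻¹ : Kˣ) : K) ^ 2 * y)
    have h4 : (s : K) ^ 2 * (((s⁻¹ : Kˣ) : K) ^ 2 * y) = y := by
      rw [← mul_assoc, ← mul_pow, Units.mul_inv, one_pow, one_mul]
    rw [h4] at h3
    rw [← h3, inv_mul_cancel_right]
  rw [← mul_assoc, h2, U_inv, mul_assoc, mul_assoc, U_mul, U_mul]
  have h5 : ∀ a : K, a = 0 → hh s * U a = hh s := by
    intro a ha
    rw [ha, U_zero, mul_one]
  apply h5
  field_simp
  ring

theorem real_hhU (s : Kˣ) (x : K) (hs : (s : K) ^ 2 ≠ 1) : IsConj (hh s * U x) (hh s * U x)⁻¹ := by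
  obtain ⟨y, hy⟩ := conj_hhU s x hs
  have h1 : IsConj (hh s * U x) (hh s) := isConj_iff.2 ⟨_, hy⟩
  have h2 : IsConj (hh s) (hh s)⁻¹ := isConj_iff.2 ⟨ww, by rw [wh, hh_inv]⟩
  exact (h1.trans h2).trans (isConj_inv' h1.symm)

theorem mk_conj' {A B : _root_.Matrix.SpecialLinearGroup (Fin 2) K} (h : IsConj A B) : IsConj (mk A) (mk B) := by
  obtain ⟨c, hc⟩ := isConj_iff.1 h
  exact isConj_iff.2 ⟨mk c, by rw [← hc]; rfl⟩

theorem tr_hhU (s : Kˣ) (x : K) : tr (hh s * U x) = (s : K) + ((s⁻¹ : Kˣ) : K) := by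
  simp only [tr, m00, m11, hh00, hh01, hh10, hh11, U00, U01, U10, U11]
  ring

theorem real_of_tr (M : _root_.Matrix.SpecialLinearGroup (Fin 2) K) (h2 : tr M ^ 2 ≠ 4) (hxy : ∃ x y : K, -(x ^ 2 - tr M * x * y + y ^ 2) = 1) :
    IsConj M M⁻¹ := by
  obtain ⟨x, y, hxy⟩ := hxy
  by_cases h0 : M.1 1 0 = 0
  · have hdet := det_eq M
    have hz : (M.1 0 0) ^ 2 - tr M * M.1 0 0 + 1 = 0 := by
      rw [tr]
      rw [h0, mul_zero, sub_zero] at hdet
      linear_combination hdet * (-1)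
    obtain ⟨c, s, a, hc⟩ := tri M hz
    have htr : tr M = (s : K) + ((s⁻¹ : Kˣ) : K) := by rw [← tr_conj c M, hc, tr_hhU]
    have hs : (s : K) ^ 2 ≠ 1 := by
      intro h
      apply h2
      have h3 : (s : K) * ((s⁻¹ : Kˣ) : K) = 1 := Units.mul_inv s
      have h4 : ((s⁻¹ : Kˣ) : K) = (s : K) := by
        linear_combination (-((s⁻¹ : Kˣ) : K)) * h + (s : K) * h3
      rw [htr, h4]
      linear_combination 4 * h
    have h5 : IsConj M (hh s * U a) := isConj_iff.2 ⟨c, hc⟩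
    exact (h5.trans (real_hhU s a hs)).trans (isConj_inv' h5.symm)
  · obtain ⟨w, hw⟩ := real M hxy h0
    exact isConj_iff.2 ⟨w, hw⟩

instance fact7' : Fact (Nat.Prime 7) := ⟨by norm_num⟩

theorem dec7 : ∀ t : ZMod 7, t = 2 ∨ t = -2 ∨ (t ^ 2 ≠ 4 ∧ ∃ x y, -(x ^ 2 - t * x * y + y ^ 2) = 1) := by decide +kernel

theorem dec7s : ∀ s : (ZMod 7)ˣ, ((s : ZMod 7) + ((s⁻¹ : (ZMod 7)ˣ) : ZMod 7) = 2 → s = 1) ∧
    ((s : ZMod 7) + ((s⁻¹ : (ZMod 7)ˣ) : ZMod 7) = -2 → s = -1) := by decide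

theorem hh_neg_one : (hh (-1 : Kˣ) : _root_.Matrix.SpecialLinearGroup (Fin 2) K) = -1 := by
  apply ext'
  · rfl
  · change (0 : K) = -0
    rw [neg_zero]
  · change (0 : K) = -0
    rw [neg_zero]
  · change (((-1 : Kˣ)⁻¹ : Kˣ) : K) = -1
    rw [inv_neg_one]
    rfl

/-- Elements of order prime to seven of `L_2(7)` are real. -/
theorem real_seven (g : ProjectiveSpecialLinearGroup (Fin 2) (ZMod 7)) (hg : ¬ 7 ∣ orderOf g) : (IsConj g g⁻¹ :) := by
  obtain ⟨M, rfl⟩ := mk_surj g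
  have hord : ∀ x : ZMod 7, IsConj (mk M) (mk (U x)) → (IsConj (mk M) (mk M)⁻¹ :) := by
    intro x hx
    have h1 : orderOf (mk M) ∣ 7 := by
      obtain ⟨c, hc⟩ := isConj_iff.1 hx
      rw [← (MulAut.conj c).orderOf_eq (mk M), MulAut.conj_apply, hc]
      apply orderOf_dvd_of_pow_eq_one
      have h2 : (mk (U x) : ProjectiveSpecialLinearGroup (Fin 2) (ZMod 7)) ^ 7 = mk ((U x) ^ 7) := rfl
      have h5 : ((7 : ℕ) : ZMod 7) = 0 := ZMod.natCast_self 7
      rw [h2, U_pow, h5, zero_mul, U_zero]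
      rfl
    rcases (Nat.dvd_prime (by norm_num : Nat.Prime 7)).1 h1 with h2 | h2
    · rw [orderOf_eq_one_iff] at h2
      rw [h2, inv_one]
    · exact absurd (dvd_of_eq h2.symm) hg
  rcases dec7 (tr M) with h | h | ⟨h4, hxy⟩
  · obtain ⟨c, s, a, hc⟩ := tri M (z := 1) (by rw [h]; decide)
    have htr : tr M = (s : ZMod 7) + ((s⁻¹ : (ZMod 7)ˣ) : ZMod 7) := by rw [← tr_conj c M, hc, tr_hhU]
    have hs := (dec7s s).1 (htr.symm.trans h)
    rw [hs, hh_one, one_mul] at hc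
    exact hord a (mk_conj' (isConj_iff.2 ⟨c, hc⟩))
  · obtain ⟨c, s, a, hc⟩ := tri M (z := -1) (by rw [h]; decide)
    have htr : tr M = (s : ZMod 7) + ((s⁻¹ : (ZMod 7)ˣ) : ZMod 7) := by rw [← tr_conj c M, hc, tr_hhU]
    have hs := (dec7s s).2 (htr.symm.trans h)
    rw [hs, hh_neg_one, neg_one_mul] at hc
    have h1 := mk_conj' (isConj_iff.2 ⟨c, hc⟩ : IsConj M (-U a))
    rw [mk_neg] at h1
    exact hord a h1
  · have h1 := mk_conj' (real_of_tr M h4 hxy)
    exact h1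

end Cfsg.Agent.H911.SLTwo
end

-- part: H180/AltFiveOp
section
/-!
# Operators of order 3 and 7 on a 5-dimensional space

Tools for `AltFive`: fixed space `F T`, kernel `R T` of `1 + T + T²`, lines, ranks.
-/

set_option autoImplicit false
set_option linter.unusedSectionVars false
set_option linter.unusedVariables false

namespace Cfsg.Agent.H180.AltFive

open Module

variable {K : Type*} [Field K] {V : Type*} [AddCommGroup V] [Module K V]

/-- fixed space -/
def F (T : Module.End K V) : Submodule K V := LinearMap.ker (T - 1)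

/-- kernel of `1 + T + T²` -/
def R (T : Module.End K V) : Submodule K V := LinearMap.ker (1 + T + T * T)

theorem mem_F {T : Module.End K V} {v : V} : v ∈ F T ↔ T v = v := by
  unfold F
  rw [LinearMap.mem_ker, LinearMap.sub_apply, Module.End.one_apply, sub_eq_zero]

theorem mem_R {T : Module.End K V} {v : V} : v ∈ R T ↔ v + T v + T (T v) = 0 := by
  unfold R
  rw [LinearMap.mem_ker, LinearMap.add_apply, LinearMap.add_apply, Module.End.one_apply, Module.End.mul_apply]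

theorem three_smul' (v : V) : v + v + v = (3 : K) • v := by
  rw [show (3 : K) = 1 + 1 + 1 by norm_num, add_smul, add_smul, one_smul]

theorem F_inf_R (h3 : (3 : K) ≠ 0) (T : Module.End K V) : F T ⊓ R T = ⊥ := by
  rw [eq_bot_iff]
  rintro v ⟨h1, h2⟩
  rw [SetLike.mem_coe, mem_F] at h1
  rw [SetLike.mem_coe, mem_R, h1, h1, three_smul' (K := K)] at h2
  rw [Submodule.mem_bot]
  exact (smul_eq_zero.1 h2).resolve_left h3

/-- decomposition inside an invariant subspace -/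
theorem decomp (h3 : (3 : K) ≠ 0) {T : Module.End K V} (hT : ∀ v, T (T (T v)) = v) {W : Submodule K V}
    (hW : ∀ v ∈ W, T v ∈ W) : W ≤ (W ⊓ F T) ⊔ (W ⊓ R T) := by
  intro v hv
  set a : V := (3 : K)⁻¹ • (v + T v + T (T v)) with ha
  have haW : a ∈ W := W.smul_mem _ (W.add_mem (W.add_mem hv (hW _ hv)) (hW _ (hW _ hv)))
  have haF : T a = a := by
    rw [ha, map_smul, map_add, map_add, hT v]
    congr 1
    abel
  have e : v = a + (v - a) := by abel
  rw [e]
  refine Submodule.add_mem_sup ⟨haW, mem_F.2 haF⟩ ⟨W.sub_mem hv haW, mem_R.2 ?_⟩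
  rw [map_sub, map_sub, haF, haF]
  have h1 : (3 : K) • a = v + T v + T (T v) := by rw [ha, smul_smul, mul_inv_cancel₀ h3, one_smul]
  rw [← three_smul' (K := K)] at h1
  calc v - a + (T v - a) + (T (T v) - a) = (v + T v + T (T v)) - (a + a + a) := by abel
    _ = 0 := by rw [h1, sub_self]

theorem sup_eq_top (h3 : (3 : K) ≠ 0) {T : Module.End K V} (hT : ∀ v, T (T (T v)) = v) : F T ⊔ R T = ⊤ := by
  rw [eq_top_iff]
  have := decomp h3 hT (W := ⊤) (fun _ _ => trivial)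
  rwa [top_inf_eq, top_inf_eq] at this

theorem finrank_add [FiniteDimensional K V] (h3 : (3 : K) ≠ 0) {T : Module.End K V} (hT : ∀ v, T (T (T v)) = v) :
    finrank K (F T) + finrank K (R T) = finrank K V := by
  have := Submodule.finrank_sup_add_finrank_inf_eq (F T) (R T)
  rw [sup_eq_top h3 hT, F_inf_R h3, finrank_top, finrank_bot, add_zero] at this
  exact this.symm

/-- **no invariant line** -/
theorem no_line (h3 : (3 : K) ≠ 0) {T h : Module.End K V} (hh : Function.Injective h)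
    (hTh : ∀ v, h (T v) = T (T (h v))) {W : Submodule K V} (hW1 : finrank K W = 1)
    (hWT : ∀ v ∈ W, T v ∈ W) (hWh : ∀ v ∈ W, h v ∈ W) (hR : W ≤ R T) : False := by
  obtain ⟨v, hv0, hv⟩ := finrank_eq_one_iff'.1 hW1
  have hv0' : (v : V) ≠ 0 := fun h => hv0 (Subtype.ext h)
  obtain ⟨μ, hμ⟩ := hv ⟨T v, hWT v v.2⟩
  obtain ⟨ν, hν⟩ := hv ⟨h v, hWh v v.2⟩
  have hμ' : T v = μ • (v : V) := (congrArg Subtype.val hμ).symm
  have hν' : h v = ν • (v : V) := (congrArg Subtype.val hν).symm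
  have hν0 : ν ≠ 0 := by
    rintro rfl
    rw [zero_smul] at hν'
    exact hv0' (hh (by rw [hν', map_zero]))
  have h1 := hTh v
  rw [hμ', map_smul, hν', map_smul, map_smul, hμ', map_smul, hμ', smul_smul, smul_smul, smul_smul] at h1
  have h2 : (μ * ν - ν * μ * μ) • (v : V) = 0 := by rw [sub_smul, h1, sub_self]
  have h3' : μ * ν - ν * μ * μ = 0 := (smul_eq_zero.1 h2).resolve_right hv0'
  have h4 := mem_R.1 (hR v.2)
  rw [hμ', map_smul, hμ', smul_smul] at h4
  have h5 : (1 + μ + μ * μ) • (v : V) = 0 := by rw [add_smul, add_smul, one_smul, h4]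
  have h6 : 1 + μ + μ * μ = 0 := (smul_eq_zero.1 h5).resolve_right hv0'
  have h7 : ν * (μ * (1 - μ)) = 0 := by linear_combination h3'
  rcases mul_eq_zero.1 h7 with h8 | h8
  · exact hν0 h8
  rcases mul_eq_zero.1 h8 with h9 | h9
  · rw [h9] at h6; norm_num at h6
  · have h10 : μ = 1 := (sub_eq_zero.1 h9).symm
    rw [h10] at h6
    apply h3
    linear_combination h6

/-- one-dimensional fixed spaces -/
theorem caseB [FiniteDimensional K V] (h3 : (3 : K) ≠ 0) {T B h : Module.End K V} (hT : ∀ v, T (T (T v)) = v)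
    (hB : ∀ v, B (B (B v)) = v) (hTB : ∀ v, T (B v) = B (T v)) (hh : Function.Injective h)
    (hhT : ∀ v, h (T v) = T (T (h v))) (hhB : ∀ v, h (B v) = B (B (h v))) (hF : finrank K (F T) = 1) :
    F T ≤ F B := by
  have hFB : ∀ v ∈ F T, B v ∈ F T := fun v hv => mem_F.2 (by rw [hTB, mem_F.1 hv])
  have hFh : ∀ v ∈ F T, h v ∈ F T := by
    intro v hv
    have h1 := hhT v
    rw [mem_F.1 hv] at h1
    rw [mem_F]
    conv_lhs => rw [h1]
    exact hT _
  have h1 := decomp h3 hB hFB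
  by_cases h2 : F T ⊓ F B = ⊥
  · exfalso
    rw [h2, bot_sup_eq] at h1
    exact no_line h3 hh hhB hF hFB hFh (h1.trans inf_le_right)
  · have h4 : 0 < finrank K (F T ⊓ F B : Submodule K V) := by
      rw [Nat.pos_iff_ne_zero]
      intro h5
      exact h2 (Submodule.finrank_eq_zero.1 h5)
    have h5 : F T ⊓ F B = F T := Submodule.eq_of_le_of_finrank_le inf_le_left (by omega)
    exact inf_eq_left.1 h5

/-- two-dimensional commutator spaces -/
theorem caseA [FiniteDimensional K V] (h3 : (3 : K) ≠ 0) {T B h : Module.End K V} (hT : ∀ v, T (T (T v)) = v)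
    (hB : ∀ v, B (B (B v)) = v) (hTB : ∀ v, T (B v) = B (T v)) (hh : Function.Injective h)
    (hhT : ∀ v, h (T v) = T (T (h v))) (hhB : ∀ v, h (B v) = B (B (h v))) (hR : finrank K (R T) = 2) :
    R T ≤ F B ∨ R T ≤ R B := by
  have hRB : ∀ v ∈ R T, B v ∈ R T := by
    intro v hv
    rw [mem_R] at hv ⊢
    rw [hTB, hTB, ← map_add, ← map_add, hv, map_zero]
  have hRT : ∀ v ∈ R T, T v ∈ R T := by
    intro v hv
    rw [mem_R] at hv ⊢
    rw [← map_add, ← map_add, hv, map_zero]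
  have hRh : ∀ v ∈ R T, h v ∈ R T := by
    intro v hv
    rw [mem_R] at hv ⊢
    have e1 : T (h v) = h (T (T v)) := by
      rw [hhT, hhT, hT]
    have e2 : T (T (h v)) = h (T v) := (hhT v).symm
    rw [e2, e1, add_assoc, add_comm (h (T (T v))), ← add_assoc, ← map_add, ← map_add, hv, map_zero]
  have h1 := decomp h3 hB hRB
  have hle : finrank K (R T ⊓ F B : Submodule K V) ≤ 2 := by
    rw [← hR]; exact Submodule.finrank_mono inf_le_left
  have hne : finrank K (R T ⊓ F B : Submodule K V) ≠ 1 := by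
    intro h2
    refine no_line h3 hh hhT h2 ?_ ?_ inf_le_left
    · rintro v ⟨hv1, hv2⟩
      refine ⟨hRT v hv1, ?_⟩
      rw [SetLike.mem_coe, mem_F] at hv2 ⊢
      rw [← hTB, hv2]
    · rintro v ⟨hv1, hv2⟩
      refine ⟨hRh v hv1, ?_⟩
      rw [SetLike.mem_coe, mem_F] at hv2 ⊢
      have h4 := hhB v
      rw [hv2] at h4
      conv_lhs => rw [h4]
      exact hB _
  rcases Nat.lt_or_ge (finrank K (R T ⊓ F B : Submodule K V)) 1 with h2 | h2
  · right
    have h4 : R T ⊓ F B = ⊥ := Submodule.finrank_eq_zero.1 (by omega)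
    rw [h4, bot_sup_eq] at h1
    exact h1.trans inf_le_right
  · left
    have h4 : R T ⊓ F B = R T := Submodule.eq_of_le_of_finrank_le inf_le_left (by omega)
    exact inf_eq_left.1 h4

variable [IsAlgClosed K] [FiniteDimensional K V]

open H911.Eig in
/-- ranks of an inverted operator of order 3 -/
theorem ranks (h3 : (3 : K) ≠ 0) (h5 : finrank K V = 5) {T h h' : Module.End K V} (hT : T ^ 3 = 1) (hT1 : T ≠ 1)
    (hh : h' * h = 1) (hhT : h * T * h' = T ^ 2) :
    (finrank K (F T) = 1 ∧ finrank K (R T) = 4) ∨ (finrank K (F T) = 3 ∧ finrank K (R T) = 2) := by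
  have h3p : Nat.Prime 3 := Nat.prime_three
  have h3c : ((3 : ℕ) : K) ≠ 0 := by exact_mod_cast h3
  obtain ⟨ζ, hζ⟩ := exists_root h3p h3c
  have hs := sum_d (A := T) h3p h3c hζ hT
  have h12 := d_le (A := T) h3p hζ hh hhT (1 : ZMod 3)
  have h21 := d_le (A := T) h3p hζ hh hhT (2 : ZMod 3)
  have e1 : ((2 : ℕ) : ZMod 3) * 1 = 2 := by decide
  have e2 : ((2 : ℕ) : ZMod 3) * 2 = 1 := by decide
  rw [e1] at h12
  rw [e2] at h21
  have hlt := d_lt (ζ := ζ) (r := 3) hT1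
  rw [h5] at hs hlt
  have hF : d T ζ (0 : ZMod 3) = finrank K (F T) := by
    have h10 : E T ζ (0 : ZMod 3) = F T := by
      ext v
      rw [mem_E, mem_F, ZMod.val_zero, pow_zero, one_smul]
    unfold d
    rw [h10]
  have hsum : d T ζ (0 : ZMod 3) + d T ζ (1 : ZMod 3) + d T ζ (2 : ZMod 3) = 5 := by
    exact (Fin.sum_univ_three (fun j : ZMod 3 => d T ζ j)).symm.trans hs
  have hTv : ∀ v, T (T (T v)) = v := by
    intro v
    have := congrArg (fun f : Module.End K V => f v) hT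
    simpa only [pow_succ, _root_.pow_zero, _root_.one_mul, _root_.Module.End.mul_apply, _root_.Module.End.one_apply] using this
  have hadd := finrank_add h3 hTv
  rw [h5] at hadd
  rw [hF] at hsum hlt
  (clear * - h12 h21 hlt hsum hadd; omega)

open H911.Eig in
/-- the norm kernel of an operator of order 7 -/
theorem ker_norm_le (h7 : (7 : K) ≠ 0) (h5 : finrank K V = 5) {X Z Z' : Module.End K V} (hX : X ^ 7 = 1)
    (hZ : Z' * Z = 1) (hZX : Z * X * Z' = X ^ 2) :
    finrank K (LinearMap.ker (∑ i ∈ Finset.range 7, X ^ i)) ≤ 3 := by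
  have h7p : Nat.Prime 7 := by norm_num
  have h7c : ((7 : ℕ) : K) ≠ 0 := by exact_mod_cast h7
  obtain ⟨ζ, hζ⟩ := exists_root h7p h7c
  have hs := sum_d (A := X) h7p h7c hζ hX
  have hd := d_le (A := X) h7p hζ hZ hZX
  have e1 := hd (1 : ZMod 7)
  have e2 := hd (2 : ZMod 7)
  have e4 := hd (4 : ZMod 7)
  have e3 := hd (3 : ZMod 7)
  have e6 := hd (6 : ZMod 7)
  have e5 := hd (5 : ZMod 7)
  rw [show ((2 : ℕ) : ZMod 7) * 1 = 2 by decide] at e1
  rw [show ((2 : ℕ) : ZMod 7) * 2 = 4 by decide] at e2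
  rw [show ((2 : ℕ) : ZMod 7) * 4 = 1 by decide] at e4
  rw [show ((2 : ℕ) : ZMod 7) * 3 = 6 by decide] at e3
  rw [show ((2 : ℕ) : ZMod 7) * 6 = 5 by decide] at e6
  rw [show ((2 : ℕ) : ZMod 7) * 5 = 3 by decide] at e5
  rw [h5] at hs
  have hF : d X ζ (0 : ZMod 7) = finrank K (F X) := by
    have h10 : E X ζ (0 : ZMod 7) = F X := by
      ext v
      rw [mem_E, mem_F, ZMod.val_zero, pow_zero, one_smul]
    unfold d
    rw [h10]
  have hsum : d X ζ (0 : ZMod 7) + d X ζ (1 : ZMod 7) + d X ζ (2 : ZMod 7) + d X ζ (3 : ZMod 7) +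
      d X ζ (4 : ZMod 7) + d X ζ (5 : ZMod 7) + d X ζ (6 : ZMod 7) = 5 := by
    exact (Fin.sum_univ_seven (fun j : ZMod 7 => d X ζ j)).symm.trans hs
  rw [hF] at hsum
  have hinf : F X ⊓ LinearMap.ker (∑ i ∈ Finset.range 7, X ^ i) = ⊥ := by
    rw [eq_bot_iff]
    rintro v ⟨hv1, hv2⟩
    rw [SetLike.mem_coe, mem_F] at hv1
    rw [SetLike.mem_coe, LinearMap.mem_ker, LinearMap.sum_apply] at hv2
    have hp : ∀ i : ℕ, (X ^ i) v = v := by
      intro i
      induction i with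
      | zero => simp
      | succ i ih => rw [pow_succ, Module.End.mul_apply, hv1, ih]
    rw [Finset.sum_congr rfl fun i _ => hp i, Finset.sum_const, Finset.card_range] at hv2
    rw [Submodule.mem_bot]
    have hv3 : (7 : K) • v = 0 := by
      rw [← hv2]
      exact (Nat.cast_smul_eq_nsmul K 7 v)
    exact (smul_eq_zero.1 hv3).resolve_left h7
  have h8 := Submodule.finrank_sup_add_finrank_inf_eq (F X) (LinearMap.ker (∑ i ∈ Finset.range 7, X ^ i))
  rw [hinf, finrank_bot, add_zero] at h8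
  have h9 := Submodule.finrank_le (F X ⊔ LinearMap.ker (∑ i ∈ Finset.range 7, X ^ i))
  rw [h5] at h9
  omega

end Cfsg.Agent.H180.AltFive
end

-- part: H180/AltFiveGrp
section
/-!
# Three-cycles of the alternating group

`C i j k` the three-cycle `i → j → k → i` in `alternatingGroup α`; `eq_top_of_pair`, `mem_of_fix_two`.
-/

set_option autoImplicit false
set_option linter.unusedSectionVars false
set_option linter.unusedVariables false

namespace Cfsg.Agent.H180.AltFive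

open Equiv Equiv.Perm Subgroup

variable {α : Type*} [Fintype α] [DecidableEq α]

/-- the permutation `i → j → k → i` -/
def c (i j k : α) : Perm α := swap i j * swap j k

theorem sign_c {i j k : α} (hij : i ≠ j) (hjk : j ≠ k) : sign (c i j k) = 1 := by
  unfold c
  rw [Perm.sign_mul, sign_swap hij, sign_swap hjk]
  decide

theorem c_conj (g : Perm α) (i j k : α) : g * c i j k * g⁻¹ = c (g i) (g j) (g k) := by
  unfold c
  rw [swap_apply_apply g i j, swap_apply_apply g j k]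
  group

theorem c_apply_fst {i j k : α} (hij : i ≠ j) (hik : i ≠ k) : c i j k i = j := by
  unfold c
  rw [Perm.mul_apply, swap_apply_of_ne_of_ne hij hik, swap_apply_left]

theorem c_apply_snd {i j k : α} (hik : i ≠ k) (hjk : j ≠ k) : c i j k j = k := by
  unfold c
  rw [Perm.mul_apply, swap_apply_left, swap_apply_of_ne_of_ne hik.symm hjk.symm]

theorem c_apply_trd {i j k : α} : c i j k k = i := by
  unfold c
  rw [Perm.mul_apply, swap_apply_right, swap_apply_right]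

theorem c_apply_of_ne {i j k x : α} (h1 : x ≠ i) (h2 : x ≠ j) (h3 : x ≠ k) : c i j k x = x := by
  unfold c
  rw [Perm.mul_apply, swap_apply_of_ne_of_ne h2 h3, swap_apply_of_ne_of_ne h1 h2]

theorem c_inv (i j k : α) : (c i j k)⁻¹ = c k j i := by
  unfold c
  rw [mul_inv_rev, swap_inv, swap_inv, swap_comm j k, swap_comm i j]

theorem c_rot {i j k : α} (hij : i ≠ j) (hik : i ≠ k) (hjk : j ≠ k) : c i j k = c j k i := by
  ext x
  by_cases h1 : x = i
  · subst h1
    rw [c_apply_fst hij hik, c_apply_trd]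
  by_cases h2 : x = j
  · subst h2
    rw [c_apply_snd hik hjk, c_apply_fst hjk hij.symm]
  by_cases h3 : x = k
  · subst h3
    rw [c_apply_trd, c_apply_snd hij.symm hik.symm]
  · rw [c_apply_of_ne h1 h2 h3, c_apply_of_ne h2 h3 h1]

theorem c_cube {i j k : α} (hij : i ≠ j) (hik : i ≠ k) (hjk : j ≠ k) : c i j k * c i j k * c i j k = 1 := by
  ext x
  rw [Perm.mul_apply, Perm.mul_apply, Perm.one_apply]
  by_cases h1 : x = i
  · subst h1
    rw [c_apply_fst hij hik, c_apply_snd hik hjk, c_apply_trd]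
  by_cases h2 : x = j
  · subst h2
    rw [c_apply_snd hik hjk, c_apply_trd, c_apply_fst hij hik]
  by_cases h3 : x = k
  · subst h3
    rw [c_apply_trd, c_apply_fst hij hik, c_apply_snd hik hjk]
  · rw [c_apply_of_ne h1 h2 h3, c_apply_of_ne h1 h2 h3, c_apply_of_ne h1 h2 h3]

/-- the three-cycle in the alternating group -/
def C (i j k : α) : alternatingGroup α := if h : sign (c i j k) = 1 then ⟨c i j k, h⟩ else 1

theorem C_val {i j k : α} (hij : i ≠ j) (hjk : j ≠ k) : ((C i j k : alternatingGroup α) : Perm α) = c i j k := by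
  unfold C
  rw [dif_pos (sign_c hij hjk)]

/-- the double transposition in the alternating group -/
def D (i j k l : α) : alternatingGroup α :=
  if h : sign (swap i j * swap k l) = 1 then ⟨swap i j * swap k l, h⟩ else 1

theorem D_val {i j k l : α} (hij : i ≠ j) (hkl : k ≠ l) :
    ((D i j k l : alternatingGroup α) : Perm α) = swap i j * swap k l := by
  unfold D
  rw [dif_pos]
  rw [Perm.sign_mul, sign_swap hij, sign_swap hkl]
  decide

theorem C_conj (g : alternatingGroup α) {i j k : α} (hij : i ≠ j) (hjk : j ≠ k) :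
    g * C i j k * g⁻¹ = C ((g : Perm α) i) ((g : Perm α) j) ((g : Perm α) k) := by
  apply Subtype.ext
  have h1 : (g : Perm α) i ≠ (g : Perm α) j := fun h => hij ((g : Perm α).injective h)
  have h2 : (g : Perm α) j ≠ (g : Perm α) k := fun h => hjk ((g : Perm α).injective h)
  rw [Subgroup.coe_mul, Subgroup.coe_mul, Subgroup.coe_inv, C_val hij hjk, C_val h1 h2]
  exact c_conj _ _ _ _

theorem C_conj' {g : alternatingGroup α} {i j k i' j' k' : α} (hij : i ≠ j) (hjk : j ≠ k)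
    (h1 : (g : Perm α) i = i') (h2 : (g : Perm α) j = j') (h3 : (g : Perm α) k = k') :
    g * C i j k * g⁻¹ = C i' j' k' := by
  rw [C_conj g hij hjk, h1, h2, h3]

theorem C_inv {i j k : α} (hij : i ≠ j) (hjk : j ≠ k) : (C i j k)⁻¹ = C k j i := by
  apply Subtype.ext
  rw [Subgroup.coe_inv, C_val hij hjk, C_val hjk.symm hij.symm, c_inv]

theorem C_rot {i j k : α} (hij : i ≠ j) (hik : i ≠ k) (hjk : j ≠ k) : C i j k = C j k i := by
  apply Subtype.ext
  rw [C_val hij hjk, C_val hjk hik.symm, c_rot hij hik hjk]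

theorem C_cube {i j k : α} (hij : i ≠ j) (hik : i ≠ k) (hjk : j ≠ k) : C i j k * C i j k * C i j k = 1 := by
  apply Subtype.ext
  rw [Subgroup.coe_mul, Subgroup.coe_mul, C_val hij hjk, c_cube hij hik hjk]
  rfl

theorem exists_C {σ : alternatingGroup α} (h : (σ : Perm α).IsThreeCycle) :
    ∃ i j k : α, i ≠ j ∧ i ≠ k ∧ j ≠ k ∧ σ = C i j k := by
  obtain ⟨x, hx⟩ : ∃ x, x ∈ (σ : Perm α).support := by
    rw [← Finset.Nonempty]
    rw [← Finset.card_pos, h.card_support]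
    norm_num
  have h1 := h.eq_swap_mul_swap_iff_mem_support.2 hx
  have h2 := h.nodup_iff_mem_support.2 hx
  simp only [List.nodup_cons, List.mem_cons, List.not_mem_nil, or_false, not_or, not_false_eq_true, List.nodup_nil,
    and_true] at h2
  refine ⟨x, (σ : Perm α) x, (σ : Perm α) ((σ : Perm α) x), h2.1.1, h2.1.2, h2.2, ?_⟩
  apply Subtype.ext
  rw [C_val h2.1.1 h2.2]
  exact h1

/-- **generation by the three-cycles through two points** -/
theorem eq_top_of_pair (H : Subgroup (alternatingGroup α)) {a b : α} (hab : a ≠ b)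
    (h : ∀ k, k ≠ a → k ≠ b → C a b k ∈ H) : H = ⊤ := by
  have hconj : ∀ g ∈ H, ∀ x ∈ H, g * x * g⁻¹ ∈ H := fun g hg x hx => H.mul_mem (H.mul_mem hg hx) (H.inv_mem hg)
  -- `b i j`
  have h1 : ∀ i j, i ≠ a → i ≠ b → j ≠ a → j ≠ b → i ≠ j → C b i j ∈ H := by
    intro i j hia hib hja hjb hij
    rw [← C_conj' (g := C a b i) (i := a) (j := b) (k := j) hab hjb.symm]
    · exact hconj _ (h i hia hib) _ (h j hja hjb)
    · rw [C_val hab hib.symm, c_apply_fst hab hia.symm]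
    · rw [C_val hab hib.symm, c_apply_snd hia.symm hib.symm]
    · rw [C_val hab hib.symm, c_apply_of_ne hja hjb hij.symm]
  -- `i a j`
  have h2 : ∀ i j, i ≠ a → i ≠ b → j ≠ a → j ≠ b → i ≠ j → C i a j ∈ H := by
    intro i j hia hib hja hjb hij
    rw [← C_conj' (g := (C a b i)⁻¹) (i := a) (j := b) (k := j) hab hjb.symm]
    · exact hconj _ (H.inv_mem (h i hia hib)) _ (h j hja hjb)
    · rw [C_inv hab hib.symm, C_val hib hab.symm, c_apply_trd]
    · rw [C_inv hab hib.symm, C_val hib hab.symm, c_apply_snd hia hab.symm]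
    · rw [C_inv hab hib.symm, C_val hib hab.symm, c_apply_of_ne hij.symm hjb hja]
  -- `k i j`
  have h3 : ∀ i j k, i ≠ a → i ≠ b → j ≠ a → j ≠ b → k ≠ a → k ≠ b → i ≠ j → i ≠ k → j ≠ k → C k i j ∈ H := by
    intro i j k hia hib hja hjb hka hkb hij hik hjk
    rw [← C_conj' (g := C a b k) (i := b) (j := i) (k := j) hib.symm hij]
    · exact hconj _ (h k hka hkb) _ (h1 i j hia hib hja hjb hij)
    · rw [C_val hab hkb.symm, c_apply_snd hka.symm hkb.symm]
    · rw [C_val hab hkb.symm, c_apply_of_ne hia hib hik]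
    · rw [C_val hab hkb.symm, c_apply_of_ne hja hjb hjk]
  rw [eq_top_iff, ← alternatingGroup.closure_isThreeCycles_eq_top, Subgroup.closure_le]
  intro σ hσ
  obtain ⟨i, j, k, hij, hik, hjk, rfl⟩ := exists_C hσ
  show C i j k ∈ H
  -- cases with `i = a`
  have ca : ∀ j k, j ≠ a → k ≠ a → j ≠ k → C a j k ∈ H := by
    intro j k hja hka hjk
    by_cases hjb : j = b
    · subst hjb; exact h k hka hjk.symm
    by_cases hkb : k = b
    · subst hkb
      have e : C a j k = (C a k j)⁻¹ := by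
        rw [C_inv hab hjk.symm]
        exact C_rot hja.symm hka.symm hjk
      rw [e]
      exact H.inv_mem (h j hja hjb)
    · have e : C a j k = C k a j := (C_rot hka hjk.symm hja.symm).symm
      rw [e]
      exact h2 k j hka hkb hja hjb hjk.symm
  have cb : ∀ j k, j ≠ b → k ≠ b → j ≠ k → C b j k ∈ H := by
    intro j k hjb hkb hjk
    by_cases hja : j = a
    · subst hja
      rw [C_rot hjb.symm hkb.symm hjk]
      exact ca k b hjk.symm hjb.symm hkb
    by_cases hka : k = a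
    · subst hka
      rw [C_rot hjb.symm hkb.symm hjk, C_rot hjk hjb hkb]
      exact ca b j hkb.symm hjk hjb.symm
    exact h1 j k hja hjb hka hkb hjk
  by_cases hia : i = a
  · subst hia; exact ca j k hij.symm hik.symm hjk
  by_cases hja : j = a
  · subst hja
    rw [C_rot hij hik hjk]
    exact ca k i hjk.symm hij hik.symm
  by_cases hka : k = a
  · subst hka
    rw [C_rot hij hik hjk, C_rot hjk hij.symm hik.symm]
    exact ca i j hik hjk hij
  by_cases hib : i = b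
  · subst hib; exact cb j k hij.symm hik.symm hjk
  by_cases hjb : j = b
  · subst hjb
    rw [C_rot hij hik hjk]
    exact cb k i hjk.symm hij hik.symm
  by_cases hkb : k = b
  · subst hkb
    rw [C_rot hij hik hjk, C_rot hjk hij.symm hik.symm]
    exact cb i j hik hjk hij
  exact h3 j k i hja hjb hka hkb hia hib hjk hij.symm hik.symm

/-- an even permutation fixing `a` and `b` is in every subgroup containing the three-cycles off `a`, `b` -/
theorem mem_of_fix_two (H : Subgroup (alternatingGroup α)) {a b : α}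
    (h : ∀ i j k, i ≠ a → i ≠ b → j ≠ a → j ≠ b → k ≠ a → k ≠ b → i ≠ j → i ≠ k → j ≠ k → C i j k ∈ H)
    {g : alternatingGroup α} (hga : (g : Perm α) a = a) (hgb : (g : Perm α) b = b) : g ∈ H := by
  set s : Finset α := Finset.univ.filter fun x => x ≠ a ∧ x ≠ b with hs
  have h1 : g ∈ (alternatingGroup.ofSubtype s).range := by
    rw [alternatingGroup.mem_range_ofSubtype_iff]
    intro x hx
    rw [hs, Finset.mem_filter]
    rw [mem_support] at hx
    refine ⟨Finset.mem_univ _, ?_, ?_⟩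
    · rintro rfl; exact hx hga
    · rintro rfl; exact hx hgb
  obtain ⟨g', rfl⟩ := h1
  have h2 : (⊤ : Subgroup (alternatingGroup s)) ≤ H.comap (alternatingGroup.ofSubtype s) := by
    rw [← alternatingGroup.closure_isThreeCycles_eq_top, Subgroup.closure_le]
    intro σ hσ
    rw [SetLike.mem_coe, Subgroup.mem_comap]
    have h3 : ((alternatingGroup.ofSubtype s σ : alternatingGroup α) : Perm α).IsThreeCycle := by
      rw [alternatingGroup.coe_ofSubtype]
      unfold IsThreeCycle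
      have hσ' : (σ : Perm s).cycleType = {3} := hσ
      rw [← hσ', Equiv.Perm.cycleType_ofSubtype]
    obtain ⟨i, j, k, hij, hik, hjk, e⟩ := exists_C h3
    have hsup : ((alternatingGroup.ofSubtype s σ : alternatingGroup α) : Perm α).support ⊆ s := by
      rw [← alternatingGroup.mem_range_ofSubtype_iff]
      exact ⟨σ, rfl⟩
    rw [e] at hsup ⊢
    rw [C_val hij hjk] at hsup
    have hi : i ∈ s := hsup (by rw [mem_support, c_apply_fst hij hik]; exact hij.symm)
    have hj : j ∈ s := hsup (by rw [mem_support, c_apply_snd hik hjk]; exact hjk.symm)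
    have hk : k ∈ s := hsup (by rw [mem_support, c_apply_trd]; exact hik)
    rw [hs, Finset.mem_filter] at hi hj hk
    exact h i j k hi.2.1 hi.2.2 hj.2.1 hj.2.2 hk.2.1 hk.2.2 hij hik hjk
  exact h2 (Subgroup.mem_top g')

/-- an even permutation with given values, two more points being free -/
theorem exists_even {m : ℕ} (hm : m + 2 ≤ Fintype.card α) (x y : Fin m → α) (hx : Function.Injective x)
    (hy : Function.Injective y) : ∃ g : alternatingGroup α, ∀ i, (g : Perm α) (x i) = y i := by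
  obtain ⟨σ, hσ⟩ := Equiv.Perm.exists_extending_pair x y hx hy
  rcases Int.units_eq_one_or (sign σ) with h | h
  · exact ⟨⟨σ, h⟩, hσ⟩
  · have hcard : 1 < (Finset.univ.image x)ᶜ.card := by
      rw [Finset.card_compl, Finset.card_image_of_injective _ hx, Finset.card_univ, Fintype.card_fin]
      omega
    obtain ⟨a, ha, b, hb, hab⟩ := Finset.one_lt_card.1 hcard
    rw [Finset.mem_compl, Finset.mem_image] at ha hb
    refine ⟨⟨σ * swap a b, ?_⟩, ?_⟩
    · rw [mem_alternatingGroup, Perm.sign_mul, h, sign_swap hab]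
      decide
    · intro i
      show σ (swap a b (x i)) = y i
      rw [swap_apply_of_ne_of_ne, hσ i]
      · rintro rfl; exact ha ⟨i, Finset.mem_univ _, rfl⟩
      · rintro rfl; exact hb ⟨i, Finset.mem_univ _, rfl⟩

end Cfsg.Agent.H180.AltFive
end

-- part: H180/AltFiveMain
section
/-!
# No irreducible representation of degree 5 of `A_n`, `n ≥ 7`, in characteristic prime to 21
-/

set_option autoImplicit false
set_option linter.unusedSectionVars false
set_option linter.unusedVariables false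

namespace Cfsg.Agent.H180.AltFive

open Equiv Equiv.Perm Module
open Cfsg.Agent.H911 (Irr ρ_mul_apply ρ_inv_apply ρ_apply_inv)

variable {α : Type*} [Fintype α] [DecidableEq α]
variable {K : Type*} [Field K] {V : Type*} [AddCommGroup V] [Module K V] [FiniteDimensional K V]
variable (ρ : alternatingGroup α →* Module.End K V)

theorem inj (g : alternatingGroup α) : Function.Injective (ρ g) := by
  intro v w h
  rw [← ρ_inv_apply ρ g v, h, ρ_inv_apply]

theorem conj_apply (g x : alternatingGroup α) (v : V) : ρ (g * x * g⁻¹) (ρ g v) = ρ g (ρ x v) := by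
  rw [← ρ_mul_apply, ← ρ_mul_apply, inv_mul_cancel_right]

theorem cube {i j k : α} (hij : i ≠ j) (hik : i ≠ k) (hjk : j ≠ k) (v : V) :
    ρ (C i j k) (ρ (C i j k) (ρ (C i j k) v)) = v := by
  rw [← ρ_mul_apply, ← ρ_mul_apply, C_cube hij hik hjk, map_one]
  rfl

theorem mem_F_conj (g x : alternatingGroup α) (v : V) : ρ g v ∈ F (ρ (g * x * g⁻¹)) ↔ v ∈ F (ρ x) := by
  rw [mem_F, mem_F, conj_apply]
  exact (inj ρ g).eq_iff

theorem mem_R_conj (g x : alternatingGroup α) (v : V) : ρ g v ∈ R (ρ (g * x * g⁻¹)) ↔ v ∈ R (ρ x) := by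
  rw [mem_R, mem_R, conj_apply, conj_apply, ← map_add, ← map_add]
  constructor
  · intro h
    exact inj ρ g (by rw [h, map_zero])
  · intro h
    rw [h, map_zero]

theorem F_map (g x : alternatingGroup α) : (F (ρ x)).map (ρ g) = F (ρ (g * x * g⁻¹)) := by
  ext v
  rw [Submodule.mem_map]
  constructor
  · rintro ⟨w, hw, rfl⟩
    exact (mem_F_conj ρ g x w).2 hw
  · intro hv
    refine ⟨ρ g⁻¹ v, ?_, ρ_apply_inv ρ g v⟩
    rw [← mem_F_conj ρ g x, ρ_apply_inv]
    exact hv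

theorem R_map (g x : alternatingGroup α) : (R (ρ x)).map (ρ g) = R (ρ (g * x * g⁻¹)) := by
  ext v
  rw [Submodule.mem_map]
  constructor
  · rintro ⟨w, hw, rfl⟩
    exact (mem_R_conj ρ g x w).2 hw
  · intro hv
    refine ⟨ρ g⁻¹ v, ?_, ρ_apply_inv ρ g v⟩
    rw [← mem_R_conj ρ g x, ρ_apply_inv]
    exact hv

theorem finrank_F_conj (g x : alternatingGroup α) : finrank K (F (ρ (g * x * g⁻¹))) = finrank K (F (ρ x)) := by
  rw [← F_map]
  exact (Submodule.equivMapOfInjective (ρ g) (inj ρ g) _).finrank_eq.symm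

/-- inverse three-cycles have the same `R` -/
theorem R_inv {x : alternatingGroup α} (hx : x * x * x = 1) : R (ρ x⁻¹) = R (ρ x) := by
  have e : x⁻¹ = x * x := (inv_eq_of_mul_eq_one_left hx :)
  ext v
  rw [mem_R, mem_R, e, ρ_mul_apply, ρ_mul_apply]
  have h1 : ρ x (ρ x (ρ x (ρ x v))) = ρ x v := by
    rw [← ρ_mul_apply, ← ρ_mul_apply, ← ρ_mul_apply, show x * x * x * x = x by rw [hx, one_mul]]
  rw [h1, add_right_comm]

theorem R_swap {i j k : α} (hij : i ≠ j) (hik : i ≠ k) (hjk : j ≠ k) : R (ρ (C j i k)) = R (ρ (C i j k)) := by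
  have h := R_inv ρ (C_cube hij hik hjk)
  rw [C_inv hij hjk] at h
  rw [← h, C_rot hjk.symm hik.symm hij.symm]

/-- an element exchanging `i` and `j` and fixing `k` inverts the three-cycle -/
theorem inv_of_swap {g : alternatingGroup α} {i j k : α} (hij : i ≠ j) (hik : i ≠ k) (hjk : j ≠ k)
    (h1 : (g : Perm α) i = j) (h2 : (g : Perm α) j = i) (h3 : (g : Perm α) k = k) :
    g * C i j k * g⁻¹ = C i j k * C i j k := by
  rw [C_conj' hij hjk h1 h2 h3]
  have e : C i j k * C i j k = (C i j k)⁻¹ := (inv_eq_of_mul_eq_one_left ((C_cube hij hik hjk :))).symm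
  rw [e, C_inv hij hjk, C_rot hjk.symm hik.symm hij.symm]

theorem swap_rel {g : alternatingGroup α} {i j k : α} (hij : i ≠ j) (hik : i ≠ k) (hjk : j ≠ k)
    (h1 : (g : Perm α) i = j) (h2 : (g : Perm α) j = i) (h3 : (g : Perm α) k = k) (v : V) :
    ρ g (ρ (C i j k) v) = ρ (C i j k) (ρ (C i j k) (ρ g v)) := by
  rw [← conj_apply, inv_of_swap hij hik hjk h1 h2 h3, ρ_mul_apply]

theorem comm_rel {i j k l m n : α} (hij : i ≠ j) (hik : i ≠ k) (hjk : j ≠ k) (hlm : l ≠ m) (hln : l ≠ n)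
    (hmn : m ≠ n) (hil : i ≠ l) (him : i ≠ m) (hin : i ≠ n) (hjl : j ≠ l) (hjm : j ≠ m) (hjn : j ≠ n)
    (hkl : k ≠ l) (hkm : k ≠ m) (hkn : k ≠ n) (v : V) :
    ρ (C i j k) (ρ (C l m n) v) = ρ (C l m n) (ρ (C i j k) v) := by
  rw [← conj_apply]
  congr 2
  rw [C_conj' (g := C i j k) (i := l) (j := m) (k := n) (i' := l) (j' := m) (k' := n) hlm hmn]
  · rw [C_val hij hjk, c_apply_of_ne hil.symm hjl.symm hkl.symm]
  · rw [C_val hij hjk, c_apply_of_ne him.symm hjm.symm hkm.symm]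
  · rw [C_val hij hjk, c_apply_of_ne hin.symm hjn.symm hkn.symm]

theorem exists_points {s : Finset α} (hs : s.card + 3 ≤ Fintype.card α) :
    ∃ l m n : α, l ∉ s ∧ m ∉ s ∧ n ∉ s ∧ l ≠ m ∧ l ≠ n ∧ m ≠ n := by
  have h : 2 < sᶜ.card := by
    rw [Finset.card_compl]
    omega
  obtain ⟨l, hl, m, hm, n, hn, h1, h2, h3⟩ := Finset.two_lt_card.1 h
  rw [Finset.mem_compl] at hl hm hn
  exact ⟨l, m, n, hl, hm, hn, h1, h2, h3⟩

theorem exists_points_two {s : Finset α} (hs : s.card + 2 ≤ Fintype.card α) :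
    ∃ l m : α, l ∉ s ∧ m ∉ s ∧ l ≠ m := by
  have h : 1 < sᶜ.card := by
    rw [Finset.card_compl]
    omega
  obtain ⟨l, hl, m, hm, h1⟩ := Finset.one_lt_card.1 h
  rw [Finset.mem_compl] at hl hm
  exact ⟨l, m, hl, hm, h1⟩

theorem exists_point {s : Finset α} (hs : s.card + 1 ≤ Fintype.card α) : ∃ l : α, l ∉ s := by
  have h : 0 < sᶜ.card := by
    rw [Finset.card_compl]
    omega
  obtain ⟨l, hl⟩ := Finset.card_pos.1 h
  exact ⟨l, Finset.mem_compl.1 hl⟩

/-- the stabilizer of a subspace -/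
def stab (W : Submodule K V) : Subgroup (alternatingGroup α) where
  carrier := {g | ∀ v, ρ g v ∈ W ↔ v ∈ W}
  one_mem' := fun v => by rw [map_one]; rfl
  mul_mem' := fun {g h} hg hh v => by rw [ρ_mul_apply, hg, hh]
  inv_mem' := fun {g} hg v => by rw [← hg, ρ_apply_inv]

theorem mem_stab {W : Submodule K V} {g : alternatingGroup α} : g ∈ stab ρ W ↔ ∀ v, ρ g v ∈ W ↔ v ∈ W := Iff.rfl

/-- the stabilizer of a vector -/
def stabv (v : V) : Subgroup (alternatingGroup α) where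
  carrier := {g | ρ g v = v}
  one_mem' := by
    show ρ 1 v = v
    rw [map_one]; rfl
  mul_mem' := fun {g h} hg hh => by
    have hg' : ρ g v = v := hg
    have hh' : ρ h v = v := hh
    show ρ (g * h) v = v
    rw [ρ_mul_apply, hh', hg']
  inv_mem' := fun {g} hg => by
    have hg' : ρ g v = v := hg
    show ρ g⁻¹ v = v
    conv_lhs => rw [← hg']
    exact ρ_inv_apply ρ g v

theorem mem_stabv {v : V} {g : alternatingGroup α} : g ∈ stabv ρ v ↔ ρ g v = v := Iff.rfl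

theorem false_of_stab {ρ : alternatingGroup α →* Module.End K V} (hirr : Irr ρ) {W : Submodule K V}
    (h0 : 0 < finrank K W) (h1 : finrank K W < finrank K V) (h : stab ρ W = ⊤) : False := by
  rcases hirr W (fun g v hv => by
    have hg : g ∈ stab ρ W := by rw [h]; trivial
    exact (hg v).2 hv) with h2 | h2
  · rw [h2, finrank_bot] at h0
    exact lt_irrefl _ h0
  · rw [h2, finrank_top] at h1
    exact lt_irrefl _ h1

theorem false_of_stabv {ρ : alternatingGroup α →* Module.End K V} (hirr : Irr ρ) (h1 : 1 < finrank K V) {v : V}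
    (hv : v ≠ 0) (h : stabv ρ v = ⊤) : False := by
  have h2 : finrank K (K ∙ v) = 1 := finrank_span_singleton hv
  refine false_of_stab hirr (W := K ∙ v) (by omega) (by omega) ?_
  rw [eq_top_iff]
  intro g _
  have hg : g ∈ stabv ρ v := by rw [h]; trivial
  rw [mem_stabv] at hg
  rw [mem_stab]
  intro w
  constructor
  · intro hw
    obtain ⟨c, hc⟩ := Submodule.mem_span_singleton.1 hw
    refine Submodule.mem_span_singleton.2 ⟨c, inj ρ g ?_⟩
    rw [map_smul, hg, hc]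
  · intro hw
    obtain ⟨c, rfl⟩ := Submodule.mem_span_singleton.1 hw
    rw [map_smul, hg]
    exact Submodule.smul_mem _ _ (Submodule.mem_span_singleton_self v)

theorem C_mem_stab_R {i j k : α} (hij : i ≠ j) (hik : i ≠ k) (hjk : j ≠ k) : C i j k ∈ stab ρ (R (ρ (C i j k))) := by
  intro v
  rw [mem_R, mem_R, ← map_add, ← map_add]
  constructor
  · intro h
    exact inj ρ _ (by rw [h, map_zero])
  · intro h
    rw [h, map_zero]

/-- an element mapping `x` to `y` with `R x = W`, `R y = W` is in the stabilizer of `W` -/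
theorem mem_stab_of {g x y : alternatingGroup α} {W : Submodule K V} (h : g * x * g⁻¹ = y) (hx : R (ρ x) = W)
    (hy : R (ρ y) = W) : g ∈ stab ρ W := by
  intro v
  rw [← hx, ← mem_R_conj ρ g x v, h, hy, hx]

theorem mem_stab_of_le_F {x : alternatingGroup α} {W : Submodule K V} (h : W ≤ F (ρ x)) : x ∈ stab ρ W := by
  intro v
  constructor
  · intro hv
    have h1 := mem_F.1 (h hv)
    have h2 : ρ x v = v := inj ρ x h1
    rwa [h2] at hv
  · intro hv
    rw [mem_F.1 (h hv)]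
    exact hv

/-! ### nontriviality, ranks -/

theorem exists_three (hα : 5 ≤ Fintype.card α) {i j k i' j' k' : α} (hij : i ≠ j) (hik : i ≠ k) (hjk : j ≠ k)
    (hij' : i' ≠ j') (hik' : i' ≠ k') (hjk' : j' ≠ k') :
    ∃ g : alternatingGroup α, (g : Perm α) i = i' ∧ (g : Perm α) j = j' ∧ (g : Perm α) k = k' := by
  have h1 : Function.Injective ![i, j, k] := by
    intro a b hab
    fin_cases a <;> fin_cases b <;> first | rfl | (exfalso; revert hab; simp; intro h; first | exact hij h | exact hij h.symm | exact hik h | exact hik h.symm | exact hjk h | exact hjk h.symm)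
  have h2 : Function.Injective ![i', j', k'] := by
    intro a b hab
    fin_cases a <;> fin_cases b <;> first | rfl | (exfalso; revert hab; simp; intro h; first | exact hij' h | exact hij' h.symm | exact hik' h | exact hik' h.symm | exact hjk' h | exact hjk' h.symm)
  obtain ⟨g, hg⟩ := exists_even (m := 3) (by omega) _ _ h1 h2
  exact ⟨g, hg 0, hg 1, hg 2⟩

theorem exists_two (hα : 5 ≤ Fintype.card α) {i j i' j' : α} (hij : i ≠ j) (hij' : i' ≠ j') :
    ∃ g : alternatingGroup α, (g : Perm α) i = i' ∧ (g : Perm α) j = j' := by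
  obtain ⟨k, hk⟩ := exists_point (s := {i, j}) (by have := Finset.card_le_two (a := i) (b := j); omega)
  obtain ⟨k', hk'⟩ := exists_point (s := {i', j'}) (by have := Finset.card_le_two (a := i') (b := j'); omega)
  simp only [Finset.mem_insert, Finset.mem_singleton, not_or] at hk hk'
  obtain ⟨g, h1, h2, -⟩ := exists_three hα hij (Ne.symm hk.1) (Ne.symm hk.2) hij' (Ne.symm hk'.1) (Ne.symm hk'.2)
  exact ⟨g, h1, h2⟩

theorem finrank_F_eq (hα : 5 ≤ Fintype.card α) {i j k i' j' k' : α} (hij : i ≠ j) (hik : i ≠ k) (hjk : j ≠ k)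
    (hij' : i' ≠ j') (hik' : i' ≠ k') (hjk' : j' ≠ k') :
    finrank K (F (ρ (C i' j' k'))) = finrank K (F (ρ (C i j k))) := by
  obtain ⟨g, h1, h2, h3⟩ := exists_three hα hij hik hjk hij' hik' hjk'
  rw [← C_conj' hij hjk h1 h2 h3, finrank_F_conj]

theorem ne_one {ρ : alternatingGroup α →* Module.End K V} (hirr : Irr ρ) (hα : 5 ≤ Fintype.card α)
    (h1 : 1 < finrank K V) {i j k : α} (hij : i ≠ j) (hik : i ≠ k) (hjk : j ≠ k) : ρ (C i j k) ≠ 1 := by
  intro h
  have h2 : ∀ g : alternatingGroup α, ρ g = 1 := by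
    have h3 : (⊤ : Subgroup (alternatingGroup α)) ≤ ρ.ker := by
      rw [← alternatingGroup.closure_isThreeCycles_eq_top, Subgroup.closure_le]
      intro σ hσ
      obtain ⟨i', j', k', hij', hik', hjk', rfl⟩ := exists_C hσ
      obtain ⟨g, e1, e2, e3⟩ := exists_three hα hij hik hjk hij' hik' hjk'
      rw [SetLike.mem_coe, MonoidHom.mem_ker, ← C_conj' hij hjk e1 e2 e3, map_mul, map_mul, h, mul_one, ← map_mul,
        mul_inv_cancel, map_one]
    exact fun g => h3 (Subgroup.mem_top g)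
  have : Nontrivial V := Module.nontrivial_of_finrank_pos (R := K) (by omega)
  obtain ⟨v, hv⟩ := exists_ne (0 : V)
  refine false_of_stabv hirr h1 hv ?_
  rw [eq_top_iff]
  intro g _
  rw [mem_stabv, h2 g]
  rfl

/-- the rank dichotomy -/
theorem rank_cases [IsAlgClosed K] (h3 : (3 : K) ≠ 0) (h5 : finrank K V = 5)
    {ρ : alternatingGroup α →* Module.End K V} (hirr : Irr ρ) (hα : 5 ≤ Fintype.card α)
    {i j k : α} (hij : i ≠ j) (hik : i ≠ k) (hjk : j ≠ k) :
    (finrank K (F (ρ (C i j k))) = 1 ∧ finrank K (R (ρ (C i j k))) = 4) ∨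
      (finrank K (F (ρ (C i j k))) = 3 ∧ finrank K (R (ρ (C i j k))) = 2) := by
  obtain ⟨g, e1, e2, e3⟩ := exists_three hα hij hik hjk hij.symm hjk hik
  refine ranks h3 h5 (h := ρ g) (h' := ρ g⁻¹) ?_ (ne_one hirr hα (by omega) hij hik hjk) ?_ ?_
  · rw [pow_succ, pow_two, ← map_mul, ← map_mul, C_cube hij hik hjk, map_one]
  · rw [← map_mul, inv_mul_cancel, map_one]
  · rw [← map_mul, ← map_mul, inv_of_swap hij hik hjk e1 e2 e3, map_mul, pow_two]

/-- the element exchanging `i`, `j` and `l`, `m` -/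
theorem D_fst {i j l m : α} (hij : i ≠ j) (hlm : l ≠ m) (hil : i ≠ l) (him : i ≠ m) :
    ((D i j l m : alternatingGroup α) : Perm α) i = j := by
  rw [D_val hij hlm, Perm.mul_apply, swap_apply_of_ne_of_ne hil him, swap_apply_left]

theorem D_snd {i j l m : α} (hij : i ≠ j) (hlm : l ≠ m) (hjl : j ≠ l) (hjm : j ≠ m) :
    ((D i j l m : alternatingGroup α) : Perm α) j = i := by
  rw [D_val hij hlm, Perm.mul_apply, swap_apply_of_ne_of_ne hjl hjm, swap_apply_right]

theorem D_trd {i j l m : α} (hij : i ≠ j) (hlm : l ≠ m) (him : i ≠ m) (hjm : j ≠ m) :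
    ((D i j l m : alternatingGroup α) : Perm α) l = m := by
  rw [D_val hij hlm, Perm.mul_apply, swap_apply_left, swap_apply_of_ne_of_ne him.symm hjm.symm]

theorem D_fth {i j l m : α} (hij : i ≠ j) (hlm : l ≠ m) (hil : i ≠ l) (hjl : j ≠ l) :
    ((D i j l m : alternatingGroup α) : Perm α) m = l := by
  rw [D_val hij hlm, Perm.mul_apply, swap_apply_right, swap_apply_of_ne_of_ne hil.symm hjl.symm]

theorem D_of_ne {i j l m x : α} (hij : i ≠ j) (hlm : l ≠ m) (hi : x ≠ i) (hj : x ≠ j) (hl : x ≠ l) (hm : x ≠ m) :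
    ((D i j l m : alternatingGroup α) : Perm α) x = x := by
  rw [D_val hij hlm, Perm.mul_apply, swap_apply_of_ne_of_ne hl hm, swap_apply_of_ne_of_ne hi hj]

/-- six distinct points -/
structure Six (i j k l m n : α) : Prop where
  hij : i ≠ j
  hik : i ≠ k
  hjk : j ≠ k
  hlm : l ≠ m
  hln : l ≠ n
  hmn : m ≠ n
  hil : i ≠ l
  him : i ≠ m
  hin : i ≠ n
  hjl : j ≠ l
  hjm : j ≠ m
  hjn : j ≠ n
  hkl : k ≠ l
  hkm : k ≠ m
  hkn : k ≠ n

theorem Six.swap {i j k l m n : α} (S : Six i j k l m n) : Six l m n i j k :=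
  ⟨S.hlm, S.hln, S.hmn, S.hij, S.hik, S.hjk, S.hil.symm, S.hjl.symm, S.hkl.symm, S.him.symm, S.hjm.symm, S.hkm.symm,
    S.hin.symm, S.hjn.symm, S.hkn.symm⟩

theorem six_caseB (h3 : (3 : K) ≠ 0) {i j k l m n : α} (S : Six i j k l m n)
    (hF : finrank K (F (ρ (C i j k))) = 1) : F (ρ (C i j k)) ≤ F (ρ (C l m n)) := by
  refine caseB h3 (h := ρ (D i j l m)) (cube ρ S.hij S.hik S.hjk) (cube ρ S.hlm S.hln S.hmn) ?_ (inj ρ _) ?_ ?_ hF
  · exact comm_rel ρ S.hij S.hik S.hjk S.hlm S.hln S.hmn S.hil S.him S.hin S.hjl S.hjm S.hjn S.hkl S.hkm S.hkn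
  · exact swap_rel ρ S.hij S.hik S.hjk (D_fst S.hij S.hlm S.hil S.him) (D_snd S.hij S.hlm S.hjl S.hjm)
      (D_of_ne S.hij S.hlm S.hik.symm S.hjk.symm S.hkl S.hkm)
  · exact swap_rel ρ S.hlm S.hln S.hmn (D_trd S.hij S.hlm S.him S.hjm) (D_fth S.hij S.hlm S.hil S.hjl)
      (D_of_ne S.hij S.hlm S.hin.symm S.hjn.symm S.hln.symm S.hmn.symm)

theorem six_caseA (h3 : (3 : K) ≠ 0) {i j k l m n : α} (S : Six i j k l m n)
    (hR : finrank K (R (ρ (C i j k))) = 2) :
    R (ρ (C i j k)) ≤ F (ρ (C l m n)) ∨ R (ρ (C i j k)) ≤ R (ρ (C l m n)) := by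
  refine caseA h3 (h := ρ (D i j l m)) (cube ρ S.hij S.hik S.hjk) (cube ρ S.hlm S.hln S.hmn) ?_ (inj ρ _) ?_ ?_ hR
  · exact comm_rel ρ S.hij S.hik S.hjk S.hlm S.hln S.hmn S.hil S.him S.hin S.hjl S.hjm S.hjn S.hkl S.hkm S.hkn
  · exact swap_rel ρ S.hij S.hik S.hjk (D_fst S.hij S.hlm S.hil S.him) (D_snd S.hij S.hlm S.hjl S.hjm)
      (D_of_ne S.hij S.hlm S.hik.symm S.hjk.symm S.hkl S.hkm)
  · exact swap_rel ρ S.hlm S.hln S.hmn (D_trd S.hij S.hlm S.him S.hjm) (D_fth S.hij S.hlm S.hil S.hjl)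
      (D_of_ne S.hij S.hlm S.hin.symm S.hjn.symm S.hln.symm S.hmn.symm)

/-- **Case B is impossible** -/
theorem false_B [IsAlgClosed K] (h3 : (3 : K) ≠ 0) (h5 : finrank K V = 5)
    {ρ : alternatingGroup α →* Module.End K V} (hirr : Irr ρ) (hα : 7 ≤ Fintype.card α)
    {i j k : α} (hij : i ≠ j) (hik : i ≠ k) (hjk : j ≠ k) (hF : finrank K (F (ρ (C i j k))) = 1) : False := by
  have hall : ∀ {i' j' k' : α}, i' ≠ j' → i' ≠ k' → j' ≠ k' → finrank K (F (ρ (C i' j' k'))) = 1 := by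
    intro i' j' k' h1 h2 h3'
    rw [finrank_F_eq ρ (by omega) hij hik hjk h1 h2 h3', hF]
  obtain ⟨v, hv0, -⟩ := finrank_eq_one_iff'.1 hF
  have hv0' : (v : V) ≠ 0 := fun h => hv0 (Subtype.ext h)
  refine false_of_stabv hirr (by omega) hv0' (eq_top_of_pair _ hij ?_)
  intro q hqi hqj
  rw [mem_stabv, ← mem_F]
  by_cases hqk : q = k
  · subst hqk; exact v.2
  obtain ⟨l, m, n, hl, hm, hn, hlm, hln, hmn⟩ := exists_points (s := {i, j, k, q}) (by
    have := Finset.card_le_four (a := i) (b := j) (c := k) (d := q); omega)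
  simp only [Finset.mem_insert, Finset.mem_singleton, not_or] at hl hm hn
  have S1 : Six i j k l m n := ⟨hij, hik, hjk, hlm, hln, hmn, Ne.symm hl.1, Ne.symm hm.1, Ne.symm hn.1,
    Ne.symm hl.2.1, Ne.symm hm.2.1, Ne.symm hn.2.1, Ne.symm hl.2.2.1, Ne.symm hm.2.2.1, Ne.symm hn.2.2.1⟩
  have S2 : Six l m n i j q := ⟨hlm, hln, hmn, hij, Ne.symm hqi, Ne.symm hqj, hl.1, hl.2.1, hl.2.2.2,
    hm.1, hm.2.1, hm.2.2.2, hn.1, hn.2.1, hn.2.2.2⟩
  exact six_caseB ρ h3 S2 (hall hlm hln hmn) (six_caseB ρ h3 S1 hF v.2)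

/-- case A: `R` of a three-cycle is fixed by the disjoint three-cycles -/
theorem six_le [IsAlgClosed K] (h3 : (3 : K) ≠ 0) (h5 : finrank K V = 5)
    {ρ : alternatingGroup α →* Module.End K V} (hirr : Irr ρ) (hα : 7 ≤ Fintype.card α)
    (hR : ∀ {i j k : α}, i ≠ j → i ≠ k → j ≠ k → finrank K (R (ρ (C i j k))) = 2)
    {i j k l m n : α} (S : Six i j k l m n) : R (ρ (C i j k)) ≤ F (ρ (C l m n)) := by
  rcases six_caseA ρ h3 S (hR S.hij S.hik S.hjk) with h | h
  · exact h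
  exfalso
  set W := R (ρ (C i j k)) with hW
  have hW2 : finrank K W = 2 := hR S.hij S.hik S.hjk
  have hW' : R (ρ (C l m n)) = W := (Submodule.eq_of_le_of_finrank_le h (by
    rw [hW2, hR S.hlm S.hln S.hmn])).symm
  have hconj : ∀ g ∈ stab ρ W, ∀ x ∈ stab ρ W, g * x * g⁻¹ ∈ stab ρ W := fun g hg x hx =>
    (stab ρ W).mul_mem ((stab ρ W).mul_mem hg hx) ((stab ρ W).inv_mem hg)
  have hk : C i j k ∈ stab ρ W := C_mem_stab_R ρ S.hij S.hik S.hjk
  -- `q` outside
  have hout : ∀ q, q ≠ i → q ≠ j → q ≠ k → q ≠ l → q ≠ m → q ≠ n → C i j q ∈ stab ρ W := by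
    intro q hqi hqj hqk hql hqm hqn
    have hg : (D k q l m : alternatingGroup α) ∈ stab ρ W := by
      refine mem_stab_of ρ (x := C l m n) (y := C m l n) (C_conj' S.hlm S.hmn
        (D_trd (Ne.symm hqk) S.hlm S.hkm hqm) (D_fth (Ne.symm hqk) S.hlm S.hkl hql)
        (D_of_ne (Ne.symm hqk) S.hlm S.hkn.symm (Ne.symm hqn) S.hln.symm S.hmn.symm)) hW' ?_
      rw [R_swap ρ S.hlm S.hln S.hmn, hW']
    rw [← C_conj' (g := D k q l m) S.hij S.hjk
      (D_of_ne (Ne.symm hqk) S.hlm S.hik (Ne.symm hqi) S.hil S.him)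
      (D_of_ne (Ne.symm hqk) S.hlm S.hjk (Ne.symm hqj) S.hjl S.hjm)
      (D_fst (Ne.symm hqk) S.hlm S.hkl S.hkm)]
    exact hconj _ hg _ hk
  obtain ⟨p, hp⟩ := exists_point (s := {i, j, k, l, m, n}) (by
    have := Finset.card_le_six (a := i) (b := j) (c := k) (d := l) (e := m) (f := n); omega)
  simp only [Finset.mem_insert, Finset.mem_singleton, not_or] at hp
  obtain ⟨hpi, hpj, hpk, hpl, hpm, hpn⟩ := hp
  have hP : C i j p ∈ stab ρ W := hout p hpi hpj hpk hpl hpm hpn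
  -- `q` in `{l, m, n}`
  have hin : ∀ q, q ≠ i → q ≠ j → q ≠ k → q ≠ p → C i j q ∈ stab ρ W := by
    intro q hqi hqj hqk hqp
    have hg : (D q p i j : alternatingGroup α) ∈ stab ρ W := by
      refine mem_stab_of ρ (x := C i j k) (y := C j i k) (C_conj' S.hij S.hjk
        (D_trd hqp S.hij hqj hpj) (D_fth hqp S.hij hqi hpi)
        (D_of_ne hqp S.hij (Ne.symm hqk) (Ne.symm hpk) S.hik.symm S.hjk.symm)) rfl ?_
      rw [R_swap ρ S.hij S.hik S.hjk]
    have h1 : C j i q ∈ stab ρ W := by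
      rw [← C_conj' (g := D q p i j) S.hij (Ne.symm hpj)
        (D_trd hqp S.hij hqj hpj) (D_fth hqp S.hij hqi hpi) (D_snd hqp S.hij hpi hpj)]
      exact hconj _ hg _ hP
    have h2 := (stab ρ W).inv_mem h1
    rw [C_inv S.hij.symm (Ne.symm hqi), C_rot hqi hqj S.hij] at h2
    exact h2
  refine false_of_stab hirr (W := W) (by omega) (by omega) (eq_top_of_pair _ S.hij ?_)
  intro q hqi hqj
  by_cases hqk : q = k
  · rw [hqk]; exact hk
  by_cases hqp : q = p
  · rw [hqp]; exact hP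
  exact hin q hqi hqj hqk hqp

/-- case A: `R` of overlapping three-cycles are different -/
theorem R_ne [IsAlgClosed K] (h3 : (3 : K) ≠ 0) (h5 : finrank K V = 5)
    {ρ : alternatingGroup α →* Module.End K V} (hirr : Irr ρ) (hα : 7 ≤ Fintype.card α)
    (hR : ∀ {i j k : α}, i ≠ j → i ≠ k → j ≠ k → finrank K (R (ρ (C i j k))) = 2)
    {i j k l : α} (hij : i ≠ j) (hik : i ≠ k) (hjk : j ≠ k) (hil : i ≠ l) (hjl : j ≠ l) (hkl : k ≠ l) :
    R (ρ (C i j k)) ≠ R (ρ (C i j l)) := by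
  intro h
  set W := R (ρ (C i j k)) with hW
  have hW2 : finrank K W = 2 := hR hij hik hjk
  have hk : C i j k ∈ stab ρ W := C_mem_stab_R ρ hij hik hjk
  have hl : C i j l ∈ stab ρ W := by rw [h]; exact C_mem_stab_R ρ hij hil hjl
  refine false_of_stab hirr (W := W) (by omega) (by omega) (eq_top_of_pair _ hij ?_)
  intro q hqi hqj
  by_cases hqk : q = k
  · rw [hqk]; exact hk
  by_cases hql : q = l
  · rw [hql]; exact hl
  obtain ⟨r, hr⟩ := exists_point (s := {i, j, k, l, q}) (by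
    have := Finset.card_le_five (a := i) (b := j) (c := k) (d := l) (e := q); omega)
  simp only [Finset.mem_insert, Finset.mem_singleton, not_or] at hr
  obtain ⟨hri, hrj, hrk, hrl, hrq⟩ := hr
  have hg : C l q r ∈ stab ρ W := mem_stab_of_le_F ρ (six_le h3 h5 hirr hα hR
    ⟨hij, hik, hjk, Ne.symm hql, Ne.symm hrl, Ne.symm hrq, hil, Ne.symm hqi, Ne.symm hri, hjl, Ne.symm hqj,
      Ne.symm hrj, hkl, Ne.symm hqk, Ne.symm hrk⟩)
  rw [← C_conj' (g := C l q r) hij hjl (i' := i) (j' := j) (k' := q)]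
  · exact (stab ρ W).mul_mem ((stab ρ W).mul_mem hg hl) ((stab ρ W).inv_mem hg)
  · rw [C_val (Ne.symm hql) (Ne.symm hrq), c_apply_of_ne hil (Ne.symm hqi) (Ne.symm hri)]
  · rw [C_val (Ne.symm hql) (Ne.symm hrq), c_apply_of_ne hjl (Ne.symm hqj) (Ne.symm hrj)]
  · rw [C_val (Ne.symm hql) (Ne.symm hrq), c_apply_fst (Ne.symm hql) (Ne.symm hrl)]

end Cfsg.Agent.H180.AltFive
end

-- part: H180/AltFive
section
/-!
# `A₇` and `A₈` have no irreducible representation of degree 5 (characteristic not 7, resp. 2)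

`alt_five` (task 174 of the lemma market, S5794, S5797).
-/

set_option autoImplicit false
set_option linter.unusedSectionVars false
set_option linter.unusedVariables false

namespace Cfsg.Agent.H180.AltFive

open Equiv Equiv.Perm Module
open Cfsg.Agent.H911 (Irr ρ_mul_apply ρ_inv_apply ρ_apply_inv)

variable {α : Type*} [Fintype α] [DecidableEq α]
variable {K : Type*} [Field K] {V : Type*} [AddCommGroup V] [Module K V] [FiniteDimensional K V]

open Classical in
/-- the vector attached to a pair of points -/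
noncomputable def w (ρ : alternatingGroup α →* Module.End K V) (a b : α) (u : V) (i j : α) : V :=
  if h : ∃ g : alternatingGroup α, (g : Perm α) a = i ∧ (g : Perm α) b = j then ρ h.choose u else 0

section

variable {ρ : alternatingGroup α →* Module.End K V} {a b : α} {u : V}

theorem w_eq (hu : ∀ g : alternatingGroup α, (g : Perm α) a = a → (g : Perm α) b = b → ρ g u = u)
    (g : alternatingGroup α) : ρ g u = w ρ a b u ((g : Perm α) a) ((g : Perm α) b) := by
  have h : ∃ g' : alternatingGroup α, (g' : Perm α) a = (g : Perm α) a ∧ (g' : Perm α) b = (g : Perm α) b :=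
    ⟨g, rfl, rfl⟩
  unfold w
  rw [dif_pos h]
  obtain ⟨h1, h2⟩ := h.choose_spec
  set g' := h.choose with hg'
  have h3 := hu (g'⁻¹ * g) (by
    show (g' : Perm α)⁻¹ ((g : Perm α) a) = a
    rw [← h1]; exact Equiv.symm_apply_apply _ _) (by
    show (g' : Perm α)⁻¹ ((g : Perm α) b) = b
    rw [← h2]; exact Equiv.symm_apply_apply _ _)
  conv_rhs => rw [← h3]
  rw [← ρ_mul_apply, mul_inv_cancel_left]

variable (hα : 7 ≤ Fintype.card α) (hab : a ≠ b)
  (hu : ∀ g : alternatingGroup α, (g : Perm α) a = a → (g : Perm α) b = b → ρ g u = u)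

include hα hab hu

theorem w_smul (g : alternatingGroup α) {i j : α} (hij : i ≠ j) :
    ρ g (w ρ a b u i j) = w ρ a b u ((g : Perm α) i) ((g : Perm α) j) := by
  obtain ⟨g', h1, h2⟩ := exists_two (by omega) hab hij
  rw [← h1, ← h2, ← w_eq hu g', ← ρ_mul_apply, w_eq hu (g * g')]
  rfl

theorem w_base : w ρ a b u a b = u := by
  have := w_eq hu 1
  rw [map_one] at this
  exact this.symm

theorem w_ne (hu0 : u ≠ 0) {i j : α} (hij : i ≠ j) : w ρ a b u i j ≠ 0 := by
  obtain ⟨g', h1, h2⟩ := exists_two (by omega) hab hij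
  rw [← h1, ← h2, ← w_eq hu g']
  intro h
  exact hu0 (inj ρ g' (by rw [h, map_zero]))

theorem w_rel {c₀ : α} (hac : a ≠ c₀) (hbc : b ≠ c₀) (hR : u ∈ R (ρ (C a b c₀))) {i j k : α} (hij : i ≠ j)
    (hik : i ≠ k) (hjk : j ≠ k) : w ρ a b u i j + w ρ a b u j k + w ρ a b u k i = 0 := by
  have h0 : w ρ a b u a b + w ρ a b u b c₀ + w ρ a b u c₀ a = 0 := by
    rw [mem_R] at hR
    have e1 : ρ (C a b c₀) u = w ρ a b u b c₀ := by
      rw [w_eq hu, C_val hab hbc, c_apply_fst hab hac, c_apply_snd hac hbc]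
    have e2 : ρ (C a b c₀) (ρ (C a b c₀) u) = w ρ a b u c₀ a := by
      rw [e1, w_smul hα hab hu _ hbc, C_val hab hbc, c_apply_snd hac hbc, c_apply_trd]
    rw [w_base hα hab hu, ← e1, ← e2, e1]
    rw [e1] at hR
    exact hR
  obtain ⟨g, h1, h2, h3⟩ := exists_three (by omega) hab hac hbc hij hik hjk
  have := congrArg (ρ g) h0
  rw [map_add, map_add, map_zero, w_smul hα hab hu _ hab, w_smul hα hab hu _ hbc, w_smul hα hab hu _ hac.symm,
    h1, h2, h3] at this
  exact this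

theorem w_symm {ε : K} (h : w ρ a b u b a = ε • u) {i j : α} (hij : i ≠ j) :
    w ρ a b u j i = ε • w ρ a b u i j := by
  obtain ⟨g', h1, h2⟩ := exists_two (by omega) hab hij
  rw [← h1, ← h2, ← w_eq hu g', ← map_smul, ← h, w_smul hα hab hu _ hab.symm]

end

/-- the sign is `-1` -/
theorem eps_eq (h3 : (3 : K) ≠ 0) {ρ : alternatingGroup α →* Module.End K V} {a b c₀ : α} {u : V}
    (hα : 7 ≤ Fintype.card α) (hab : a ≠ b) (hac : a ≠ c₀) (hbc : b ≠ c₀)
    (hu : ∀ g : alternatingGroup α, (g : Perm α) a = a → (g : Perm α) b = b → ρ g u = u) (hu0 : u ≠ 0)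
    (hR : u ∈ R (ρ (C a b c₀))) {ε : K} (h : w ρ a b u b a = ε • u) (hε : ε * ε = 1) : ε = -1 := by
  by_contra hne
  have h1 : ε = 1 := by
    have : (ε - 1) * (ε + 1) = 0 := by linear_combination hε
    rcases mul_eq_zero.1 this with h2 | h2
    · exact sub_eq_zero.1 h2
    · exact absurd (eq_neg_of_add_eq_zero_left h2) hne
  have h2 : (2 : K) ≠ 0 := by
    intro h2
    apply hne
    rw [h1]
    have : (1 : K) + 1 = 0 := by rw [← h2]; norm_num
    exact eq_neg_of_add_eq_zero_left this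
  have sy : ∀ {i j : α}, i ≠ j → w ρ a b u j i = w ρ a b u i j := by
    intro i j hij
    rw [w_symm hα hab hu h hij, h1, one_smul]
  have rl : ∀ {i j k : α}, i ≠ j → i ≠ k → j ≠ k → w ρ a b u i j + w ρ a b u j k + w ρ a b u k i = 0 :=
    fun hij hik hjk => w_rel hα hab hu hac hbc hR hij hik hjk
  have key : ∀ {i j k l : α}, i ≠ j → i ≠ k → i ≠ l → j ≠ k → j ≠ l → k ≠ l → w ρ a b u i j = w ρ a b u k l := by
    intro i j k l hij hik hil hjk hjl hkl
    have e1 := rl hij hik hjk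
    have e2 := rl hij hil hjl
    have e3 := rl hik hil hkl
    have e4 := rl hjk hjl hkl
    have s1 := sy hik
    have s2 := sy hil
    have s3 := sy hjl
    rw [s1] at e1
    rw [s2] at e2 e3
    rw [s3] at e4
    have e5 : (2 : K) • (w ρ a b u i j - w ρ a b u k l) = 0 := by
      rw [two_smul]
      have : w ρ a b u i j - w ρ a b u k l + (w ρ a b u i j - w ρ a b u k l) =
          (w ρ a b u i j + w ρ a b u j k + w ρ a b u i k) + (w ρ a b u i j + w ρ a b u j l + w ρ a b u i l) -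
          (w ρ a b u i k + w ρ a b u k l + w ρ a b u i l) - (w ρ a b u j k + w ρ a b u k l + w ρ a b u j l) := by
        abel
      rw [this, e1, e2, e3, e4]
      simp
    exact sub_eq_zero.1 ((smul_eq_zero.1 e5).resolve_left h2)
  obtain ⟨l, m, hl, hm, hlm⟩ := exists_points_two (s := {a, b, c₀}) (by
    have := Finset.card_le_three (a := a) (b := b) (c := c₀); omega)
  simp only [Finset.mem_insert, Finset.mem_singleton, not_or] at hl hm
  have e1 := key hab (Ne.symm hl.1) (Ne.symm hm.1) (Ne.symm hl.2.1) (Ne.symm hm.2.1) hlm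
  have e2 := key hbc (Ne.symm hl.2.1) (Ne.symm hm.2.1) (Ne.symm hl.2.2) (Ne.symm hm.2.2) hlm
  have e3 := key hac.symm (Ne.symm hl.2.2) (Ne.symm hm.2.2) (Ne.symm hl.1) (Ne.symm hm.1) hlm
  have e4 := rl hab hac hbc
  rw [e1, e2, e3, three_smul' (K := K)] at e4
  exact w_ne hα hab hu hu0 hlm ((smul_eq_zero.1 e4).resolve_left h3)

seal _root_.Finset.card _root_.Finset.filter in
/-- **main theorem, characteristic prime to 21** -/
theorem main [IsAlgClosed K] (h3 : (3 : K) ≠ 0) (h7 : (7 : K) ≠ 0) (h5 : finrank K V = 5)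
    {ρ : alternatingGroup α →* Module.End K V} (hirr : Irr ρ) (hα : 7 ≤ Fintype.card α)
    (a : Fin 7 → α) (ha : Function.Injective a) (x z : alternatingGroup α)
    (hx : ∀ i, (x : Perm α) (a i) = a (i + 1)) (hx7 : x ^ 7 = 1) (hz : z * x * z⁻¹ = x ^ 2) : False := by
  have ne : ∀ {i j : Fin 7}, i ≠ j → a i ≠ a j := fun hij => ha.ne hij
  have h01 : a 0 ≠ a 1 := ne (by decide)
  have h02 : a 0 ≠ a 2 := ne (by decide)
  have h12 : a 1 ≠ a 2 := ne (by decide)
  have h03 : a 0 ≠ a 3 := ne (by decide)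
  have h13 : a 1 ≠ a 3 := ne (by decide)
  have h23 : a 2 ≠ a 3 := ne (by decide)
  -- the ranks
  rcases rank_cases h3 h5 hirr (by omega) h01 h02 h12 with hF | hF
  · exact false_B h3 h5 hirr hα h01 h02 h12 hF.1
  have hFF : ∀ {i j k : α}, i ≠ j → i ≠ k → j ≠ k → finrank K (F (ρ (C i j k))) = 3 := by
    intro i j k hij hik hjk
    rw [finrank_F_eq ρ (by omega) h01 h02 h12 hij hik hjk, hF.1]
  have hR : ∀ {i j k : α}, i ≠ j → i ≠ k → j ≠ k → finrank K (R (ρ (C i j k))) = 2 := by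
    intro i j k hij hik hjk
    have h1 := hFF hij hik hjk
    rcases rank_cases h3 h5 hirr (by omega) hij hik hjk with h | h
    · omega
    · exact h.2
  have hle : ∀ {i j k l m n : α}, Six i j k l m n → R (ρ (C i j k)) ≤ F (ρ (C l m n)) :=
    fun S => six_le h3 h5 hirr hα hR S
  -- the line
  have S1 : Six (a 0) (a 1) (a 2) (a 4) (a 5) (a 6) := by
    constructor <;> exact ne (by decide)
  have S2 : Six (a 0) (a 1) (a 3) (a 4) (a 5) (a 6) := by
    constructor <;> exact ne (by decide)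
  have S3 : Six (a 0) (a 1) (a 2) (a 3) (a 4) (a 5) := by
    constructor <;> exact ne (by decide)
  set ℓ : Submodule K V := R (ρ (C (a 0) (a 1) (a 2))) ⊓ R (ρ (C (a 0) (a 1) (a 3))) with hℓ
  have hℓ1 : finrank K ℓ = 1 := by
    have e1 := Submodule.finrank_sup_add_finrank_inf_eq (R (ρ (C (a 0) (a 1) (a 2)))) (R (ρ (C (a 0) (a 1) (a 3))))
    rw [hR h01 h02 h12, hR h01 h03 h13, ← hℓ] at e1
    have e2 : finrank K (R (ρ (C (a 0) (a 1) (a 2))) ⊔ R (ρ (C (a 0) (a 1) (a 3))) : Submodule K V) ≤ 3 := by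
      rw [← hFF (i := a 4) (j := a 5) (k := a 6) (ne (by decide)) (ne (by decide)) (ne (by decide))]
      exact Submodule.finrank_mono (sup_le (hle S1) (hle S2))
    have e3 : finrank K ℓ ≠ 2 := by
      intro e4
      apply R_ne h3 h5 hirr hα hR h01 h02 h12 h03 h13 h23
      have e5 : ℓ = R (ρ (C (a 0) (a 1) (a 2))) :=
        Submodule.eq_of_le_of_finrank_le inf_le_left (by rw [e4, hR h01 h02 h12])
      have e6 : ℓ = R (ρ (C (a 0) (a 1) (a 3))) :=
        Submodule.eq_of_le_of_finrank_le inf_le_right (by rw [e4, hR h01 h03 h13])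
      rw [← e5, ← e6]
    have e4 : finrank K ℓ ≤ 2 := by
      rw [← hR h01 h02 h12]
      exact Submodule.finrank_mono inf_le_left
    omega
  obtain ⟨u', hu0', hspan⟩ := finrank_eq_one_iff'.1 hℓ1
  set u : V := (u' : V) with hu
  have hu0 : u ≠ 0 := fun h => hu0' (Subtype.ext h)
  have huℓ : u ∈ ℓ := u'.2
  have hline : ∀ v ∈ ℓ, ∃ c : K, v = c • u := by
    intro v hv
    obtain ⟨c, hc⟩ := hspan ⟨v, hv⟩
    exact ⟨c, (congrArg Subtype.val hc).symm⟩
  -- the stabilizer of the two points fixes `u`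
  have hfix3 : ∀ i j k : α, i ≠ a 0 → i ≠ a 1 → j ≠ a 0 → j ≠ a 1 → k ≠ a 0 → k ≠ a 1 → i ≠ j → i ≠ k → j ≠ k →
      (i ≠ a 2 ∧ j ≠ a 2 ∧ k ≠ a 2) ∨ (i ≠ a 3 ∧ j ≠ a 3 ∧ k ≠ a 3) → C i j k ∈ stabv ρ u := by
    intro i j k i0 i1 j0 j1 k0 k1 hij hik hjk h
    rw [mem_stabv, ← mem_F]
    rcases h with ⟨hi, hj, hk⟩ | ⟨hi, hj, hk⟩
    · exact hle ⟨h01, h02, h12, hij, hik, hjk, i0.symm, j0.symm, k0.symm, i1.symm, j1.symm, k1.symm, hi.symm,
        hj.symm, hk.symm⟩ huℓ.1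
    · exact hle ⟨h01, h03, h13, hij, hik, hjk, i0.symm, j0.symm, k0.symm, i1.symm, j1.symm, k1.symm, hi.symm,
        hj.symm, hk.symm⟩ huℓ.2
  have hfix : ∀ g : alternatingGroup α, (g : Perm α) (a 0) = a 0 → (g : Perm α) (a 1) = a 1 → ρ g u = u := by
    intro g hg0 hg1
    rw [← mem_stabv]
    refine mem_of_fix_two (stabv ρ u) ?_ hg0 hg1
    intro i j k i0 i1 j0 j1 k0 k1 hij hik hjk
    by_cases h2 : i ≠ a 2 ∧ j ≠ a 2 ∧ k ≠ a 2
    · exact hfix3 i j k i0 i1 j0 j1 k0 k1 hij hik hjk (Or.inl h2)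
    by_cases h3' : i ≠ a 3 ∧ j ≠ a 3 ∧ k ≠ a 3
    · exact hfix3 i j k i0 i1 j0 j1 k0 k1 hij hik hjk (Or.inr h3')
    obtain ⟨p, q, hp, hq, hpq⟩ := exists_points_two (s := {a 0, a 1, i, j, k}) (by
      have := Finset.card_le_five (a := a 0) (b := a 1) (c := i) (d := j) (e := k); omega)
    simp only [Finset.mem_insert, Finset.mem_singleton, not_or] at hp hq
    obtain ⟨p0, p1, pi, pj, pk⟩ := hp
    obtain ⟨q0, q1, qi, qj, qk⟩ := hq
    have hp2 : p ≠ a 2 := by
      rintro rfl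
      exact h2 ⟨Ne.symm pi, Ne.symm pj, Ne.symm pk⟩
    have hq2 : q ≠ a 2 := by
      rintro rfl
      exact h2 ⟨Ne.symm qi, Ne.symm qj, Ne.symm qk⟩
    have hp3 : p ≠ a 3 := by
      rintro rfl
      exact h3' ⟨Ne.symm pi, Ne.symm pj, Ne.symm pk⟩
    have hq3 : q ≠ a 3 := by
      rintro rfl
      exact h3' ⟨Ne.symm qi, Ne.symm qj, Ne.symm qk⟩
    have hg : C (a 2) p q ∈ stabv ρ u :=
      hfix3 _ _ _ h02.symm h12.symm p0 p1 q0 q1 hp2.symm hq2.symm hpq (Or.inr ⟨h23, hp3, hq3⟩)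
    have hgv : ((C (a 2) p q : alternatingGroup α) : Perm α) = c (a 2) p q := C_val hp2.symm hpq
    -- images are not `a 2`
    have himg : ∀ y : α, y ≠ q → c (a 2) p q y ≠ a 2 := by
      intro y hy h
      have h' : c (a 2) p q y = c (a 2) p q q := by rw [h, c_apply_trd]
      exact hy ((c (a 2) p q).injective h')
    have hfx : ∀ y : α, (y = a 0 ∨ y = a 1) → c (a 2) p q y = y := by
      rintro y (rfl | rfl)
      · exact c_apply_of_ne h02 (Ne.symm p0) (Ne.symm q0)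
      · exact c_apply_of_ne h12 (Ne.symm p1) (Ne.symm q1)
    have hne : ∀ (y t : α), (t = a 0 ∨ t = a 1) → y ≠ t → c (a 2) p q y ≠ t := by
      intro y t ht hy h
      rw [← hfx t ht] at h
      exact hy ((c (a 2) p q).injective h)
    have hinj : ∀ {y t : α}, y ≠ t → c (a 2) p q y ≠ c (a 2) p q t := fun h h' => h ((c (a 2) p q).injective h')
    have h4 : C (c (a 2) p q i) (c (a 2) p q j) (c (a 2) p q k) ∈ stabv ρ u := by
      refine hfix3 _ _ _ (hne _ _ (Or.inl rfl) i0) (hne _ _ (Or.inr rfl) i1) (hne _ _ (Or.inl rfl) j0)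
        (hne _ _ (Or.inr rfl) j1) (hne _ _ (Or.inl rfl) k0) (hne _ _ (Or.inr rfl) k1) (hinj hij) (hinj hik)
        (hinj hjk) (Or.inl ⟨himg _ (Ne.symm qi), himg _ (Ne.symm qj), himg _ (Ne.symm qk)⟩)
    rw [← C_conj' (g := C (a 2) p q) hij hjk (by rw [hgv]) (by rw [hgv]) (by rw [hgv])] at h4
    have h6 := (stabv ρ u).mul_mem ((stabv ρ u).mul_mem ((stabv ρ u).inv_mem hg) h4) hg
    have e : (C (a 2) p q)⁻¹ * (C (a 2) p q * C i j k * (C (a 2) p q)⁻¹) * C (a 2) p q = C i j k := by group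
    rwa [e] at h6
  -- the sign
  have huR : u ∈ R (ρ (C (a 0) (a 1) (a 2))) := huℓ.1
  obtain ⟨ε, hε⟩ : ∃ ε : K, ρ (D (a 0) (a 1) (a 2) (a 3)) u = ε • u := by
    apply hline
    constructor
    · have h1 := (mem_R_conj ρ (D (a 0) (a 1) (a 2) (a 3)) (C (a 0) (a 1) (a 3)) u).2 huℓ.2
      rw [C_conj' h01 h13 (D_fst h01 h23 h02 h03) (D_snd h01 h23 h12 h13) (D_fth h01 h23 h02 h12),
        R_swap ρ h01 h02 h12] at h1
      exact h1
    · have h1 := (mem_R_conj ρ (D (a 0) (a 1) (a 2) (a 3)) (C (a 0) (a 1) (a 2)) u).2 huℓ.1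
      rw [C_conj' h01 h12 (D_fst h01 h23 h02 h03) (D_snd h01 h23 h12 h13) (D_trd h01 h23 h03 h13),
        R_swap ρ h01 h03 h13] at h1
      exact h1
  have hw10 : w ρ (a 0) (a 1) u (a 1) (a 0) = ε • u := by
    rw [← hε, w_eq hfix, D_fst h01 h23 h02 h03, D_snd h01 h23 h12 h13]
  have hε2 : ε * ε = 1 := by
    have h1 := w_symm hα h01 hfix hw10 h01
    have h2 := w_symm hα h01 hfix hw10 h01.symm
    rw [h1, smul_smul, w_base hα h01 hfix] at h2
    have h4 : (ε * ε - 1) • u = 0 := by rw [sub_smul, ← h2, one_smul, sub_self]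
    exact sub_eq_zero.1 ((smul_eq_zero.1 h4).resolve_right hu0)
  have hε1 : ε = -1 := eps_eq h3 hα h01 h02 h12 hfix hu0 huR hw10 hε2
  have anti : ∀ {i j : α}, i ≠ j → w ρ (a 0) (a 1) u j i = - w ρ (a 0) (a 1) u i j := by
    intro i j hij
    rw [w_symm hα h01 hfix hw10 hij, hε1, neg_one_smul]
  have rel : ∀ {i j k : α}, i ≠ j → i ≠ k → j ≠ k →
      w ρ (a 0) (a 1) u i j + w ρ (a 0) (a 1) u j k + w ρ (a 0) (a 1) u k i = 0 :=
    fun hij hik hjk => w_rel hα h01 hfix h02 h12 huR hij hik hjk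
  have add : ∀ {i j k : α}, i ≠ j → i ≠ k → j ≠ k →
      w ρ (a 0) (a 1) u i j + w ρ (a 0) (a 1) u j k = w ρ (a 0) (a 1) u i k := by
    intro i j k hij hik hjk
    have h1 := rel hij hik hjk
    rw [anti hik] at h1
    exact sub_eq_zero.1 (by rw [← sub_eq_add_neg] at h1; exact h1)
  -- the seven-cycle
  have hpow : ∀ m : ℕ, ∀ i : Fin 7, ((x ^ m : alternatingGroup α) : Perm α) (a i) = a (i + Fin.ofNat 7 m) := by
    intro m
    induction m with
    | zero => intro i; simp only [_root_.pow_zero, _root_.OneMemClass.coe_one, _root_.Equiv.Perm.coe_one, _root_.id_eq, _root_.Fin.ofNat_eq_cast, _root_.Fin.natCast_zero, _root_.Fin.isValue, _root_.add_zero]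
    | succ m ih =>
      intro i
      rw [pow_succ']
      show (x : Perm α) (((x ^ m : alternatingGroup α) : Perm α) (a i)) = _
      have e : Fin.ofNat 7 (m + 1) = Fin.ofNat 7 m + 1 := by
        apply Fin.ext
        simp [Fin.ofNat, Fin.val_add]
      rw [ih, hx, e, add_assoc]
  have hv : ∀ m : ℕ, (ρ x ^ m) u = w ρ (a 0) (a 1) u (a (Fin.ofNat 7 m)) (a (Fin.ofNat 7 m + 1)) := by
    intro m
    rw [← map_pow, w_eq hfix, hpow, hpow]
    congr 2
    · rw [zero_add]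
    · rw [add_comm]
  have hN : (∑ i ∈ Finset.range 7, ρ x ^ i) u = 0 := by
    rw [LinearMap.sum_apply, Finset.sum_congr rfl fun m _ => hv m]
    simp only [Finset.sum_range_succ, Finset.sum_range_zero, zero_add]
    have c0 : Fin.ofNat 7 0 = 0 := by decide
    have c1 : Fin.ofNat 7 1 = 1 := by decide
    have c2 : Fin.ofNat 7 2 = 2 := by decide
    have c3 : Fin.ofNat 7 3 = 3 := by decide
    have c4 : Fin.ofNat 7 4 = 4 := by decide
    have c5 : Fin.ofNat 7 5 = 5 := by decide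
    have c6 : Fin.ofNat 7 6 = 6 := by decide
    rw [c0, c1, c2, c3, c4, c5, c6, show (0 : Fin 7) + 1 = 1 by decide, show (1 : Fin 7) + 1 = 2 by decide,
      show (2 : Fin 7) + 1 = 3 by decide, show (3 : Fin 7) + 1 = 4 by decide, show (4 : Fin 7) + 1 = 5 by decide,
      show (5 : Fin 7) + 1 = 6 by decide, show (6 : Fin 7) + 1 = 0 by decide]
    rw [add h01 h02 h12, add h02 h03 h23, add h03 (ne (by decide)) (ne (by decide)),
      add (ne (by decide)) (ne (by decide)) (ne (by decide)), add (ne (by decide)) (ne (by decide)) (ne (by decide)),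
      anti (ne (by decide)), neg_add_cancel]
  set N := ∑ i ∈ Finset.range 7, ρ x ^ i with hNdef
  have hker := ker_norm_le (X := ρ x) (Z := ρ z) (Z' := ρ z⁻¹) h7 h5 (by rw [← map_pow, hx7, map_one])
    (by rw [← map_mul, inv_mul_cancel, map_one]) (by rw [← map_mul, ← map_mul, hz, map_pow])
  have hNx : ∀ v, N (ρ x v) = ρ x (N v) := by
    intro v
    have : Commute N (ρ x) := by
      rw [hNdef]
      exact Commute.sum_left _ _ _ fun i _ => (Commute.refl (ρ x)).pow_left i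
    exact congrArg (fun f : Module.End K V => f v) this.eq
  -- `R (0 1 2) ≤ ker N`
  have hTu : ρ (C (a 0) (a 1) (a 2)) u = ρ x u := by
    rw [w_eq hfix, w_eq hfix x, C_val h01 h12, c_apply_fst h01 h02, c_apply_snd h02 h12, hx, hx]
    rfl
  have hRN : R (ρ (C (a 0) (a 1) (a 2))) ≤ LinearMap.ker N := by
    set S := R (ρ (C (a 0) (a 1) (a 2))) ⊓ LinearMap.ker N with hS
    have hSle : finrank K S ≤ 2 := by
      rw [← hR h01 h02 h12]
      exact Submodule.finrank_mono inf_le_left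
    have huS : u ∈ S := ⟨huR, by rw [SetLike.mem_coe, LinearMap.mem_ker]; exact hN⟩
    have hTuS : ρ (C (a 0) (a 1) (a 2)) u ∈ S := by
      refine ⟨((C_mem_stab_R ρ h01 h02 h12) u).2 huR, ?_⟩
      rw [SetLike.mem_coe, LinearMap.mem_ker, hTu, hNx, hN, map_zero]
    have hne1 : finrank K S ≠ 1 := by
      intro h1
      obtain ⟨c', hc', hsp⟩ := finrank_eq_one_iff'.1 h1
      obtain ⟨d, hd⟩ := hsp ⟨u, huS⟩
      have hd' : d • (c' : V) = u := congrArg Subtype.val hd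
      have hd0 : d ≠ 0 := by
        rintro rfl
        rw [zero_smul] at hd'
        exact hu0 hd'.symm
      have hS' : ∀ v ∈ S, ∃ e : K, v = e • u := by
        intro v hv
        obtain ⟨e, he⟩ := hsp ⟨v, hv⟩
        refine ⟨e * d⁻¹, ?_⟩
        rw [← hd', smul_smul, mul_assoc, inv_mul_cancel₀ hd0, mul_one]
        exact (congrArg Subtype.val he).symm
      have h34 : a 3 ≠ a 4 := ne (by decide)
      have h04 : a 0 ≠ a 4 := ne (by decide)
      have h14 : a 1 ≠ a 4 := ne (by decide)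
      have h24 : a 2 ≠ a 4 := ne (by decide)
      refine no_line h3 (inj ρ (D (a 0) (a 1) (a 3) (a 4))) (swap_rel ρ h01 h02 h12 (D_fst h01 h34 h03 h04)
        (D_snd h01 h34 h13 h14) (D_of_ne h01 h34 h02.symm h12.symm h23 h24)) h1 ?_ ?_ inf_le_left
      · intro v hv
        obtain ⟨e, rfl⟩ := hS' v hv
        rw [map_smul]
        exact S.smul_mem _ hTuS
      · intro v hv
        obtain ⟨e, rfl⟩ := hS' v hv
        rw [map_smul]
        apply S.smul_mem
        rw [w_eq hfix, D_fst h01 h34 h03 h04, D_snd h01 h34 h13 h14, hw10]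
        exact S.smul_mem _ huS
    have hpos : 0 < finrank K S := by
      rw [Nat.pos_iff_ne_zero]
      intro h0
      have := Submodule.finrank_eq_zero.1 h0
      rw [this, Submodule.mem_bot] at huS
      exact hu0 huS
    have hSeq : S = R (ρ (C (a 0) (a 1) (a 2))) :=
      Submodule.eq_of_le_of_finrank_le inf_le_left (by rw [hR h01 h02 h12]; omega)
    rw [← hSeq]
    exact inf_le_right
  have h34 : a 3 ≠ a 4 := ne (by decide)
  have h35 : a 3 ≠ a 5 := ne (by decide)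
  have h45 : a 4 ≠ a 5 := ne (by decide)
  have hRN2 : R (ρ (C (a 3) (a 4) (a 5))) ≤ LinearMap.ker N := by
    have hNx3 : ∀ v, N (ρ (x ^ 3) v) = ρ (x ^ 3) (N v) := by
      intro v
      rw [pow_succ, pow_two, ρ_mul_apply, ρ_mul_apply, ρ_mul_apply, ρ_mul_apply, hNx, hNx, hNx]
    intro v hv
    have e1 : x ^ 3 * C (a 0) (a 1) (a 2) * (x ^ 3)⁻¹ = C (a 3) (a 4) (a 5) := by
      rw [C_conj (x ^ 3) h01 h12, hpow, hpow, hpow]
      rfl
    rw [← e1, ← R_map ρ (x ^ 3)] at hv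
    obtain ⟨v', hv', rfl⟩ := hv
    rw [LinearMap.mem_ker, hNx3]
    have := LinearMap.mem_ker.1 (hRN hv')
    rw [this, map_zero]
  have hinf : R (ρ (C (a 0) (a 1) (a 2))) ⊓ R (ρ (C (a 3) (a 4) (a 5))) = ⊥ := by
    rw [eq_bot_iff, ← F_inf_R h3 (ρ (C (a 3) (a 4) (a 5)))]
    exact inf_le_inf_right _ (hle S3)
  have e1 := Submodule.finrank_sup_add_finrank_inf_eq (R (ρ (C (a 0) (a 1) (a 2)))) (R (ρ (C (a 3) (a 4) (a 5))))
  rw [hinf, finrank_bot, hR h01 h02 h12, hR h34 h35 h45] at e1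
  have e2 := Submodule.finrank_mono (sup_le hRN hRN2)
  rw [← hNdef] at hker
  omega

end Cfsg.Agent.H180.AltFive
end

-- part: H180/AltFiveThree
section
/-!
# `A₇` has no irreducible representation of degree 5 in characteristic 3
-/

set_option autoImplicit false
set_option linter.unusedSectionVars false
set_option linter.unusedVariables false

namespace Cfsg.Agent.H180.AltFive

open Equiv Equiv.Perm Module
open Cfsg.Agent.H911 (Irr ρ_mul_apply ρ_inv_apply ρ_apply_inv)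

variable {K : Type*} [Field K] {V : Type*} [AddCommGroup V] [Module K V]

/-- the `-1` space -/
def G (T : Module.End K V) : Submodule K V := LinearMap.ker (T + 1)

theorem mem_G {T : Module.End K V} {v : V} : v ∈ G T ↔ T v = -v := by
  unfold G
  rw [LinearMap.mem_ker, LinearMap.add_apply, Module.End.one_apply, add_eq_zero_iff_eq_neg]

theorem split [FiniteDimensional K V] (h2 : (2 : K) ≠ 0) {J : Module.End K V} (hJ : ∀ v, J (J v) = v)
    {W : Submodule K V} (hW : ∀ v ∈ W, J v ∈ W) :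
    finrank K (W ⊓ F J : Submodule K V) + finrank K (W ⊓ G J : Submodule K V) = finrank K W := by
  have h1 : (W ⊓ F J) ⊔ (W ⊓ G J) = W := by
    apply le_antisymm (sup_le inf_le_left inf_le_left)
    intro v hv
    have e : v = (2 : K)⁻¹ • (v + J v) + (2 : K)⁻¹ • (v - J v) := by
      rw [← smul_add, add_add_sub_cancel, ← two_smul K v, smul_smul, inv_mul_cancel₀ h2, one_smul]
    rw [e]
    refine Submodule.add_mem_sup ⟨W.smul_mem _ (W.add_mem hv (hW _ hv)), mem_F.2 ?_⟩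
      ⟨W.smul_mem _ (W.sub_mem hv (hW _ hv)), mem_G.2 ?_⟩
    · rw [map_smul, map_add, hJ, add_comm]
    · rw [map_smul, map_sub, hJ, ← smul_neg, neg_sub]
  have h0 : (W ⊓ F J) ⊓ (W ⊓ G J) = ⊥ := by
    rw [eq_bot_iff]
    rintro v ⟨⟨-, h3⟩, -, h4⟩
    rw [SetLike.mem_coe, mem_F] at h3
    rw [SetLike.mem_coe, mem_G, h3] at h4
    rw [Submodule.mem_bot]
    have : (2 : K) • v = 0 := by
      rw [two_smul]
      nth_rewrite 1 [h4]
      exact neg_add_cancel v
    exact (smul_eq_zero.1 this).resolve_left h2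
  have := Submodule.finrank_sup_add_finrank_inf_eq (W ⊓ F J) (W ⊓ G J)
  rw [h1, h0, finrank_bot, add_zero] at this
  exact this.symm

theorem finrank_le_maps [FiniteDimensional K V] {T : Module.End K V} (hT : Function.Injective T)
    {W W' : Submodule K V} (h : ∀ v ∈ W, T v ∈ W') : finrank K W ≤ finrank K W' := by
  have h1 : W.map T ≤ W' := by
    rintro _ ⟨v, hv, rfl⟩
    exact h v hv
  rw [(Submodule.equivMapOfInjective T hT W).finrank_eq]
  exact Submodule.finrank_mono h1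

theorem exists_fix [FiniteDimensional K V] (h3 : (3 : K) = 0) {S : Module.End K V} (hS : ∀ v, S (S (S v)) = v)
    {W : Submodule K V} (hW : ∀ v ∈ W, S v ∈ W) (h0 : 0 < finrank K W) :
    0 < finrank K (F S ⊓ W : Submodule K V) := by
  have key : ∃ v ∈ W, v ≠ 0 ∧ S v = v := by
    have hne : W ≠ ⊥ := by
      rintro rfl
      rw [finrank_bot] at h0
      exact lt_irrefl _ h0
    obtain ⟨v, hv, hv0⟩ := (Submodule.ne_bot_iff W).1 hne
    by_cases h1 : S v = v
    · exact ⟨v, hv, hv0, h1⟩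
    have hv1 : S v - v ∈ W := W.sub_mem (hW _ hv) hv
    by_cases h2 : S (S v - v) = S v - v
    · exact ⟨_, hv1, sub_ne_zero.2 h1, h2⟩
    refine ⟨S (S v - v) - (S v - v), W.sub_mem (hW _ hv1) hv1, sub_ne_zero.2 h2, ?_⟩
    have e : S (S (S v - v) - (S v - v)) - (S (S v - v) - (S v - v)) = (3 : K) • (S v - S (S v)) := by
      rw [← three_smul' (K := K)]
      simp only [map_sub, hS]
      abel
    rw [h3, zero_smul] at e
    exact sub_eq_zero.1 e
  obtain ⟨v, hv, hv0, h⟩ := key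
  rw [Nat.pos_iff_ne_zero]
  intro h4
  have h5 := Submodule.finrank_eq_zero.1 h4
  have h6 : v ∈ F S ⊓ W := ⟨mem_F.2 h, hv⟩
  rw [h5, Submodule.mem_bot] at h6
  exact hv0 h6

theorem four_le [FiniteDimensional K V] (h2 : (2 : K) ≠ 0) (h3 : (3 : K) = 0) (h5 : finrank K V = 5)
    {A B T S : Module.End K V} (hA : ∀ v, A (A v) = v) (hB : ∀ v, B (B v) = v) (hAB : ∀ v, A (B v) = B (A v))
    (hT : Function.Injective T) (hTA : ∀ v, T (A v) = B (T v)) (hTB : ∀ v, T (B v) = A (B (T v)))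
    (hA1 : A ≠ 1) (hSA : ∀ v, S (A v) = A (S v)) (hSB : ∀ v, S (B v) = B (S v)) (hS : ∀ v, S (S (S v)) = v) :
    4 ≤ finrank K (F S) := by
  have d1 : finrank K (F A ⊓ G B : Submodule K V) ≤ finrank K (G A ⊓ F B : Submodule K V) := by
    apply finrank_le_maps hT
    rintro v ⟨h, h'⟩
    rw [SetLike.mem_coe, mem_F] at h
    rw [SetLike.mem_coe, mem_G] at h'
    have e1 : B (T v) = T v := by rw [← hTA, h]
    have e2 : A (T v) = - T v := by
      conv_lhs => rw [← e1]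
      rw [← hTB, h', map_neg]
    exact ⟨mem_G.2 e2, mem_F.2 e1⟩
  have d2 : finrank K (G A ⊓ F B : Submodule K V) ≤ finrank K (G A ⊓ G B : Submodule K V) := by
    apply finrank_le_maps hT
    rintro v ⟨h, h'⟩
    rw [SetLike.mem_coe, mem_G] at h
    rw [SetLike.mem_coe, mem_F] at h'
    have e1 : B (T v) = - T v := by rw [← hTA, h, map_neg]
    have e2 : A (T v) = - T v := by
      have e3 := hTB v
      rw [h', e1, map_neg] at e3
      exact eq_neg_of_add_eq_zero_left (by rw [add_comm]; nth_rewrite 1 [e3]; exact neg_add_cancel _)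
    exact ⟨mem_G.2 e2, mem_G.2 e1⟩
  have d3 : finrank K (G A ⊓ G B : Submodule K V) ≤ finrank K (F A ⊓ G B : Submodule K V) := by
    apply finrank_le_maps hT
    rintro v ⟨h, h'⟩
    rw [SetLike.mem_coe, mem_G] at h
    rw [SetLike.mem_coe, mem_G] at h'
    have e1 : B (T v) = - T v := by rw [← hTA, h, map_neg]
    have e2 : A (T v) = T v := by
      have e3 := hTB v
      rw [h', e1, map_neg, map_neg] at e3
      exact (neg_inj.1 e3).symm
    exact ⟨mem_F.2 e2, mem_G.2 e1⟩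
  have s1 := split h2 hA (W := ⊤) (fun _ _ => trivial)
  rw [top_inf_eq, top_inf_eq, finrank_top, h5] at s1
  have s2 := split h2 hB (W := F A) (fun v hv => mem_F.2 (by rw [hAB, mem_F.1 hv]))
  have s3 := split h2 hB (W := G A) (fun v hv => mem_G.2 (by rw [hAB, mem_G.1 hv, map_neg]))
  have hpos : 0 < finrank K (G A) := by
    rw [Nat.pos_iff_ne_zero]
    intro h
    apply hA1
    have h1 := Submodule.finrank_eq_zero.1 h
    ext v
    have h4 : A v - v ∈ G A := by
      rw [mem_G, map_sub, hA, neg_sub]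
    rw [h1, Submodule.mem_bot] at h4
    exact sub_eq_zero.1 h4
  have t1 := split h2 hA (W := F S) (fun v hv => mem_F.2 (by rw [hSA, mem_F.1 hv]))
  have t2 := split h2 hB (W := F S ⊓ F A) (fun v hv => ⟨mem_F.2 (by rw [hSB, mem_F.1 hv.1]),
    mem_F.2 (by rw [hAB, mem_F.1 hv.2])⟩)
  have t3 := split h2 hB (W := F S ⊓ G A) (fun v hv => ⟨mem_F.2 (by rw [hSB, mem_F.1 hv.1]),
    mem_G.2 (by rw [hAB, mem_G.1 hv.2, map_neg])⟩)
  rw [inf_assoc, inf_assoc] at t2 t3
  have f00 := exists_fix h3 hS (W := F A ⊓ F B) (fun v hv => ⟨mem_F.2 (by rw [← hSA, mem_F.1 hv.1]),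
    mem_F.2 (by rw [← hSB, mem_F.1 hv.2])⟩) (by omega)
  have f01 := exists_fix h3 hS (W := F A ⊓ G B) (fun v hv => ⟨mem_F.2 (by rw [← hSA, mem_F.1 hv.1]),
    mem_G.2 (by rw [← hSB, mem_G.1 hv.2, map_neg])⟩) (by omega)
  have f10 := exists_fix h3 hS (W := G A ⊓ F B) (fun v hv => ⟨mem_G.2 (by rw [← hSA, mem_G.1 hv.1, map_neg]),
    mem_F.2 (by rw [← hSB, mem_F.1 hv.2])⟩) (by omega)
  have f11 := exists_fix h3 hS (W := G A ⊓ G B) (fun v hv => ⟨mem_G.2 (by rw [← hSA, mem_G.1 hv.1, map_neg]),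
    mem_G.2 (by rw [← hSB, mem_G.1 hv.2, map_neg])⟩) (by omega)
  omega

section

abbrev A7 := alternatingGroup (Fin 7)

theorem g1 : (D 0 1 3 4 : A7) = C 2 3 4 * D 0 1 2 3 * (C 2 3 4)⁻¹ := by decide
theorem g2 : (C 2 3 4 : A7) = D 0 1 2 3 * D 0 1 3 4 := by decide
theorem g3 : (D 0 1 2 3 * D 0 1 2 3 : A7) = 1 := by decide
theorem g4 : (D 1 2 0 3 * D 1 2 0 3 : A7) = 1 := by decide
theorem g5 : (D 0 1 2 3 * D 1 2 0 3 : A7) = D 1 2 0 3 * D 0 1 2 3 := by decide
theorem g6 : (C 0 1 2 * D 0 1 2 3 : A7) = D 1 2 0 3 * C 0 1 2 := by decide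
theorem g7 : (C 0 1 2 * D 1 2 0 3 : A7) = D 0 1 2 3 * D 1 2 0 3 * C 0 1 2 := by decide +kernel
theorem g8 : (C 4 5 6 * D 0 1 2 3 : A7) = D 0 1 2 3 * C 4 5 6 := by decide
theorem g9 : (C 4 5 6 * D 1 2 0 3 : A7) = D 1 2 0 3 * C 4 5 6 := by decide
theorem g10 : C 2 3 4 * C 0 1 2 * (C 2 3 4)⁻¹ = (C 0 1 3 : A7) := by decide
theorem g11 : C 2 3 4 * C 0 1 3 * (C 2 3 4)⁻¹ = (C 0 1 4 : A7) := by decide
theorem g12 : C 4 5 6 * C 0 1 4 * (C 4 5 6)⁻¹ = (C 0 1 5 : A7) := by decide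
theorem g13 : C 4 5 6 * C 0 1 5 * (C 4 5 6)⁻¹ = (C 0 1 6 : A7) := by decide

end

theorem key_three [FiniteDimensional K V] (h2 : (2 : K) ≠ 0) (h3 : (3 : K) = 0) (h5 : finrank K V = 5)
    {ρ : A7 →* Module.End K V} (hirr : Irr ρ) : 4 ≤ finrank K (F (ρ (C 4 5 6))) := by
  have hα : 5 ≤ Fintype.card (Fin 7) := by rw [Fintype.card_fin]; norm_num
  have rel : ∀ {g h k l : A7}, g * h = k * l → ∀ v, ρ g (ρ h v) = ρ k (ρ l v) := by
    intro g h k l e v
    rw [← ρ_mul_apply, ← ρ_mul_apply, e]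
  have rel1 : ∀ {g : A7}, g * g = 1 → ∀ v, ρ g (ρ g v) = v := by
    intro g e v
    rw [← ρ_mul_apply, e, map_one]
    rfl
  have c1 : ρ (C 2 3 4) ≠ 1 := ne_one hirr hα (by omega) (by decide) (by decide) (by decide)
  have hA1 : ρ (D 0 1 2 3) ≠ 1 := by
    intro h
    apply c1
    rw [g2, map_mul, g1, map_mul, map_mul, h, mul_one, one_mul, ← map_mul, mul_inv_cancel, map_one]
  refine four_le h2 h3 h5 (A := ρ (D 0 1 2 3)) (B := ρ (D 1 2 0 3)) (T := ρ (C 0 1 2)) (rel1 g3) (rel1 g4) (rel g5)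
    (inj ρ _) (rel g6) ?_ hA1 (rel g8) (rel g9) (cube ρ (by decide) (by decide) (by decide))
  intro v
  rw [← ρ_mul_apply, g7, ρ_mul_apply, ρ_mul_apply]

/-- characteristic 3 -/
theorem main_three [FiniteDimensional K V] (h3 : (3 : K) = 0) (h5 : finrank K V = 5)
    {ρ : A7 →* Module.End K V} (hirr : Irr ρ) : False := by
  have h2 : (2 : K) ≠ 0 := by
    intro h
    have h1 : (1 : K) = 0 := by
      have : (1 : K) = 3 - 2 := by norm_num
      rw [this, h3, h, sub_zero]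
    exact one_ne_zero h1
  have hα : 5 ≤ Fintype.card (Fin 7) := by rw [Fintype.card_fin]; norm_num
  have key := key_three h2 h3 h5 hirr
  have k2 : 4 ≤ finrank K (F (ρ (C 0 1 2))) := by
    rw [finrank_F_eq ρ hα (i := 4) (j := 5) (k := 6) (by decide) (by decide) (by decide) (by decide) (by decide)
      (by decide)]
    exact key
  have k3 : 4 ≤ finrank K (F (ρ (C 2 3 4))) := by
    rw [finrank_F_eq ρ hα (i := 4) (j := 5) (k := 6) (by decide) (by decide) (by decide) (by decide) (by decide)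
      (by decide)]
    exact key
  have e1 := Submodule.finrank_sup_add_finrank_inf_eq (F (ρ (C 0 1 2))) (F (ρ (C 2 3 4)))
  have e2 := Submodule.finrank_le (F (ρ (C 0 1 2)) ⊔ F (ρ (C 2 3 4)))
  have e3 := Submodule.finrank_sup_add_finrank_inf_eq (F (ρ (C 0 1 2)) ⊓ F (ρ (C 2 3 4))) (F (ρ (C 4 5 6)))
  have e4 := Submodule.finrank_le (F (ρ (C 0 1 2)) ⊓ F (ρ (C 2 3 4)) ⊔ F (ρ (C 4 5 6)))
  have e5 : 0 < finrank K (F (ρ (C 0 1 2)) ⊓ F (ρ (C 2 3 4)) ⊓ F (ρ (C 4 5 6)) : Submodule K V) := by omega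
  have e6 : F (ρ (C 0 1 2)) ⊓ F (ρ (C 2 3 4)) ⊓ F (ρ (C 4 5 6)) ≠ ⊥ := by
    intro h
    rw [h, finrank_bot] at e5
    exact lt_irrefl _ e5
  obtain ⟨v, ⟨⟨v1, v2⟩, v3⟩, hv0⟩ := (Submodule.ne_bot_iff _).1 e6
  rw [SetLike.mem_coe, mem_F] at v1 v2 v3
  have m1 : C 0 1 2 ∈ stabv ρ v := v1
  have m2 : C 2 3 4 ∈ stabv ρ v := v2
  have m3 : C 4 5 6 ∈ stabv ρ v := v3
  have hconj : ∀ g ∈ stabv ρ v, ∀ x ∈ stabv ρ v, g * x * g⁻¹ ∈ stabv ρ v := fun g hg x hx =>
    (stabv ρ v).mul_mem ((stabv ρ v).mul_mem hg hx) ((stabv ρ v).inv_mem hg)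
  have m4 : C 0 1 3 ∈ stabv ρ v := by
    have := hconj _ m2 _ m1
    rwa [g10] at this
  have m5 : C 0 1 4 ∈ stabv ρ v := by
    have := hconj _ m2 _ m4
    rwa [g11] at this
  have m6 : C 0 1 5 ∈ stabv ρ v := by
    have := hconj _ m3 _ m5
    rwa [g12] at this
  have m7 : C 0 1 6 ∈ stabv ρ v := by
    have := hconj _ m3 _ m6
    rwa [g13] at this
  refine false_of_stabv hirr (by omega) hv0 (eq_top_of_pair _ (a := 0) (b := 1) (by decide) ?_)
  intro k hk0 hk1
  fin_cases k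
  · exact absurd rfl hk0
  · exact absurd rfl hk1
  · exact m1
  · exact m4
  · exact m5
  · exact m6
  · exact m7

end Cfsg.Agent.H180.AltFive
end

-- part: H180/AltFiveFinal
section
/-!
# `A₇` (characteristic not 7) and `A₈` (characteristic 2) have no irreducible representation of degree 5

`Cfsg.Agent.H180.alt_five` (task 174).
-/

set_option autoImplicit false

namespace Cfsg.Agent.H180.AltFive

open Equiv Equiv.Perm Module

/-- the 7-cycle -/
def x7 : alternatingGroup (Fin 7) := C 0 1 2 * C 2 3 4 * C 4 5 6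
/-- the multiplier -/
def z7 : alternatingGroup (Fin 7) := C 1 2 4 * C 3 6 5
/-- the 7-cycle -/
def x8 : alternatingGroup (Fin 8) := C 0 1 2 * C 2 3 4 * C 4 5 6
/-- the multiplier -/
def z8 : alternatingGroup (Fin 8) := C 1 2 4 * C 3 6 5
/-- the inclusion -/
def a8 (i : Fin 7) : Fin 8 := i.castSucc

theorem a8_inj : Function.Injective a8 := Fin.castSucc_injective 7

theorem x7_apply : ∀ i : Fin 7, (x7 : Perm (Fin 7)) (id i) = id (i + 1) := by decide
set_option maxRecDepth 100000 in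
theorem x7_pow : x7 ^ 7 = 1 := by decide +kernel
theorem z7_conj : z7 * x7 * z7⁻¹ = x7 ^ 2 := by decide +kernel
theorem x8_apply : ∀ i : Fin 7, (x8 : Perm (Fin 8)) (a8 i) = a8 (i + 1) := by decide
set_option maxRecDepth 100000 in
theorem x8_pow : x8 ^ 7 = 1 := by decide +kernel
theorem z8_conj : z8 * x8 * z8⁻¹ = x8 ^ 2 := by decide +kernel

end Cfsg.Agent.H180.AltFive

namespace Cfsg.Agent.H180

open AltFive in
/-- **task 174** -/
theorem alt_five {n : ℕ} (hn : n = 7 ∨ n = 8) {K : Type*} [Field K] [IsAlgClosed K] {V : Type*} [AddCommGroup V] [Module K V]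
    [FiniteDimensional K V] (h7 : (7 : K) ≠ 0) (hp : n = 7 ∨ (2 : K) = 0) (ρ : alternatingGroup (Fin n) →* Module.End K V)
    (hirr : Cfsg.Agent.H911.Irr ρ) (h5 : Module.finrank K V = 5) : False := by
  rcases hn with rfl | rfl
  · by_cases h3 : (3 : K) = 0
    · exact main_three h3 h5 hirr
    · exact main h3 h7 h5 hirr (by rw [Fintype.card_fin]) id Function.injective_id x7 z7 x7_apply x7_pow z7_conj
  · have h2 : (2 : K) = 0 := hp.resolve_left (by decide)
    have h3 : (3 : K) ≠ 0 := by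
      intro h3
      have h1 : (1 : K) = 0 := by
        have : (1 : K) = 3 - 2 := by norm_num
        rw [this, h3, h2, sub_zero]
      exact one_ne_zero h1
    exact main h3 h7 h5 hirr (by rw [Fintype.card_fin]; norm_num) a8 a8_inj x8 z8 x8_apply x8_pow z8_conj

end Cfsg.Agent.H180
end

-- part: H911/End5
section
/-!
# Residual cores in dimension five: the end analysis (helper911)
-/

set_option autoImplicit false
set_option linter.unusedSectionVars false

namespace Cfsg.Agent.H911.End5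

open Cfsg Cfsg.Geo Matrix
open scoped MatrixGroups

variable {F : Type*} [Field F] [Finite F] {H P : Subgroup (GL (Fin 5) F)}

/-- `P` fixes a non-degenerate quadratic form. -/
def Quad (P : Subgroup (GL (Fin 5) F)) : Prop :=
  ∃ Q : (Fin 5 → F) → F, IsNondegenerateQuadraticForm Q ∧ FixesQuadForm (matrixSet P) Q

/-- `P` fixes a unitary form. -/
def Unit (P : Subgroup (GL (Fin 5) F)) : Prop :=
  ∃ (σ : F ≃+* F) (f : (Fin 5 → F) → (Fin 5 → F) → F), IsUnitaryForm σ f ∧ FixesForm (matrixSet P) f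

theorem card_le_of_pow (p : ℕ) [hp : Fact p.Prime] {k : ℕ} (hk : k ≠ 0) (h : ∀ x : F, x ^ p ^ k = x) :
    Nat.card F ≤ p ^ k := by
  classical
  have := Fintype.ofFinite F
  rw [Nat.card_eq_fintype_card]
  have hlt : 1 < p ^ k := Nat.one_lt_pow hk hp.out.one_lt
  have h1 := FiniteField.X_pow_card_sub_X_natDegree_eq F hlt
  have h2 : (Polynomial.X ^ p ^ k - Polynomial.X : Polynomial F) ≠ 0 := by
    intro h0
    rw [h0, Polynomial.natDegree_zero] at h1
    omega
  have h4 : (Finset.univ : Finset F).val ≤ (Polynomial.X ^ p ^ k - Polynomial.X : Polynomial F).roots := by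
    rw [Finset.val_le_iff_val_subset]
    intro x _
    rw [Polynomial.mem_roots h2]
    simp [h x]
  have h5 := Multiset.card_le_card h4
  exact h5.trans ((Polynomial.card_roots' _).trans h1.le)

theorem card_p (p : ℕ) [hp : Fact p.Prime] [CharP F p] (h : ∀ x : F, x ^ p ^ 1 = x) : Nat.card F = p := by
  have := Fintype.ofFinite F
  rw [Nat.card_eq_fintype_card]
  exact Five.card_eq_of_pow p (fun x => by have := h x; rwa [pow_one] at this)

theorem card_p2 (p : ℕ) [hp : Fact p.Prime] [CharP F p] (h : ∀ x : F, x ^ p ^ (2 * 1) = x)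
    (h1 : ¬ ∀ x : F, x ^ p ^ 1 = x) : Nat.card F = p ^ 2 := by
  have := Fintype.ofFinite F
  have h2 := card_le_of_pow p (by norm_num) h
  rw [Nat.card_eq_fintype_card] at h2 ⊢
  obtain ⟨n, hpr, hn⟩ := FiniteField.card F p
  rw [hn] at h2 ⊢
  have h3 : (n : ℕ) ≤ 2 := (Nat.pow_le_pow_iff_right hp.out.one_lt).1 h2
  have h4 : (n : ℕ) ≠ 1 := by
    intro h4
    apply h1
    intro x
    have h5 := FiniteField.pow_card x
    rwa [hn, h4] at h5
  have h5 := n.pos
  have h6 : (n : ℕ) = 2 := by omega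
  rw [h6]

theorem end_lin (hc : IsResidualCore H P) (p : ℕ) [hp : Fact p.Prime] [CharP F p]
    (h : ∀ g : P, (((g : GL (Fin 5) F) : Matrix (Fin 5) (Fin 5) F).trace) ^ p ^ 1 =
      ((g : GL (Fin 5) F) : Matrix (Fin 5) (Fin 5) F).trace) : Nat.card F = p :=
  card_p p (Five.pow_eq_of_trace hc.absIrred hc.no_subfield p 1 h)

theorem end_unit (hc : IsResidualCore H P) (p : ℕ) [hp : Fact p.Prime] [CharP F p]
    (h : ∀ g : P, (((g : GL (Fin 5) F) : Matrix (Fin 5) (Fin 5) F).trace) ^ p ^ 1 =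
      ((((g : P)⁻¹ : P) : GL (Fin 5) F) : Matrix (Fin 5) (Fin 5) F).trace) :
    Quad P ∨ (Nat.card F = p ^ 2 ∧ Unit P) := by
  rcases Five.form_of_trace (by rw [Fintype.card_fin]; decide) (by rw [Fintype.card_fin]; decide) hc.absIrred
    hc.no_subfield p 1 h with h1 | ⟨h1, h2, h3⟩
  · exact Or.inl h1
  · exact Or.inr ⟨card_p2 p h1 h2, h3⟩

theorem end_real (hc : IsResidualCore H P) (p : ℕ) [hp : Fact p.Prime] [CharP F p]
    (h : ∀ g : P, ¬ p ∣ orderOf g → IsConj g g⁻¹) : Quad P := by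
  refine OddForm.quad_of_real (by rw [Fintype.card_fin]; decide) (by rw [Fintype.card_fin]; decide) hc.absIrred ?_
  intro g hg
  have key := Five.trace_reg (P := P) p (RingHom.id F) (fun g => g⁻¹) (fun g k => ((inv_pow g k).symm :))
    (fun g hg => by
      rw [RingHom.id_apply]
      exact Five.trace_conj (h g hg)) ⟨g, hg⟩
  exact key.symm

theorem conj_of_equiv {T : Type*} [Group T] (f : P ≃* T) {a b : P} (h : IsConj (f a) (f b)) : IsConj a b := by
  have := f.symm.toMonoidHom.map_isConj h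
  simpa only [_root_.isConj_iff, _root_.Subtype.exists, _root_.MulEquiv.toMonoidHom_eq_coe, _root_.MonoidHom.coe_coe, _root_.MulEquiv.symm_apply_apply] using this

theorem core_equiv {T : Type*} [Group T] (hc : IsResidualCore H P)
    (e : (P ⧸ (scalars (Fin 5) F).subgroupOf P) ≃* T) (h25 : ¬ 25 ∣ Nat.card T) : Nonempty (P ≃* T) :=
  ⟨(Five.coreEquiv hc (by rwa [Nat.card_congr e.toEquiv])).trans e⟩

theorem irr_comp {L : Type*} [Group L] {T : Type*} [Group T] {K : Type*} [Field K] {V : Type*} [AddCommGroup V]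
    [Module K V] {ρ : T →* Module.End K V} (hρ : Irr ρ) (f : L →* T) (hf : Function.Surjective f) : Irr (ρ.comp f) := by
  intro W hW
  refine hρ W fun g w hw => ?_
  obtain ⟨l, rfl⟩ := hf g
  exact hW l w hw

theorem seven_ne {p : ℕ} [hp : Fact p.Prime] [CharP F p] (h7 : p ≠ 7) : (7 : AlgebraicClosure F) ≠ 0 := by
  have hCP : CharP (AlgebraicClosure F) p := charP_of_injective_algebraMap (algebraMap F (AlgebraicClosure F)).injective p
  intro h0
  have h1 : ((7 : ℕ) : AlgebraicClosure F) = 0 := by exact_mod_cast h0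
  rw [CharP.cast_eq_zero_iff (AlgebraicClosure F) p] at h1
  exact h7 ((Nat.prime_dvd_prime_iff_eq hp.out (by norm_num)).1 h1)

/-- `A_5` and `A_6`. -/
theorem end_alt56 (hc : IsResidualCore H P) (p : ℕ) [hp : Fact p.Prime] [CharP F p] {n : ℕ} (hn : n = 5 ∨ n = 6)
    (e : (P ⧸ (scalars (Fin 5) F).subgroupOf P) ≃* alternatingGroup (Fin n)) : Quad P := by
  obtain ⟨f⟩ := core_equiv hc e (by
    rcases hn with rfl | rfl
    · rw [nat_card_alternatingGroup, Nat.card_eq_fintype_card, Fintype.card_fin]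
      decide
    · rw [nat_card_alternatingGroup, Nat.card_eq_fintype_card, Fintype.card_fin]
      decide)
  refine end_real hc p fun g _ => conj_of_equiv f ?_
  rw [map_inv]
  exact AltReal.alt_real (by omega) _ (by omega)

/-- `A_7`. -/
theorem end_alt7 (hc : IsResidualCore H P) (p : ℕ) [hp : Fact p.Prime] [CharP F p]
    (e : (P ⧸ (scalars (Fin 5) F).subgroupOf P) ≃* alternatingGroup (Fin 7)) : Quad P := by
  obtain ⟨f⟩ := core_equiv hc e (by
    rw [nat_card_alternatingGroup, Nat.card_eq_fintype_card, Fintype.card_fin]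
    decide)
  by_cases h7 : p = 7
  · refine end_real hc p fun g hg => conj_of_equiv f ?_
    rw [map_inv]
    refine AltReal.alt_real (by omega) _ (fun _ ho => hg ?_)
    rw [f.orderOf_eq] at ho
    rw [ho, h7]
  · exfalso
    exact H180.alt_five (n := 7) (Or.inl rfl) (seven_ne h7) (Or.inl rfl) ((Five.rep P).comp f.symm.toMonoidHom)
      (irr_comp (Five.rep_irr hc.absIrred) _ f.symm.surjective) (by rw [Module.finrank_fin_fun])

/-- `A_8` in characteristic two. -/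
theorem end_alt8 (hc : IsResidualCore H P) (p : ℕ) [hp : Fact p.Prime] [CharP F p] (h2 : p = 2)
    (e : (P ⧸ (scalars (Fin 5) F).subgroupOf P) ≃* alternatingGroup (Fin 8)) : False := by
  obtain ⟨f⟩ := core_equiv hc e (by
    rw [nat_card_alternatingGroup, Nat.card_eq_fintype_card, Fintype.card_fin]
    decide)
  subst h2
  have hCP : CharP (AlgebraicClosure F) 2 := charP_of_injective_algebraMap (algebraMap F (AlgebraicClosure F)).injective 2
  exact H180.alt_five (n := 8) (Or.inr rfl) (seven_ne (p := 2) (by norm_num)) (Or.inr (CharTwo.two_eq_zero))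
    ((Five.rep P).comp f.symm.toMonoidHom)
    (irr_comp (Five.rep_irr hc.absIrred) _ f.symm.surjective) (by rw [Module.finrank_fin_fun])

/-- `L_2(7)`. -/
theorem end_l27 (hc : IsResidualCore H P) (p : ℕ) [hp : Fact p.Prime] [CharP F p]
    (e : (P ⧸ (scalars (Fin 5) F).subgroupOf P) ≃* ProjectiveSpecialLinearGroup (Fin 2) (ZMod 7)) : Quad P := by
  obtain ⟨f⟩ := core_equiv hc e (by
    have h := ClassicalGeometry.PSL2Basic.card_PSL2_odd (F := ZMod 7) (by rw [ZMod.card]; decide)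
    rw [ZMod.card] at h
    have : Nat.card (ProjectiveSpecialLinearGroup (Fin 2) (ZMod 7)) = 168 := by omega
    rw [this]
    decide)
  by_cases h7 : p = 7
  · refine end_real hc p fun g hg => conj_of_equiv f ?_
    rw [map_inv]
    refine SLTwo.real_seven _ (fun ho => hg ?_)
    rw [f.orderOf_eq] at ho
    rw [h7]
    exact ho
  · exfalso
    exact SLTwoSeven.not_irr (seven_ne h7)
      ((Five.rep P).comp (f.symm.toMonoidHom.comp (QuotientGroup.mk' _)))
      (irr_comp (Five.rep_irr hc.absIrred) _ (f.symm.surjective.comp (QuotientGroup.mk'_surjective _)))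
      (by rw [Module.finrank_fin_fun])

/-- `L_2(11)`. -/
theorem end_l211 (hc : IsResidualCore H P) (p : ℕ) [hp : Fact p.Prime] [CharP F p]
    (e : (P ⧸ (scalars (Fin 5) F).subgroupOf P) ≃* ProjectiveSpecialLinearGroup (Fin 2) (ZMod 11)) :
    Quad P ∨
    (Nat.card F = p ^ 2 ∧ Unit P ∧ (p % 11 = 2 ∨ p % 11 = 6 ∨ p % 11 = 7 ∨ p % 11 = 8 ∨ p % 11 = 10)) ∨
    (Nat.card F = p ∧ (p % 11 = 1 ∨ p % 11 = 3 ∨ p % 11 = 4 ∨ p % 11 = 5 ∨ p % 11 = 9)) := by
  obtain ⟨h1, h2⟩ := L211.core_traces hc e p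
  by_cases hr : L211.res p
  · exact Or.inr (Or.inr ⟨end_lin hc p (h1 hr), hr⟩)
  · by_cases h0 : p % 11 = 0
    · left
      have h11 : p = 11 := ((Nat.prime_dvd_prime_iff_eq (by norm_num) hp.out).1 (Nat.dvd_of_mod_eq_zero h0)).symm
      obtain ⟨f⟩ := L211.exists_equiv hc e
      refine end_real hc p fun g hg => conj_of_equiv f ?_
      rw [map_inv]
      refine L211.real_eleven _ (fun ho => hg ?_)
      rw [f.orderOf_eq] at ho
      rw [h11]
      exact ho
    · rcases end_unit hc p (h2 hr) with h | ⟨h, h'⟩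
      · exact Or.inl h
      · refine Or.inr (Or.inl ⟨h, h', ?_⟩)
        unfold L211.res at hr
        have := Nat.mod_lt p (show 0 < 11 by norm_num)
        omega

/-- `M_11` in characteristic three. -/
theorem end_m11 (hc : IsResidualCore H P) (p : ℕ) [hp : Fact p.Prime] [CharP F p] (h3 : p = 3)
    (e : Cfsg.Spor.IsoM11 (P ⧸ (scalars (Fin 5) F).subgroupOf P)) : Nat.card F = p := by
  obtain ⟨f⟩ := core_equiv hc (MulEquiv.refl _) (by
    rw [OddHalf.D6.QThree.PumpOrd.m11 e]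
    decide)
  apply end_lin hc p
  intro g
  have hfr : ∀ g : P, (((g : GL (Fin 5) F) : Matrix (Fin 5) (Fin 5) F).trace) ^ p ^ 1 =
      (((g ^ p : P) : GL (Fin 5) F) : Matrix (Fin 5) (Fin 5) F).trace := by
    intro g
    have := Five.trace_frob p g 1
    rw [← this, pow_one]
  have key := Five.trace_reg (P := P) p (iterateFrobenius F p 1) id (fun g k => rfl) (fun g hg => by
    rw [iterateFrobenius_def, hfr, id]
    apply Five.trace_conj
    apply conj_of_equiv f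
    rw [map_pow, h3]
    refine (H180.KM11.m11_conj_cube e _ ?_).symm
    rw [f.orderOf_eq, ← h3]
    exact hg) g
  rw [iterateFrobenius_def] at key
  exact key

/-- `U_4(2)` in characteristic at least five. -/
theorem end_u42 (hc : IsResidualCore H P) (p : ℕ) [hp : Fact p.Prime] [CharP F p] (h2 : p ≠ 2) (h3 : p ≠ 3)
    {K : Type} [Field K] [Fintype K] (hK : Fintype.card K = 4)
    (hconj : ∀ (g : Cfsg.PSU 4 K 2) (k : ℕ), k % 3 = 1 → Nat.Coprime k (orderOf g) → IsConj g (g ^ k))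
    (e : (P ⧸ (scalars (Fin 5) F).subgroupOf P) ≃* Cfsg.PSU 4 K 2) :
    Quad P ∨ (Nat.card F = p ^ 2 ∧ Unit P ∧ p % 6 = 5) ∨ (Nat.card F = p ∧ p % 6 = 1) := by
  have hcard : Nat.card (Cfsg.PSU 4 K 2) = 25920 := LargeExtra.WCEnd.card_psu_four hK
  obtain ⟨f⟩ := core_equiv hc e (by
    rw [hcard]
    decide)
  have hfr : ∀ g : P, (((g : GL (Fin 5) F) : Matrix (Fin 5) (Fin 5) F).trace) ^ p ^ 1 =
      (((g ^ p : P) : GL (Fin 5) F) : Matrix (Fin 5) (Fin 5) F).trace := by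
    intro g
    have := Five.trace_frob p g 1
    rw [← this, pow_one]
  have hodd : p % 2 = 1 := by
    rcases hp.out.eq_two_or_odd with h | h
    · exact absurd h h2
    · exact h
  have hp3 : p % 3 ≠ 0 := by
    intro h
    exact h3 ((Nat.prime_dvd_prime_iff_eq Nat.prime_three hp.out).1 (Nat.dvd_of_mod_eq_zero h)).symm
  have hcop : ∀ g : P, ¬ p ∣ orderOf g → Nat.Coprime p (orderOf (f g)) := by
    intro g hg
    rw [f.orderOf_eq]
    exact (Nat.Prime.coprime_iff_not_dvd hp.out).2 hg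
  by_cases h1 : p % 3 = 1
  · right; right
    refine ⟨end_lin hc p fun g => ?_, by omega⟩
    have key := Five.trace_reg (P := P) p (iterateFrobenius F p 1) id (fun g k => rfl) (fun g hg => by
      rw [iterateFrobenius_def, hfr, id]
      apply Five.trace_conj
      apply conj_of_equiv f
      rw [map_pow]
      exact (hconj (f g) p h1 (hcop g hg)).symm) g
    rw [iterateFrobenius_def] at key
    exact key
  · have hp2 : p % 3 = 2 := by (clear * - hp3 h1; omega)
    rcases end_unit hc p (fun g => by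
      have key := Five.trace_reg (P := P) p (iterateFrobenius F p 1) (fun g => g⁻¹) (fun g k => ((inv_pow g k).symm :))
        (fun g hg => by
        rw [iterateFrobenius_def, hfr]
        apply Five.trace_conj
        apply conj_of_equiv f
        rw [map_pow, map_inv]
        have hpos : 1 ≤ p := hp.out.one_le
        have h25 : f g ^ 25920 = 1 := by rw [← hcard]; exact pow_card_eq_one'
        have h4 := hconj (f g) (p * 25919) (by (clear * - hp2; omega)) (by
          refine Nat.Coprime.mul_left (hcop g hg) ?_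
          have h5 : orderOf (f g) ∣ 25920 := orderOf_dvd_of_pow_eq_one h25
          exact (Nat.Coprime.coprime_dvd_right h5 (by norm_num)))
        have h6 : f g ^ (p * 25919) = (f g ^ p)⁻¹ := by
          rw [eq_inv_iff_mul_eq_one, ← pow_add]
          have : p * 25919 + p = 25920 * p := by ring
          rw [this, pow_mul, h25, one_pow]
        rw [h6] at h4
        have h7 := L211.isConj_inv' h4
        rw [inv_inv] at h7
        exact h7.symm) g
      rw [iterateFrobenius_def] at key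
      exact key) with h | ⟨h, h'⟩
    · exact Or.inl h
    · exact Or.inr (Or.inl ⟨h, h', by omega⟩)

end Cfsg.Agent.H911.End5
end

-- part: H911/End5Final
section
/-!
# Dimension five: the conclusion for the small groups (helper911)
-/

set_option autoImplicit false
set_option linter.unusedSectionVars false

namespace Cfsg.Agent.H911.End5

open Cfsg Cfsg.Geo Matrix
open scoped MatrixGroups

variable {F : Type*} [Field F] [Finite F] {H P : Subgroup (GL (Fin 5) F)}

/-- The common conclusion: quadratic form; or the unitary rows; or the linear rows. -/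
def Concl (p : ℕ) (P : Subgroup (GL (Fin 5) F)) : Prop :=
  Quad P ∨
  (Nat.card F = p ^ 2 ∧ Unit P ∧
    ((Nonempty ((P ⧸ (scalars (Fin 5) F).subgroupOf P) ≃* ProjectiveSpecialLinearGroup (Fin 2) (ZMod 11)) ∧
      (p % 11 = 2 ∨ p % 11 = 6 ∨ p % 11 = 7 ∨ p % 11 = 8 ∨ p % 11 = 10)) ∨
     (H912.Five.IsU42 (P ⧸ (scalars (Fin 5) F).subgroupOf P) ∧ p % 6 = 5))) ∨
  (Nat.card F = p ∧
    ((Nonempty ((P ⧸ (scalars (Fin 5) F).subgroupOf P) ≃* ProjectiveSpecialLinearGroup (Fin 2) (ZMod 11)) ∧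
      (p % 11 = 1 ∨ p % 11 = 3 ∨ p % 11 = 4 ∨ p % 11 = 5 ∨ p % 11 = 9)) ∨
     (Cfsg.Spor.IsoM11 (P ⧸ (scalars (Fin 5) F).subgroupOf P) ∧ p = 3) ∨
     (H912.Five.IsU42 (P ⧸ (scalars (Fin 5) F).subgroupOf P) ∧ p % 6 = 1)))

theorem concl_small (hc : IsResidualCore H P) (p : ℕ) [hp : Fact p.Prime] [CharP F p]
    (h : H912.Five.Small5 p (P ⧸ (scalars (Fin 5) F).subgroupOf P)) : Concl p P := by
  rcases h with ⟨⟨e⟩⟩ | ⟨⟨e⟩⟩ | ⟨⟨e⟩⟩ | ⟨h2, ⟨e⟩⟩ | ⟨-, ⟨e⟩⟩ | ⟨-, ⟨e⟩⟩ | ⟨h2, h3, K, i1, i2, hK, ⟨e⟩⟩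
  · exact Or.inl (end_alt56 hc p (Or.inl rfl) e)
  · exact Or.inl (end_alt56 hc p (Or.inr rfl) e)
  · exact Or.inl (end_alt7 hc p e)
  · exact (end_alt8 hc p h2 e).elim
  · exact Or.inl (end_l27 hc p e)
  · rcases end_l211 hc p e with h | ⟨h1, h2, h3⟩ | ⟨h1, h2⟩
    · exact Or.inl h
    · exact Or.inr (Or.inl ⟨h1, h2, Or.inl ⟨⟨e⟩, h3⟩⟩)
    · exact Or.inr (Or.inr ⟨h1, Or.inl ⟨⟨e⟩, h2⟩⟩)
  · rcases end_u42 hc p h2 h3 hK (H180.u42_conj_pow hK) e with h | ⟨h1, h4, h5⟩ | ⟨h1, h4⟩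
    · exact Or.inl h
    · exact Or.inr (Or.inl ⟨h1, h4, Or.inr ⟨⟨K, i1, i2, hK, ⟨e⟩⟩, h5⟩⟩)
    · exact Or.inr (Or.inr ⟨h1, Or.inr (Or.inr ⟨⟨K, i1, i2, hK, ⟨e⟩⟩, h4⟩)⟩)

theorem concl_m11 (hc : IsResidualCore H P) (p : ℕ) [hp : Fact p.Prime] [CharP F p] (h3 : p = 3)
    (e : Cfsg.Spor.IsoM11 (P ⧸ (scalars (Fin 5) F).subgroupOf P)) : Concl p P :=
  Or.inr (Or.inr ⟨end_m11 hc p h3 e, Or.inr (Or.inl ⟨e, h3⟩)⟩)

end Cfsg.Agent.H911.End5
end

-- part: H912/ElevenMax
section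
/-!
# `L_2(11)` is not maximal in `SL_5(3)`
-/

set_option autoImplicit false

universe u

namespace Cfsg.Agent.H912.Eleven

open Matrix Cfsg Cfsg.Geo

section dat

open Cfsg.Agent.H911

theorem dat_of_equiv {P : Subgroup GG} (φ : TT ≃* P) : ∃ x y t : GG, Dat P x y t := by
  let f : TT →* GG := P.subtype.comp φ.toMonoidHom
  have hf : Function.Injective f := P.subtype_injective.comp φ.injective
  have hmem : ∀ z : TT, f z ∈ P := fun z => (φ z).2
  have hsurj : ∀ z ∈ P, ∃ w : TT, f w = z := by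
    intro z hz
    exact ⟨φ.symm ⟨z, hz⟩, by
      change ((φ (φ.symm ⟨z, hz⟩) : P) : GG) = z
      rw [MulEquiv.apply_symm_apply]⟩
  refine ⟨f (SLTwo.mk (SLTwo.U 1)), f (SLTwo.mk (SLTwo.hh L211.two)), f (SLTwo.mk SLTwo.ww), hmem _, hmem _, hmem _,
    ?_, ?_, ?_, ?_, ?_, ?_, ?_, ?_, ?_, ?_, ?_⟩
  · rw [← map_pow, u11, map_one]
  · intro h
    exact L211.U_ne_one (hf (h.trans (map_one f).symm))
  · rw [← map_pow, h5, map_one]
  · rw [← map_mul, ← map_inv, ← map_mul, L211.conj_four, map_pow]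
  · rw [← map_mul, w2, map_one]
  · rw [← map_mul, ← map_inv, ← map_mul, wh2, map_inv]
  · rw [← map_mul, ← map_mul, ← map_mul, uw3, map_one]
  · have h1 : P = (⊤ : Subgroup TT).map f := by
      apply le_antisymm
      · intro z hz
        obtain ⟨w, hw⟩ := hsurj z hz
        exact ⟨w, trivial, hw⟩
      · rintro _ ⟨w, -, rfl⟩
        exact hmem w
    conv_lhs => rw [h1, ← gen, MonoidHom.map_closure]
    congr 1
    rw [Set.image_insert_eq, Set.image_insert_eq, Set.image_singleton]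
  · intro z hz h11 h1
    obtain ⟨w, rfl⟩ := hsurj z hz
    obtain ⟨c, k, hk, hk0, hc⟩ := conj_eleven w (hf (by rw [map_pow, h11, map_one]))
      (fun h => h1 (by rw [h, map_one]))
    exact ⟨f c, hmem c, k, hk, hk0, by rw [← map_mul, ← map_inv, ← map_mul, hc, map_pow]⟩
  · intro z hz hzx
    obtain ⟨w, rfl⟩ := hsurj z hz
    obtain ⟨k, hk⟩ := cent w (hf (by rw [map_mul, map_mul, hzx]))
    exact ⟨k, by rw [hk, map_pow]⟩
  · rw [Nat.card_congr φ.symm.toEquiv]
    exact L211.card_T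

end dat

/-- over `F_3` -/
theorem exists_over {P H : Subgroup GG} (φ : TT ≃* P) (hPH : P ≤ H)
    (hn : ∀ g ∈ H, ∀ z ∈ P, g * z * g⁻¹ ∈ P) (hdet : ∀ g ∈ H, g.1.det = 1) :
    ∃ M : Subgroup GG, H ≤ M ∧ (∀ g ∈ M, g.1.det = 1) ∧ (∃ m ∈ M, m ∉ H) ∧ ∃ g : GG, g.1.det = 1 ∧ g ∉ M := by
  obtain ⟨x, y, t, h⟩ := dat_of_equiv φ
  obtain ⟨G, hG1, hG2⟩ : ∃ G : GG, (∀ g ∈ H, G⁻¹ * g * G ∈ MM) ∧ G * Wu * G⁻¹ ∉ H := by
    have h11 : x.1 ^ 11 = 1 := by
      have := congrArg Units.val h.x11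
      rwa [Units.val_pow_eq_pow_val] at this
    have h1 : x.1 ≠ 1 := fun h2 => h.x1 (Units.ext h2)
    rcases f1_or_f2 h11 h1 with hf | hf
    · exact h.main hf hPH hn hdet
    · exact h.inv.main (f1_inv x.mul_inv x.inv_mul hf) hPH hn hdet
  have hdc : ∀ g : GG, (G * g * G⁻¹).1.det = g.1.det := by
    intro g
    have e2 : (G * g * G⁻¹).1 = G.1 * g.1 * (G⁻¹).1 := rfl
    have e3 : G.1 * (G⁻¹).1 = 1 := G.mul_inv
    have e4 := congrArg Matrix.det e3
    rw [Matrix.det_mul, Matrix.det_one] at e4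
    rw [e2, Matrix.det_mul, Matrix.det_mul]
    linear_combination g.1.det * e4
  refine ⟨MM.map (MulAut.conj G).toMonoidHom, ?_, ?_, ?_, ?_⟩
  · intro g hg
    refine ⟨_, hG1 g hg, ?_⟩
    change G * (G⁻¹ * g * G) * G⁻¹ = g
    group
  · rintro _ ⟨m, hm, rfl⟩
    change (G * m * G⁻¹).1.det = 1
    rw [hdc]
    exact hm.1
  · exact ⟨G * Wu * G⁻¹, ⟨Wu, W_mem, rfl⟩, hG2⟩
  · refine ⟨G * Xu * G⁻¹, by rw [hdc]; exact det_X, ?_⟩
    rintro ⟨m, hm, hm2⟩
    apply X_notMem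
    have h3 : G * m * G⁻¹ = G * Xu * G⁻¹ := hm2
    have h4 : m = Xu := mul_left_cancel (mul_right_cancel h3)
    rwa [← h4]

/-- **`L_2(11)` is not maximal in `SL_5(3)`.** -/
theorem not_isMaximalIn {F : Type u} [Field F] [Finite F] (h3 : Nat.card F = 3)
    {H P : Subgroup (GL (Fin 5) F)} (hc : IsResidualCore H P)
    (e : (P ⧸ (scalars (Fin 5) F).subgroupOf P) ≃* ProjectiveSpecialLinearGroup (Fin 2) (ZMod 11)) :
    ¬ IsMaximalIn (specialLinear (Fin 5) F) H := by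
  intro hmax
  obtain ⟨φ⟩ := H911.L211.exists_equiv hc e
  have : Fintype F := Fintype.ofFinite F
  obtain ⟨ε⟩ : Nonempty (F ≃+* K) :=
    ⟨(ZMod.ringEquivOfPrime F Nat.prime_three (by rw [← Nat.card_eq_fintype_card, h3])).symm⟩
  have hone : ∀ a : F, ε a = 1 ↔ a = 1 := by
    intro a
    exact map_eq_one_iff ε (RingEquiv.injective ε)
  let E : GL (Fin 5) F ≃* GG := Units.mapEquiv (RingEquiv.mapMatrix ε : Matrix (Fin 5) (Fin 5) F ≃+* M5).toMulEquiv
  have hE : ∀ g : GL (Fin 5) F, (E g).1 = ε.toRingHom.mapMatrix g.1 := fun g => rfl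
  have hdet : ∀ g : GL (Fin 5) F, (E g).1.det = ε (g.1.det) := by
    intro g
    rw [hE, ← RingHom.map_det]
    rfl
  have hSL : ∀ g : GL (Fin 5) F, g ∈ specialLinear (Fin 5) F ↔ (E g).1.det = 1 := by
    intro g
    rw [hdet]
    have h1 : g ∈ specialLinear (Fin 5) F ↔ g.1.det = 1 := by
      have h2 : g ∈ specialLinear (Fin 5) F ↔ Matrix.GeneralLinearGroup.det g = 1 := Iff.rfl
      rw [h2, Units.ext_iff, Units.val_one, Matrix.GeneralLinearGroup.val_det_apply]
    rw [h1]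
    exact (hone _).symm
  obtain ⟨M, hHM, hM1, ⟨m, hm, hmH⟩, ⟨g, hg1, hgM⟩⟩ := exists_over (P := P.map E.toMonoidHom) (H := H.map E.toMonoidHom)
    (φ.symm.trans (P.equivMapOfInjective E.toMonoidHom E.injective)) (Subgroup.map_mono hc.le) (by
      rintro _ ⟨h, hh, rfl⟩ _ ⟨z, hz, rfl⟩
      exact ⟨h * z * h⁻¹, hc.normal h hh z hz, by rw [map_mul, map_mul, map_inv]⟩) (by
      rintro _ ⟨h, hh, rfl⟩
      exact (hSL h).1 (hmax.1.le hh))
  have h1 : H ≤ M.comap E.toMonoidHom := by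
    intro h hh
    exact hHM ⟨h, hh, rfl⟩
  have h2 : M.comap E.toMonoidHom ≤ specialLinear (Fin 5) F := by
    intro h hh
    exact (hSL h).2 (hM1 _ hh)
  rcases hmax.2 _ h1 h2 with h | h
  · apply hmH
    have h4 : E.symm m ∈ M.comap E.toMonoidHom := by
      change E (E.symm m) ∈ M
      rwa [MulEquiv.apply_symm_apply]
    rw [h] at h4
    exact ⟨E.symm m, h4, E.apply_symm_apply m⟩
  · apply hgM
    have h4 : E.symm g ∈ specialLinear (Fin 5) F := by
      rw [hSL, MulEquiv.apply_symm_apply]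
      exact hg1
    rw [← h] at h4
    have h5 : E (E.symm g) ∈ M := h4
    rwa [MulEquiv.apply_symm_apply] at h5

end Cfsg.Agent.H912.Eleven
end

-- part: H912/FiveMain
section
/-!
# Degree five: from the list to the statements

`five_linear`, `five_unitary`: the conclusions of the linear and unitary rows, given the list of possible socles.
-/

set_option autoImplicit false
set_option linter.unusedSectionVars false

universe u v

namespace Cfsg.Agent.H912.Five

open Cfsg Cfsg.Geo Matrix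
open scoped MatrixGroups

variable {F : Type u} [Field F] [Fintype F] {H P : Subgroup (GL (Fin 5) F)}

/-- The list. -/
def List5 (p : ℕ) (T : Type v) [Group T] : Prop :=
  Small5 p T ∨ IsLieTypeChar p T ∨ (p = 3 ∧ Spor.IsoM11 T)

theorem five_linear (hH : IsMaximalIn (specialLinear (Fin 5) F) H) (hc : IsResidualCore H P)
    (hQ : ¬ ∃ Q : (Fin 5 → F) → F, IsNondegenerateQuadraticForm Q ∧ FixesQuadForm (matrixSet P) Q)
    (hA : ¬ ∃ f : (Fin 5 → F) → (Fin 5 → F) → F, IsSymplecticForm f ∧ FixesForm (matrixSet P) f)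
    (hU : ¬ ∃ (σ : F ≃+* F) (f : (Fin 5 → F) → (Fin 5 → F) → F), IsUnitaryForm σ f ∧ FixesForm (matrixSet P) f)
    (p : ℕ) [hp : Fact p.Prime] [CharP F p] (hl : List5 p (P ⧸ (scalars (Fin 5) F).subgroupOf P)) :
    Fintype.card F = p ∧
    ((Nonempty ((P ⧸ (scalars (Fin 5) F).subgroupOf P) ≃* ProjectiveSpecialLinearGroup (Fin 2) (ZMod 11)) ∧
        p ≠ 3 ∧ (p % 11 = 1 ∨ p % 11 = 3 ∨ p % 11 = 4 ∨ p % 11 = 5 ∨ p % 11 = 9)) ∨
      (Spor.IsoM11 (P ⧸ (scalars (Fin 5) F).subgroupOf P) ∧ p = 3) ∨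
      (IsU42 (P ⧸ (scalars (Fin 5) F).subgroupOf P) ∧ p % 6 = 1)) := by
  have key : ∀ h : H911.End5.Concl p P, Fintype.card F = p ∧
      ((Nonempty ((P ⧸ (scalars (Fin 5) F).subgroupOf P) ≃* ProjectiveSpecialLinearGroup (Fin 2) (ZMod 11)) ∧
        p ≠ 3 ∧ (p % 11 = 1 ∨ p % 11 = 3 ∨ p % 11 = 4 ∨ p % 11 = 5 ∨ p % 11 = 9)) ∨
      (Spor.IsoM11 (P ⧸ (scalars (Fin 5) F).subgroupOf P) ∧ p = 3) ∨
      (IsU42 (P ⧸ (scalars (Fin 5) F).subgroupOf P) ∧ p % 6 = 1)) := by
    rintro (h | ⟨-, h, -⟩ | ⟨h1, h⟩)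
    · exact (hQ h).elim
    · exact (hU h).elim
    · refine ⟨by rw [← Nat.card_eq_fintype_card, h1], ?_⟩
      rcases h with ⟨⟨e⟩, h2⟩ | h | h
      · refine Or.inl ⟨⟨e⟩, ?_, h2⟩
        intro h3
        exact Eleven.not_isMaximalIn (by rw [h1, h3]) hc e hH
      · exact Or.inr (Or.inl h)
      · exact Or.inr (Or.inr h)
  rcases hl with h | h | ⟨h3, h⟩
  · exact key (H911.End5.concl_small hc p h)
  · exfalso
    have := hc.simple
    rcases H905.Md.dc_linear p hc.absIrred hc.perfect hc.no_subfield (le_refl 5) h with h1 | (h1 | h1) | h1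
    · have h2 : specialLinear (Fin 5) F ≤ H := h1 ▸ hc.le
      exact absurd hH.1 (not_lt_of_ge h2)
    · exact hQ h1
    · exact hA h1
    · exact hU h1
  · exact key (H911.End5.concl_m11 hc p h3 h)

/-- `P ≤ GU(5, q)` is the natural `SU(5, q)`, or of smaller degree. -/
theorem five_unitary {q : ℕ} (hF : Fintype.card F = q ^ 2)
    (hH : IsMaximalIn (GU 5 F q ⊓ specialLinear (Fin 5) F) H) (hc : IsResidualCore H P)
    (hQ : ¬ ∃ Q : (Fin 5 → F) → F, IsNondegenerateQuadraticForm Q ∧ FixesQuadForm (matrixSet P) Q)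
    (hA : ¬ ∃ f : (Fin 5 → F) → (Fin 5 → F) → F, IsSymplecticForm f ∧ FixesForm (matrixSet P) f)
    (p : ℕ) [hp : Fact p.Prime] [CharP F p] (hl : List5 p (P ⧸ (scalars (Fin 5) F).subgroupOf P))
    (hsm : ∀ (K : Type) [Field K] [Fintype K] [CharP K p] (N r : ℕ), Fintype.card K = r ^ 2 → N = 3 ∨ N = 4 →
      ¬ (N = 3 ∧ r = 2) → ((P ⧸ (scalars (Fin 5) F).subgroupOf P) ≃* PSU N K r) → False) :
    q = p ∧
    ((Nonempty ((P ⧸ (scalars (Fin 5) F).subgroupOf P) ≃* ProjectiveSpecialLinearGroup (Fin 2) (ZMod 11)) ∧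
        (p % 11 = 2 ∨ p % 11 = 6 ∨ p % 11 = 7 ∨ p % 11 = 8 ∨ p % 11 = 10)) ∨
      (IsU42 (P ⧸ (scalars (Fin 5) F).subgroupOf P) ∧ p % 6 = 5)) := by
  have hPU : P ≤ GU 5 F q := (hc.le.trans hH.1.le).trans inf_le_left
  have key : ∀ h : H911.End5.Concl p P, q = p ∧
      ((Nonempty ((P ⧸ (scalars (Fin 5) F).subgroupOf P) ≃* ProjectiveSpecialLinearGroup (Fin 2) (ZMod 11)) ∧
        (p % 11 = 2 ∨ p % 11 = 6 ∨ p % 11 = 7 ∨ p % 11 = 8 ∨ p % 11 = 10)) ∨
      (IsU42 (P ⧸ (scalars (Fin 5) F).subgroupOf P) ∧ p % 6 = 5)) := by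
    rintro (h | ⟨h1, -, h⟩ | ⟨h1, -⟩)
    · exact (hQ h).elim
    · refine ⟨?_, h⟩
      rw [Nat.card_eq_fintype_card, hF] at h1
      exact Nat.pow_left_injective (two_ne_zero) h1
    · exfalso
      rw [Nat.card_eq_fintype_card, hF] at h1
      exact Nat.Prime.not_prime_pow (x := q) (le_refl 2) (h1 ▸ hp.out)
  rcases hl with h | h | ⟨h3, h⟩
  · exact key (H911.End5.concl_small hc p h)
  · exfalso
    have := hc.simple
    rcases H905.Md.dc_small p hc.absIrred hc.perfect hc.no_subfield (le_refl 5) h with h1 |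
      h1 | ⟨K, i1, i2, i3, N, r, hK, hN3, hN5, h32, ⟨e⟩, -⟩
    · have h2 : specialLinear (Fin 5) F ≤ H := h1 ▸ hc.le
      exact absurd hH.1 (not_lt_of_ge (inf_le_right.trans h2))
    · rcases H905.Md.quad_or_symp (by rw [Fintype.card_fin]; norm_num) hc.absIrred h1 with h2 | h2
      · exact hQ h2
      · exact hA h2
    · rcases (show N = 5 ∨ N = 3 ∨ N = 4 by omega) with rfl | hN
      · have h2 := (H48.NatSU.psu_eq (H915.LD.core_of_residual hc) p hF hPU hK hN3 h32 e rfl).2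
        exact absurd hH.1 (not_lt_of_ge (h2 ▸ hc.le))
      · exact hsm K N r hK hN h32 e
  · exact key (H911.End5.concl_m11 hc p h3 h)

end Cfsg.Agent.H912.Five
end

-- part: H912/FiveList2
section
/-!
# The list in degree five: the exceptional groups in cross characteristic do not occur
-/

set_option autoImplicit false

universe u v

namespace Cfsg.Agent.H912.Five

open Cfsg Cfsg.Agent.H912.Bd

theorem five_list₁ {F : Type u} [Field F] [Finite F] {p : ℕ} [CharP F p] [hp : Fact p.Prime]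
    (P : Subgroup (Matrix.GeneralLinearGroup (Fin 5) F)) (hP : ⁅P, P⁆ = P) {T : Type v} [Group T] (hk : IsKnownSimple' T)
    (hT : ¬ IsMulCommutative T)
    (e : (P ⧸ (Cfsg.Geo.scalars (Fin 5) F).subgroupOf P) ≃* T) :
    Small5 p T ∨ IsLieTypeChar p T ∨ Lie.IsoTits T ∨ IsSporadicGroup T := by
  rcases five_list₀ (p := p) P hP hk hT e with h | h | ⟨r, hr, hrp, h, hPR⟩ | h | h
  · exact Or.inl h
  · exact Or.inr (Or.inl h)
  · exfalso
    have hrF : (r : F) ≠ 0 := by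
      intro h0
      exact hrp ((Nat.prime_dvd_prime_iff_eq hp.out hr).1 ((CharP.cast_eq_zero_iff F p r).1 h0)).symm
    have : Nontrivial T := by
      by_contra hcon
      rw [not_nontrivial_iff_subsingleton] at hcon
      exact hT ⟨⟨fun a b => Subsingleton.elim _ _⟩⟩
    rcases exc_cross hr hrF P hP e (by norm_num) h with ⟨-, h6, -⟩ | ⟨rfl, h1⟩ | ⟨rfl, h1⟩ | ⟨-, h7, -⟩
    · omega
    · obtain ⟨K, i1, i2, hK, ⟨e'⟩⟩ := h1
      have : Fact (Nat.Prime 2) := ⟨Nat.prime_two⟩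
      have : CharP K 2 := charP_of_card_eq_prime_pow (f := 2) hK
      have h15 := bd_g2 (K := K) (F := F) Nat.prime_two hrF 5 (hPR.sub e'.symm.toMonoidHom e'.symm.injective)
      rw [Nat.card_eq_fintype_card, hK] at h15
      omega
    · obtain ⟨K, i1, i2, hK, ⟨e'⟩⟩ := h1
      have h16 := le_of_ls (Cfsg.Agent.H203.LS.LS.congr e'.symm (Cfsg.Agent.H936.F42.ls_f4_two hK)) hrF P hP e
      omega
    · omega
  · exact Or.inr (Or.inr (Or.inl h))
  · exact Or.inr (Or.inr (Or.inr h))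

end Cfsg.Agent.H912.Five
end

-- part: H912/FiveFinal
section
/-!
# Degree five: the statements, given the classification as a hypothesis
-/

set_option autoImplicit false
set_option linter.unusedSectionVars false

universe u v

namespace Cfsg.Agent.H912.Five

open Cfsg Cfsg.Geo Matrix
open scoped MatrixGroups

variable {F : Type u} [Field F] [Fintype F] {H P : Subgroup (GL (Fin 5) F)}

/-- **The list of socles in degree five.** -/
theorem list5 (hc : IsResidualCore H P) (p : ℕ) [hp : Fact p.Prime] [CharP F p]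
    (hk : IsKnownSimple' (P ⧸ (scalars (Fin 5) F).subgroupOf P)) :
    List5 p (P ⧸ (scalars (Fin 5) F).subgroupOf P) := by
  have hS : Lie.IsoTits (P ⧸ (scalars (Fin 5) F).subgroupOf P) ∨
      IsSporadicGroup (P ⧸ (scalars (Fin 5) F).subgroupOf P) →
      p = 3 ∧ Spor.IsoM11 (P ⧸ (scalars (Fin 5) F).subgroupOf P) := by
    intro h
    obtain ⟨h1, h2⟩ := H921.Spor.core_five (H915.LD.core_of_residual hc) h.symm
    refine ⟨?_, h1⟩
    have h3 : p ∣ 3 := (CharP.cast_eq_zero_iff F p 3).1 (by exact_mod_cast h2)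
    exact (Nat.prime_dvd_prime_iff_eq hp.out Nat.prime_three).1 h3
  rcases five_list₁ (p := p) P hc.perfect hk hc.nonabelian (MulEquiv.refl _) with h | h | h | h
  · exact Or.inl h
  · exact Or.inr (Or.inl h)
  · exact Or.inr (Or.inr (hS (Or.inl h)))
  · exact Or.inr (Or.inr (hS (Or.inr h)))

theorem exists_char (F : Type u) [Field F] [Fintype F] : ∃ p : ℕ, p.Prime ∧ CharP F p := by
  obtain ⟨p, hp⟩ := CharP.exists F
  exact ⟨p, CharP.char_is_prime F p, hp⟩

/-- Row 5794. -/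
theorem row5794 (hk : ∀ (T : Type u) [Group T] [Finite T] [IsSimpleGroup T], IsKnownSimple' T)
    (hH : IsMaximalIn (specialLinear (Fin 5) F) H) (hS : InLinearResidualClass H) :
    ∃ (P : Subgroup (GL (Fin 5) F)) (p : ℕ), IsResidualCore H P ∧ p.Prime ∧ Fintype.card F = p ∧
    ((Nonempty ((P ⧸ (scalars (Fin 5) F).subgroupOf P) ≃* ProjectiveSpecialLinearGroup (Fin 2) (ZMod 11)) ∧
        p ≠ 3 ∧ (p % 11 = 1 ∨ p % 11 = 3 ∨ p % 11 = 4 ∨ p % 11 = 5 ∨ p % 11 = 9)) ∨
      (Spor.IsoM11 (P ⧸ (scalars (Fin 5) F).subgroupOf P) ∧ p = 3) ∨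
      (IsU42 (P ⧸ (scalars (Fin 5) F).subgroupOf P) ∧ p % 6 = 1)) := by
  obtain ⟨P, hc, hQ, hA, hU⟩ := hS
  obtain ⟨p, hp, hFp⟩ := exists_char F
  have := Fact.mk hp
  have := hc.simple
  obtain ⟨h1, h2⟩ := five_linear hH hc hQ hA hU p (list5 hc p (hk _))
  exact ⟨P, p, hc, hp, h1, h2⟩

end Cfsg.Agent.H912.Five
end
end
end
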